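/-
Canonical lifts of double transpositions in a central extension of an alternating group of degree twelve,
and the kernel of a minimal preimage with central two-part.
-/
import Cfsg.Agent.Lib.AltSection.Main
import Cfsg.Agent.Lib.Chev.AltSect.Lift
import Mathlib.GroupTheory.Transfer
import Mathlib.GroupTheory.Sylow

set_option autoImplicit false
set_option maxRecDepth 100000

namespace CfsgLib.Chev.E6Alt

open Equiv CfsgLib.AltSection
open scoped commutatorElement

section cov

variable {G : Type*} [Group G] {π : G →* Perm (Fin 12)}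

/-- the canonical lift of `(a b)(c d)` -/
noncomputable def uu (π : G →* Perm (Fin 12)) (a b c d : Fin 12) : G := ⁅T π a b c, lft π (dt b c a d)⁆

theorem dt_prod : ∀ a b c d : Fin 12, D4 a b c d →
    cyc a b c * dt b c a d * (cyc a b c)⁻¹ * (dt b c a d)⁻¹ = dt a b c d := by
  intro a b c d h
  obtain ⟨σ, hσ⟩ : ∃ σ : Perm (Fin 12), σ 0 = a ∧ σ 1 = b ∧ σ 2 = c ∧ σ 3 = d := by
    obtain ⟨hab, hac, had, hbc, hbd, hcd⟩ := h
    let s1 := swap (0 : Fin 12) a
    let s2 := swap (s1 1) b * s1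
    let s3 := swap (s2 2) c * s2
    let s4 := swap (s3 3) d * s3
    have e1 : s1 0 = a := swap_apply_left _ _
    have e20 : s2 0 = a := by
      show swap (s1 1) b (s1 0) = a
      rw [e1, swap_apply_of_ne_of_ne (fun e => absurd (s1.injective (e1.trans e)) (by decide)) hab]
    have e21 : s2 1 = b := swap_apply_left _ _
    have e30 : s3 0 = a := by
      show swap (s2 2) c (s2 0) = a
      rw [e20, swap_apply_of_ne_of_ne (fun e => absurd (s2.injective (e20.trans e)) (by decide)) hac]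
    have e31 : s3 1 = b := by
      show swap (s2 2) c (s2 1) = b
      rw [e21, swap_apply_of_ne_of_ne (fun e => absurd (s2.injective (e21.trans e)) (by decide)) hbc]
    have e32 : s3 2 = c := swap_apply_left _ _
    refine ⟨s4, ?_, ?_, ?_, swap_apply_left _ _⟩
    · show swap (s3 3) d (s3 0) = a
      rw [e30, swap_apply_of_ne_of_ne (fun e => absurd (s3.injective (e30.trans e)) (by decide)) had]
    · show swap (s3 3) d (s3 1) = b
      rw [e31, swap_apply_of_ne_of_ne (fun e => absurd (s3.injective (e31.trans e)) (by decide)) hbd]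
    · show swap (s3 3) d (s3 2) = c
      rw [e32, swap_apply_of_ne_of_ne (fun e => absurd (s3.injective (e32.trans e)) (by decide)) hcd]
  obtain ⟨rfl, rfl, rfl, rfl⟩ := hσ
  have key : cyc (0 : Fin 12) 1 2 * dt 1 2 0 3 * (cyc (0 : Fin 12) 1 2)⁻¹ * (dt (1 : Fin 12) 2 0 3)⁻¹ = dt 0 1 2 3 := by
    decide +kernel
  have h2 := congrArg (fun x => σ * x * σ⁻¹) key
  rw [← conj_cyc, ← conj_dt, ← conj_dt, ← h2]
  group

variable (hπ : Cov π)
include hπ

theorem map_uu {a b c d : Fin 12} (h : D4 a b c d) : π (uu π a b c d) = dt a b c d := by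
  obtain ⟨hab, hac, had, hbc, hbd, hcd⟩ := id h
  rw [uu, map_commutatorElement, hπ.map_T ⟨hab, hac, hbc⟩, hπ.map_lft_dt, commutatorElement_def]
  exact dt_prod a b c d h

/-- equivariance -/
theorem conj_uu {a b c d : Fin 12} (h : D4 a b c d) (g : G) :
    g * uu π a b c d * g⁻¹ = uu π (π g a) (π g b) (π g c) (π g d) := by
  obtain ⟨hab, hac, had, hbc, hbd, hcd⟩ := id h
  rw [uu, uu, conjugate_commutatorElement, hπ.conj_T ⟨hab, hac, hbc⟩]
  refine hπ.comm_center ?_ _
  rw [map_mul, map_mul, map_inv, hπ.map_lft_dt, hπ.map_lft_dt, conj_dt]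

/-- a lift of the rotation moves the canonical lifts along -/
theorem rot_uu {a b c d : Fin 12} (h : D4 a b c d) :
    T π a b c * uu π a b c d * (T π a b c)⁻¹ = uu π b c a d := by
  obtain ⟨hab, hac, had, hbc, hbd, hcd⟩ := id h
  rw [conj_uu hπ h, hπ.map_T ⟨hab, hac, hbc⟩]
  have e : cyc a b c a = b ∧ cyc a b c b = c ∧ cyc a b c c = a ∧ cyc a b c d = d :=
    ⟨cyc_apply_fst hac hbc, cyc_apply_snd hab hac, cyc_apply_thd hab hac hbc,
      cyc_apply_other had.symm hbd.symm hcd.symm⟩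
  rw [e.1, e.2.1, e.2.2.1, e.2.2.2]

/-- the three lifts of a four-group multiply to one -/
theorem prod_uu {a b c d : Fin 12} (h : D4 a b c d) :
    uu π c a b d * uu π b c a d * uu π a b c d = 1 := by
  obtain ⟨hab, hac, had, hbc, hbd, hcd⟩ := id h
  set t := T π a b c with ht
  have ht3 : t ^ 3 = 1 := hπ.T_pow_three ⟨hab, hac, hbc⟩
  have h' : D4 b c a d := ⟨hbc, hab.symm, hbd, hac.symm, hcd, had⟩
  have r1 := rot_uu hπ h
  have r2 := rot_uu hπ h'
  rw [hπ.T_rot ⟨hab, hac, hbc⟩, ← ht] at r2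
  rw [← ht] at r1
  rw [← r2, ← r1]
  rw [uu, ← ht, commutatorElement_def]
  set C := lft π (dt b c a d)
  calc t * (t * (t * C * t⁻¹ * C⁻¹) * t⁻¹) * t⁻¹ * (t * (t * C * t⁻¹ * C⁻¹) * t⁻¹) * (t * C * t⁻¹ * C⁻¹)
      = (t * t * t) * C * (t * t * t)⁻¹ * C⁻¹ := by group
    _ = 1 := by rw [show t * t * t = 1 by rw [← ht3, pow_three]; group]; group

/-- the sign of the four-groups -/
theorem comm_uu {a b c d : Fin 12} (h : D4 a b c d) :
    ⁅uu π a b c d, uu π b c a d⁆ = ⁅uu π 0 1 2 3, uu π 1 2 0 3⁆ := by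
  obtain ⟨g, ga, gb, gc, gd⟩ := hπ.exists_map_four (show D4 (0 : Fin 12) 1 2 3 by unfold D4; decide) h
  have e := conjugate_commutatorElement (uu π 0 1 2 3) (uu π 1 2 0 3) g
  rw [conj_uu hπ (by unfold D4; decide), conj_uu hπ (by unfold D4; decide), ga, gb, gc, gd] at e
  rw [← e]
  have hc : π ⁅uu π 0 1 2 3, uu π 1 2 0 3⁆ = 1 := by
    rw [map_commutatorElement, map_uu hπ (by unfold D4; decide), map_uu hπ (by unfold D4; decide)]
    decide +kernel
  rw [hπ.central' hc g, mul_inv_cancel_right]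

theorem sq_one_sign : ⁅uu π 0 1 2 3, uu π 1 2 0 3⁆ * ⁅uu π 0 1 2 3, uu π 1 2 0 3⁆ = 1 := by
  set x := uu π 0 1 2 3
  set y := uu π 1 2 0 3
  set c := ⁅x, y⁆ with hc
  have hc1 : π c = 1 := by
    rw [hc, map_commutatorElement, map_uu hπ (by unfold D4; decide), map_uu hπ (by unfold D4; decide)]
    decide +kernel
  have hx2 : π (x * x) = 1 := by rw [map_mul, map_uu hπ (by unfold D4; decide)]; decide +kernel
  have h1 : ⁅x * x, y⁆ = 1 := commutatorElement_eq_one_iff_commute.2 (hπ.central _ hx2 y)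
  have h2 : ⁅x * x, y⁆ = x * c * x⁻¹ * c := by rw [hc]; simp only [commutatorElement_def]; group
  rw [h2, hπ.central' hc1 x, mul_inv_cancel_right] at h1
  exact h1

/-- lifts of a four-group square to the sign -/
theorem sq_uu (h2 : ∀ z : G, π z = 1 → z * z * z = 1 → z = 1) {a b c d : Fin 12} (h : D4 a b c d) :
    uu π a b c d * uu π a b c d = ⁅uu π 0 1 2 3, uu π 1 2 0 3⁆ := by
  obtain ⟨hab, hac, had, hbc, hbd, hcd⟩ := id h
  have h' : D4 b c a d := ⟨hbc, hab.symm, hbd, hac.symm, hcd, had⟩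
  have h'' : D4 c a b d := ⟨hac.symm, hbc.symm, hcd, hab, had, hbd⟩
  set A := uu π a b c d with hA
  set B := uu π b c a d with hB
  set C := uu π c a b d with hC
  set ε := ⁅uu π 0 1 2 3, uu π 1 2 0 3⁆ with hε
  have hAB : ⁅A, B⁆ = ε := comm_uu hπ h
  have hs1 : π (A * A) = 1 := by
    rw [map_mul, hA, map_uu hπ h]
    exact dt_sq h
  have hε1 : π ε = 1 := by
    rw [hε, map_commutatorElement, map_uu hπ (by unfold D4; decide), map_uu hπ (by unfold D4; decide)]
    decide +kernel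
  -- the squares agree
  have eB : B * B = A * A := by
    have r := rot_uu hπ h
    rw [← hA, ← hB] at r
    rw [← r, show T π a b c * A * (T π a b c)⁻¹ * (T π a b c * A * (T π a b c)⁻¹) =
      T π a b c * (A * A) * (T π a b c)⁻¹ by group, hπ.central' hs1, mul_inv_cancel_right]
  have eC : C * C = A * A := by
    have r := rot_uu hπ h'
    rw [← hB, ← hC] at r
    have hs2 : π (B * B) = 1 := by rw [eB, hs1]
    rw [← r, show T π b c a * B * (T π b c a)⁻¹ * (T π b c a * B * (T π b c a)⁻¹) =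
      T π b c a * (B * B) * (T π b c a)⁻¹ by group, hπ.central' hs2, mul_inv_cancel_right, eB]
  have hCv : C = A⁻¹ * B⁻¹ := by
    have h := prod_uu hπ h
    rw [← hA, ← hB, ← hC, mul_assoc] at h
    rw [eq_inv_of_mul_eq_one_left h, mul_inv_rev]
  -- compare
  have cA := hπ.central _ hs1
  have cε := hπ.central _ hε1
  have hBA : A * B = ε * (B * A) := by rw [← hAB, commutatorElement_def]; group
  have key : A * A * (A * A) * (A * A) = ε := by
    have e1 : C * C * (A * A * (B * B)) = ε := by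
      rw [hCv]
      calc A⁻¹ * B⁻¹ * (A⁻¹ * B⁻¹) * (A * A * (B * B))
          = A⁻¹ * B⁻¹ * A⁻¹ * (B⁻¹ * (A * A)) * (B * B) := by group
        _ = A⁻¹ * B⁻¹ * A⁻¹ * ((A * A) * B⁻¹) * (B * B) := by rw [← (cA B⁻¹).eq]
        _ = A⁻¹ * B⁻¹ * (A * B) := by group
        _ = A⁻¹ * B⁻¹ * (ε * (B * A)) := by rw [hBA]
        _ = A⁻¹ * B⁻¹ * ((B * A) * ε) := by rw [(cε (B * A)).eq]
        _ = ε := by group
    rw [eC, eB, ← mul_assoc] at e1
    exact e1
  have hε2 : ε * ε = 1 := sq_one_sign hπ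
  have hz : (A * A * ε) = 1 := by
    refine h2 _ (by rw [map_mul, hs1, hε1, mul_one]) ?_
    rw [show A * A * ε * (A * A * ε) * (A * A * ε) = A * A * (ε * (A * A)) * (ε * (A * A)) * ε by group,
      (cε (A * A)).eq,
      show A * A * (A * A * ε) * (A * A * ε) * ε = A * A * (A * A) * (ε * (A * A)) * (ε * ε) by group,
      (cε (A * A)).eq, hε2, mul_one,
      show A * A * (A * A) * (A * A * ε) = A * A * (A * A) * (A * A) * ε by group, key, hε2]
  rw [eq_inv_of_mul_eq_one_left hz, inv_eq_of_mul_eq_one_right hε2]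

end cov

/-! ### minimal preimages -/

/-- a minimal group over the alternating group of degree twelve with central two-part -/
structure Min {G : Type*} [Group G] (π : G →* Perm (Fin 12)) : Prop where
  range : π.range = alternatingGroup (Fin 12)
  min : ∀ H : Subgroup G, H.map π = alternatingGroup (Fin 12) → H = ⊤
  two : ∀ O : Subgroup G, O.Normal → IsPGroup 2 ↥O → O ≤ Subgroup.center G

/-- the commutator subgroup of a minimal preimage is everything -/
theorem perfect_of_min {G : Type*} [Group G] {π : G →* Perm (Fin 12)}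
    (hrange : π.range = alternatingGroup (Fin 12))
    (hmin : ∀ H : Subgroup G, H.map π = alternatingGroup (Fin 12) → H = ⊤) : commutator G = ⊤ := by
  rcases normal_cases (by norm_num : 9 ≤ 12) hrange hmin (commutator G) with h | h
  · exfalso
    obtain ⟨x, hx⟩ : cyc (0 : Fin 12) 1 2 ∈ π.range := hrange ▸ cyc_mem _ _ _
    obtain ⟨y, hy⟩ : cyc (1 : Fin 12) 2 3 ∈ π.range := hrange ▸ cyc_mem _ _ _
    have hk := h (show ⁅x, y⁆ ∈ commutator G from Subgroup.commutator_mem_commutator (Subgroup.mem_top _) (Subgroup.mem_top _))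
    rw [MonoidHom.mem_ker, map_commutatorElement, hx, hy] at hk
    exact absurd hk (by decide +kernel)
  · exact h

/-- an element with central commutators is central in a perfect group -/
theorem central_of_comm {G : Type*} [Group G] (hp : commutator G = ⊤) {x : G}
    (h : ∀ g : G, ⁅g, x⁆ ∈ Subgroup.center G) : x ∈ Subgroup.center G := by
  let f : G →* ↥(Subgroup.center G) :=
    { toFun := fun g => ⟨⁅g, x⁆, h g⟩
      map_one' := Subtype.ext (commutatorElement_one_left x)
      map_mul' := fun a b => Subtype.ext <| by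
        show ⁅a * b, x⁆ = ⁅a, x⁆ * ⁅b, x⁆
        have hb := Subgroup.mem_center_iff.1 (h b)
        rw [← Subgroup.mem_center_iff.1 (h a) ⁅b, x⁆]
        calc ⁅a * b, x⁆ = a * ⁅b, x⁆ * a⁻¹ * ⁅a, x⁆ := by simp only [commutatorElement_def]; group
          _ = ⁅b, x⁆ * ⁅a, x⁆ := by rw [hb a, mul_inv_cancel_right] }
  have hk : f.ker = ⊤ := top_le_iff.1 (hp ▸ ((Subgroup.commutator_le.2 fun a _ b _ => by
    rw [MonoidHom.mem_ker, map_commutatorElement, commutatorElement_eq_one_iff_commute]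
    exact Subtype.ext (Subgroup.mem_center_iff.1 (f b).2 _)) : commutator G ≤ f.ker))
  refine Subgroup.mem_center_iff.2 fun g => ?_
  have h1 : f g = 1 := MonoidHom.mem_ker.1 (hk ▸ Subgroup.mem_top g)
  exact (commutatorElement_eq_one_iff_commute.1 (congrArg Subtype.val h1)).eq

variable {G : Type*} [Group G] [Finite G] {π : G →* Perm (Fin 12)}

theorem exists_odd_kernel (hm : Min π) :
    ∃ K : Subgroup G, K.Normal ∧ K ≤ π.ker ∧ (∀ x ∈ K, Odd (orderOf x)) ∧
      ∃ S : Subgroup G, IsPGroup 2 ↥S ∧ S ≤ Subgroup.center G ∧ S ≤ π.ker ∧ ∀ x ∈ π.ker, ∃ s ∈ S, ∃ k ∈ K, x = s * k := by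
  haveI : Fact (Nat.Prime 2) := ⟨Nat.prime_two⟩
  obtain ⟨P⟩ : Nonempty (Sylow 2 ↥π.ker) := inferInstance
  set S : Subgroup G := (P : Subgroup ↥π.ker).map π.ker.subtype with hS
  have hSp : IsPGroup 2 ↥S := P.2.map _
  have hSk : S ≤ π.ker := by rintro _ ⟨y, -, rfl⟩; exact y.2
  have hSn : S.Normal := by
    have h : Subgroup.normalizer (S : Set G) = ⊤ := by
      refine hm.min _ (le_antisymm (hm.range ▸ Subgroup.map_le_range π _) fun σ hσ => ?_)
      obtain ⟨g, rfl⟩ : σ ∈ π.range := hm.range ▸ hσ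
      have hg : g ∈ Subgroup.normalizer (S : Set G) ⊔ π.ker := by
        rw [hS, Sylow.normalizer_sup_eq_top P]; exact Subgroup.mem_top g
      obtain ⟨a, ha, b, hb, rfl⟩ := Subgroup.mem_sup_of_normal_right.1 hg
      exact ⟨a, ha, by rw [map_mul, MonoidHom.mem_ker.1 hb, mul_one]⟩
    exact Subgroup.normalizer_eq_top_iff.1 h
  have hSc := hm.two S hSn hSp
  have hPc : Subgroup.normalizer ((P : Subgroup ↥π.ker) : Set ↥π.ker) ≤
      Subgroup.centralizer ((P : Subgroup ↥π.ker) : Set ↥π.ker) := fun y _ =>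
    Subgroup.mem_centralizer_iff.2 fun z hz => Subtype.ext
      (Subgroup.mem_center_iff.1 (hSc ⟨z, hz, rfl⟩) (y : G)).symm
  set f := MonoidHom.transferSylow P hPc
  have hcompl := MonoidHom.ker_transferSylow_isComplement' P hPc
  have hodd : ∀ x : ↥π.ker, x ∈ f.ker ↔ Odd (orderOf x) := by
    intro x
    constructor
    · intro hx
      have hcard : Nat.card ↥f.ker = (P : Subgroup ↥π.ker).index := hcompl.index_eq_card.symm
      have h1 := P.not_dvd_index
      have h3 : orderOf x ∣ Nat.card ↥f.ker := by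
        rw [show orderOf x = orderOf (⟨x, hx⟩ : ↥f.ker) from (Subgroup.orderOf_mk _ hx).symm]
        exact orderOf_dvd_natCard _
      rw [hcard] at h3
      exact Nat.not_even_iff_odd.1 fun he => h1 ((even_iff_two_dvd.1 he).trans h3)
    · intro hx
      obtain ⟨n, hn⟩ := P.2 (f x)
      have h1 : orderOf (f x) ∣ 2 ^ n := orderOf_dvd_of_pow_eq_one hn
      have h3 : orderOf (f x) ∣ orderOf x := orderOf_map_dvd f x
      have h4 : orderOf (f x) ∣ Nat.gcd (2 ^ n) (orderOf x) := Nat.dvd_gcd h1 h3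
      rw [Nat.Coprime.gcd_eq_one (Nat.Coprime.pow_left n (Nat.coprime_two_left.2 hx)), Nat.dvd_one,
        orderOf_eq_one_iff] at h4
      exact h4
  refine ⟨f.ker.map π.ker.subtype, ⟨?_⟩, ?_, ?_, S, hSp, hSc, hSk, fun x hx => ?_⟩
  · rintro _ ⟨x, hx, rfl⟩ g
    refine ⟨⟨g * x * g⁻¹, Subgroup.Normal.conj_mem (inferInstance : π.ker.Normal) _ x.2 g⟩, ?_, rfl⟩
    rw [SetLike.mem_coe, hodd] at hx ⊢
    rw [← Subgroup.orderOf_coe] at hx ⊢
    rwa [show orderOf (g * (x : G) * g⁻¹) = orderOf (x : G) from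
      orderOf_injective (MulAut.conj g).toMonoidHom (MulAut.conj g).injective _]
  · rintro _ ⟨y, -, rfl⟩; exact y.2
  · rintro _ ⟨y, hy, rfl⟩
    rw [SetLike.mem_coe, hodd, ← Subgroup.orderOf_coe] at hy
    exact hy
  · obtain ⟨⟨⟨k, hk⟩, ⟨s, hs⟩⟩, e⟩ := hcompl.2 ⟨x, hx⟩
    refine ⟨s, ⟨s, hs, rfl⟩, k, ⟨k, hk, rfl⟩, ?_⟩
    have := congrArg Subtype.val e
    simp only at this
    rw [← this, Subgroup.coe_mul]
    exact Subgroup.mem_center_iff.1 (hSc ⟨s, hs, rfl⟩) (k : G)

/-- the quotient by the odd kernel is a central extension -/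
theorem quot_cov (hm : Min π) {K : Subgroup G} [K.Normal] (hKk : K ≤ π.ker)
    (hdec : ∀ x ∈ π.ker, ∃ s ∈ Subgroup.center G, ∃ k ∈ K, x = s * k) :
    Cov (QuotientGroup.lift K π hKk) := by
  refine ⟨?_, fun x hx g => ?_, by simp⟩
  · rw [← hm.range]
    ext σ
    exact ⟨fun ⟨q, hq⟩ => by obtain ⟨a, rfl⟩ := QuotientGroup.mk'_surjective K q; exact ⟨a, hq⟩,
      fun ⟨a, ha⟩ => ⟨QuotientGroup.mk' K a, ha⟩⟩
  · obtain ⟨a, rfl⟩ := QuotientGroup.mk'_surjective K x
    obtain ⟨s, hs, k, hk, rfl⟩ := hdec a hx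
    obtain ⟨b, rfl⟩ := QuotientGroup.mk'_surjective K g
    have hk1 : QuotientGroup.mk' K k = 1 := (QuotientGroup.eq_one_iff k).2 hk
    rw [map_mul, hk1, mul_one, commute_iff_eq, ← map_mul, ← map_mul, Subgroup.mem_center_iff.1 hs b]

/-! ### the two-group of the blocks -/

/-- involutions whose images normalise the later ones -/
def dList : List (Perm (Fin 12)) :=
  [dt 0 4 2 6 * dt 1 5 3 7, dt 0 1 2 3, dt 1 2 0 3, dt 4 5 6 7, dt 5 6 4 7, dt 8 9 10 11, dt 9 10 8 11]

/-- the condition on each tail -/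
def tailOK : List (Perm (Fin 12)) → Bool
  | [] => true
  | g :: L => decide (g * g = 1) && (L.all fun x => L.contains (g * x * g⁻¹)) && tailOK L

theorem tail_check : tailOK dList = true := by decide +kernel

theorem isPGroup_tail : ∀ L : List (Perm (Fin 12)), tailOK L = true →
    IsPGroup 2 ↥(Subgroup.closure {x | x ∈ L}) := by
  intro L
  induction L with
  | nil =>
    intro _
    have : Subgroup.closure {x : Perm (Fin 12) | x ∈ ([] : List (Perm (Fin 12)))} = ⊥ := by simp
    rw [this]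
    exact IsPGroup.of_bot
  | cons g L ih =>
    intro h
    simp only [tailOK, Bool.and_eq_true, decide_eq_true_eq, List.all_eq_true, List.contains_iff_mem] at h
    obtain ⟨⟨hg, hn⟩, hL⟩ := h
    have e : Subgroup.closure {x | x ∈ g :: L} = Subgroup.zpowers g ⊔ Subgroup.closure {x | x ∈ L} := by
      rw [Subgroup.zpowers_eq_closure, ← Subgroup.closure_union]
      congr 1
      ext x
      simp
    rw [e]
    refine IsPGroup.to_sup_of_normal_right' (fun x => ⟨1, Subtype.ext ?_⟩) (ih hL) ?_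
    · obtain ⟨n, hn'⟩ := x.2
      rw [pow_one, SubmonoidClass.coe_pow, ← hn', Subgroup.coe_one, pow_two, ← _root_.zpow_add, ← two_mul,
        _root_.zpow_mul, zpow_two, hg, one_zpow]
    · rw [Subgroup.zpowers_le, Subgroup.mem_normalizer_iff]
      have hmap : ∀ y ∈ Subgroup.closure {x | x ∈ L}, g * y * g⁻¹ ∈ Subgroup.closure {x | x ∈ L} := by
        intro y hy
        induction hy using Subgroup.closure_induction with
        | mem x hx => exact Subgroup.subset_closure (hn x hx)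
        | one => simp
        | mul a b _ _ ha hb =>
          rw [show g * (a * b) * g⁻¹ = (g * a * g⁻¹) * (g * b * g⁻¹) by group]; exact mul_mem ha hb
        | inv a _ ha => rw [show g * a⁻¹ * g⁻¹ = (g * a * g⁻¹)⁻¹ by group]; exact inv_mem ha
      intro y
      refine ⟨hmap y, fun hy => ?_⟩
      have h1 := hmap _ hy
      rwa [show g * (g * y * g⁻¹) * g⁻¹ = (g * g) * y * (g * g)⁻¹ by group, hg, one_mul, inv_one, mul_one] at h1

/-- one two-subgroup lifts everything over the blocks, uniquely -/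
theorem exists_block_lift (hm : Min π) {K : Subgroup G} [K.Normal] (hKk : K ≤ π.ker)
    (hodd : ∀ x ∈ K, Odd (orderOf x)) {S : Subgroup G} (hS : IsPGroup 2 ↥S) (hSc : S ≤ Subgroup.center G)
    (hdec : ∀ x ∈ π.ker, ∃ s ∈ S, ∃ k ∈ K, x = s * k) :
    ∃ P : Subgroup G, IsPGroup 2 ↥P ∧ S ≤ P ∧
      (∀ x ∈ P, ∀ y ∈ P, QuotientGroup.mk' K x = QuotientGroup.mk' K y → x = y) ∧
      ∀ q : G ⧸ K, QuotientGroup.lift K π hKk q ∈ Subgroup.closure {x | x ∈ dList} →
        ∃ p ∈ P, QuotientGroup.mk' K p = q := by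
  haveI : Fact (Nat.Prime 2) := ⟨Nat.prime_two⟩
  have hDle : Subgroup.closure {x | x ∈ dList} ≤ π.range := by
    rw [hm.range, Subgroup.closure_le]
    intro x hx
    simp only [dList, List.mem_cons, List.not_mem_nil, or_false, Set.mem_setOf_eq] at hx
    rcases hx with rfl | hx
    · exact mul_mem (dt_mem 0 4 2 6) (dt_mem 1 5 3 7)
    rcases hx with rfl | rfl | rfl | rfl | rfl | rfl <;> exact dt_mem _ _ _ _
  obtain ⟨P0, hP0, hmap, -⟩ := AltSect.lift_normalizer π _ hDle (isPGroup_tail _ tail_check)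
  have hle : P0 ≤ Subgroup.normalizer (S : Set G) := fun p _ => Subgroup.mem_normalizer_iff.2 fun y => by
    constructor
    · intro hy
      rwa [Subgroup.mem_center_iff.1 (hSc hy) p, mul_inv_cancel_right]
    · intro hy
      have e := Subgroup.mem_center_iff.1 (hSc hy) p⁻¹
      have : p⁻¹ * (p * y * p⁻¹) * p = p * y * p⁻¹ := by rw [e]; group
      rw [show p⁻¹ * (p * y * p⁻¹) * p = y by group] at this
      exact this ▸ hy
  refine ⟨P0 ⊔ S, hP0.to_sup_of_normal_right' hS hle, le_sup_right, fun x hx y hy e => ?_, fun q hq => ?_⟩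
  · have hk : x⁻¹ * y ∈ K := QuotientGroup.eq.1 e
    obtain ⟨n, hn⟩ := (hP0.to_sup_of_normal_right' hS hle) ⟨x⁻¹ * y, mul_mem (inv_mem hx) hy⟩
    have h1 : orderOf (x⁻¹ * y) ∣ 2 ^ n := orderOf_dvd_of_pow_eq_one (congrArg Subtype.val hn)
    have h3 := Nat.Coprime.pow_left n (Nat.coprime_two_left.2 (hodd _ hk))
    have h4 : orderOf (x⁻¹ * y) = 1 := Nat.eq_one_of_dvd_coprimes h3 h1 dvd_rfl
    rw [orderOf_eq_one_iff, inv_mul_eq_one] at h4
    exact h4
  · obtain ⟨a, rfl⟩ := QuotientGroup.mk'_surjective K q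
    rw [← hmap] at hq
    obtain ⟨p, hp, hpe⟩ := hq
    change π p = π a at hpe
    obtain ⟨s, hs, k, hk, e⟩ := hdec (p⁻¹ * a) (by
      rw [MonoidHom.mem_ker, map_mul, map_inv, hpe, inv_mul_cancel])
    refine ⟨p * s, mul_mem (Subgroup.mem_sup_left hp) (Subgroup.mem_sup_right hs), ?_⟩
    rw [QuotientGroup.mk'_eq_mk']
    exact ⟨k, hk, by rw [mul_assoc, ← e]; group⟩

end CfsgLib.Chev.E6Alt
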