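/-
Eigenvalue multiplicities of commuting involutory operators: counting, a rank bound for
elementary abelian two-groups, anticommuting pairs, and independence of twisted commuting operators.
-/
import Mathlib.LinearAlgebra.Eigenspace.Basic
import Mathlib.LinearAlgebra.FiniteDimensional.Lemmas
import Mathlib.LinearAlgebra.Dimension.Constructions
import Mathlib.RepresentationTheory.Basic
import Mathlib.Algebra.BigOperators.Fin
import Mathlib.GroupTheory.Index
import Mathlib.Tactic.LinearCombination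

set_option autoImplicit false

namespace CfsgLib.Chev.E6Alt

open Module Module.End

variable {k : Type*} [Field k] {V : Type*} [AddCommGroup V] [Module k V] [FiniteDimensional k V]
variable {G : Type*} [Group G]

/-- the subspace is kept by the operator -/
def Keeps (U : Submodule k V) (a : Module.End k V) : Prop := ∀ v ∈ U, a v ∈ U

/-- the part of `U` negated by `a` -/
abbrev neg (U : Submodule k V) (a : Module.End k V) : Submodule k V := U ⊓ eigenspace a (-1)

/-- the part of `U` fixed by `a` -/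
abbrev pos (U : Submodule k V) (a : Module.End k V) : Submodule k V := U ⊓ eigenspace a 1

/-- the multiplicity of `-1` -/
noncomputable def mneg (U : Submodule k V) (a : Module.End k V) : ℕ := finrank k ↥(neg U a)

omit [FiniteDimensional k V] in
lemma mem_neg {U : Submodule k V} {a : Module.End k V} {v : V} : v ∈ neg U a ↔ v ∈ U ∧ a v = -v := by
  rw [neg, Submodule.mem_inf, mem_eigenspace_iff, neg_one_smul]

omit [FiniteDimensional k V] in
lemma mem_pos {U : Submodule k V} {a : Module.End k V} {v : V} : v ∈ pos U a ↔ v ∈ U ∧ a v = v := by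
  rw [pos, Submodule.mem_inf, mem_eigenspace_iff, one_smul]

omit [FiniteDimensional k V] in
lemma keeps_of_comm {U : Submodule k V} {a s : Module.End k V} {c : k} (hU : Keeps U s)
    (hc : a * s = s * a) : Keeps (U ⊓ eigenspace a c) s := fun v hv => by
  obtain ⟨h1, h2⟩ := Submodule.mem_inf.1 hv
  refine Submodule.mem_inf.2 ⟨hU v h1, mem_eigenspace_iff.2 ?_⟩
  rw [← Module.End.mul_apply, hc, Module.End.mul_apply, mem_eigenspace_iff.1 h2, map_smul]

omit [FiniteDimensional k V] in
lemma pos_inf_neg (h2 : (2 : k) ≠ 0) (U : Submodule k V) (a : Module.End k V) : pos U a ⊓ neg U a = ⊥ := by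
  rw [Submodule.eq_bot_iff]
  intro v hv
  obtain ⟨hp, hn⟩ := Submodule.mem_inf.1 hv
  have h : v = -v := (mem_pos.1 hp).2.symm.trans (mem_neg.1 hn).2
  have h' : (2 : k) • v = 0 := by rw [two_smul]; nth_rewrite 2 [h]; simp
  exact (smul_eq_zero.1 h').resolve_left h2

/-- an involution splits a kept subspace -/
theorem split (h2 : (2 : k) ≠ 0) {U : Submodule k V} {a : Module.End k V} (ha : a * a = 1) (hU : Keeps U a) :
    finrank k ↥U = finrank k ↥(pos U a) + mneg U a := by
  have hsup : pos U a ⊔ neg U a = U := by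
    refine le_antisymm (sup_le inf_le_left inf_le_left) fun v hv => ?_
    have haa : a (a v) = v := by rw [← Module.End.mul_apply, ha, Module.End.one_apply]
    refine Submodule.mem_sup.2 ⟨(2 : k)⁻¹ • (v + a v), mem_pos.2 ⟨U.smul_mem _ (U.add_mem hv (hU v hv)), ?_⟩,
      (2 : k)⁻¹ • (v - a v), mem_neg.2 ⟨U.smul_mem _ (U.sub_mem hv (hU v hv)), ?_⟩, ?_⟩
    · rw [map_smul, map_add, haa, add_comm]
    · rw [map_smul, map_sub, haa, ← smul_neg, neg_sub]
    · rw [← smul_add, show v + a v + (v - a v) = v + v by abel, ← two_smul k v, smul_smul,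
        inv_mul_cancel₀ h2, one_smul]
  have := Submodule.finrank_sup_add_finrank_inf_eq (pos U a) (neg U a)
  rw [hsup, pos_inf_neg h2, finrank_bot, add_zero] at this
  exact this

/-- multiplicities split along a commuting involution -/
theorem mneg_split (h2 : (2 : k) ≠ 0) {U : Submodule k V} {a s : Module.End k V} (ha : a * a = 1)
    (hU : Keeps U a) (hc : a * s = s * a) :
    mneg U s = mneg (pos U a) s + mneg (neg U a) s := by
  have h := split h2 ha (keeps_of_comm (c := -1) hU hc.symm)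
  have e : ∀ c : k, finrank k ↥(U ⊓ eigenspace s (-1) ⊓ eigenspace a c) =
      finrank k ↥(U ⊓ eigenspace a c ⊓ eigenspace s (-1)) := fun c => by rw [inf_right_comm]
  simp only [mneg] at h ⊢
  exact h.trans (congrArg₂ (· + ·) (e 1) (e (-1)))

omit [FiniteDimensional k V] in
/-- multiplication by `a` does nothing on its fixed part -/
lemma neg_pos_mul {U : Submodule k V} {a s : Module.End k V} (hc : a * s = s * a) :
    neg (pos U a) (a * s) = neg (pos U a) s := by
  ext v
  simp only [mem_neg, mem_pos, and_congr_right_iff, and_imp]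
  intro _ hv
  rw [hc, Module.End.mul_apply, hv]

omit [FiniteDimensional k V] in
/-- multiplication by `a` swaps the parts on its negated part -/
lemma neg_neg_mul {U : Submodule k V} {a s : Module.End k V} (hc : a * s = s * a) :
    neg (neg U a) (a * s) = pos (neg U a) s := by
  ext v
  simp only [mem_neg, mem_pos, and_congr_right_iff, and_imp]
  intro _ hv
  rw [hc, Module.End.mul_apply, hv, map_neg, neg_inj]

/-- a family satisfying the counting formula -/
def Good (ρ : G →* Module.End k V) {ι : Type*} [Fintype ι] (f : ι → G) : Prop :=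
  ∀ U : Submodule k V, (∀ i, Keeps U (ρ (f i))) →
    2 * ∑ i, mneg U (ρ (f i)) + Fintype.card ι * finrank k ↥(U ⊓ ⨅ i, eigenspace (ρ (f i)) 1) =
      Fintype.card ι * finrank k ↥U

/-- the trivial family -/
theorem good_one (h2 : (2 : k) ≠ 0) (ρ : G →* Module.End k V) : Good ρ (fun _ : Unit => (1 : G)) := by
  intro U _
  have hn : mneg U (ρ (1 : G)) = 0 := by
    have e : neg U (ρ (1 : G)) = ⊥ := by
      rw [Submodule.eq_bot_iff]
      intro v hv
      have h : v = -v := by simpa using (mem_neg.1 hv).2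
      have h' : (2 : k) • v = 0 := by rw [two_smul]; nth_rewrite 2 [h]; simp
      exact (smul_eq_zero.1 h').resolve_left h2
    rw [mneg, e, finrank_bot]
  have hp : (U ⊓ ⨅ _ : Unit, eigenspace (ρ (1 : G)) 1) = U := by
    refine inf_eq_left.2 (le_iInf fun _ v _ => mem_eigenspace_iff.2 ?_)
    simp
  rw [hp, Fintype.sum_unique, hn]
  simp

/-- adjoin a commuting involution to a family -/
theorem Good.step (h2 : (2 : k) ≠ 0) {ρ : G →* Module.End k V} {ι : Type*} [Fintype ι] [Nonempty ι] {f : ι → G}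
    (hf : Good ρ f) {a : G} (ha : ρ a * ρ a = 1) (hc : ∀ i, ρ a * ρ (f i) = ρ (f i) * ρ a)
    (hsq : ∀ i, ρ (f i) * ρ (f i) = 1) :
    Good ρ (fun x : Bool × ι => if x.1 then a * f x.2 else f x.2) := by
  intro U hU
  have hUf : ∀ i, Keeps U (ρ (f i)) := fun i => by simpa using hU (false, i)
  have hUa : Keeps U (ρ a) := by
    obtain ⟨i⟩ := ‹Nonempty ι›
    intro v hv
    have h := hU (true, i) _ (hUf i v hv)
    simp only [if_true, map_mul] at h
    rwa [← Module.End.mul_apply, mul_assoc, hsq, mul_one] at h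
  have hP : ∀ i, Keeps (pos U (ρ a)) (ρ (f i)) := fun i => keeps_of_comm (hUf i) (hc i)
  have hN : ∀ i, Keeps (neg U (ρ a)) (ρ (f i)) := fun i => keeps_of_comm (hUf i) (hc i)
  have e1 : ∀ i, mneg U (ρ (f i)) + mneg U (ρ (a * f i)) =
      2 * mneg (pos U (ρ a)) (ρ (f i)) + finrank k ↥(neg U (ρ a)) := by
    intro i
    have hca : ρ a * ρ (a * f i) = ρ (a * f i) * ρ a := by rw [map_mul, hc, ← mul_assoc, hc]
    have h1 : mneg (pos U (ρ a)) (ρ (a * f i)) = mneg (pos U (ρ a)) (ρ (f i)) := by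
      rw [mneg, mneg, map_mul, neg_pos_mul (hc i)]
    have h3 : mneg (neg U (ρ a)) (ρ (a * f i)) = finrank k ↥(pos (neg U (ρ a)) (ρ (f i))) := by
      rw [mneg, map_mul, neg_neg_mul (hc i)]
    have h4 := split h2 (hsq i) (hN i)
    rw [mneg_split h2 ha hUa (hc i), mneg_split h2 ha hUa hca, h1, h3]
    omega
  have hfix : (U ⊓ ⨅ x : Bool × ι, eigenspace (ρ (if x.1 then a * f x.2 else f x.2)) 1) =
      pos U (ρ a) ⊓ ⨅ i, eigenspace (ρ (f i)) 1 := by
    ext v
    simp only [Submodule.mem_inf, mem_pos, Submodule.mem_iInf, mem_eigenspace_iff, one_smul, Prod.forall,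
      Bool.forall_bool, if_true, Bool.false_eq_true, if_false, map_mul, Module.End.mul_apply]
    constructor
    · rintro ⟨hv, h0, h1⟩
      obtain ⟨i⟩ := ‹Nonempty ι›
      have h := h1 i
      rw [h0 i] at h
      exact ⟨⟨hv, h⟩, h0⟩
    · rintro ⟨⟨hv, hav⟩, h0⟩
      exact ⟨hv, h0, fun i => by rw [h0 i, hav]⟩
  have hsum : ∑ x : Bool × ι, mneg U (ρ (if x.1 then a * f x.2 else f x.2)) =
      ∑ i, (2 * mneg (pos U (ρ a)) (ρ (f i)) + finrank k ↥(neg U (ρ a))) := by
    rw [Fintype.sum_prod_type, Fintype.sum_bool]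
    simp only [if_true, Bool.false_eq_true, if_false]
    rw [← Finset.sum_add_distrib]
    exact Finset.sum_congr rfl fun i _ => by rw [add_comm]; exact e1 i
  rw [hfix, hsum, Finset.sum_add_distrib, ← Finset.mul_sum, Finset.sum_const, Finset.card_univ, smul_eq_mul,
    Fintype.card_prod, Fintype.card_bool, split h2 ha hUa]
  have hh := hf (pos U (ρ a)) hP
  simp only [mneg] at hh ⊢
  nlinarith [hh]

/-- adjoin a four-group -/
theorem Good.block (h2 : (2 : k) ≠ 0) {ρ : G →* Module.End k V} {ι : Type*} [Fintype ι] [Nonempty ι] {f : ι → G}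
    (hf : Good ρ f) {a b : G} (ha : ρ a * ρ a = 1) (hb : ρ b * ρ b = 1) (hab : ρ a * ρ b = ρ b * ρ a)
    (hca : ∀ i, ρ a * ρ (f i) = ρ (f i) * ρ a) (hcb : ∀ i, ρ b * ρ (f i) = ρ (f i) * ρ b)
    (hsq : ∀ i, ρ (f i) * ρ (f i) = 1) :
    Good ρ (fun x : Bool × Bool × ι =>
      (if x.1 then a else 1) * ((if x.2.1 then b else 1) * f x.2.2)) := by
  have h1 := hf.step h2 hb hcb hsq
  have hsq1 : ∀ x : Bool × ι, ρ (if x.1 then b * f x.2 else f x.2) * ρ (if x.1 then b * f x.2 else f x.2) = 1 := by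
    rintro ⟨t, i⟩
    cases t
    · simpa using hsq i
    · simp only [if_true, map_mul]
      rw [mul_assoc, ← mul_assoc (ρ (f i)), ← hcb, mul_assoc, hsq, mul_one, hb]
  have h3 := h1.step h2 ha (fun x => by
    rcases x with ⟨t, i⟩
    cases t
    · simpa using hca i
    · simp only [if_true, map_mul]
      rw [← mul_assoc, hab, mul_assoc, hca, mul_assoc]) hsq1
  convert h3 using 2 with x
  rcases x with ⟨s, t, i⟩
  cases s <;> cases t <;> simp

/-! ### the rank bound -/

/-- the bound by residual subspaces -/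
def gb : ℕ → ℕ → ℕ → ℕ
  | 0, _, _ => 0
  | fuel + 1, n, d => if n < d then 0 else 1 + gb fuel (n - d) ((d + 1) / 2)

lemma gb_mono : ∀ (fuel : ℕ) {n n' d d' : ℕ}, n ≤ n' → d' ≤ d → gb fuel n d ≤ gb fuel n' d' := by
  intro fuel
  induction fuel with
  | zero => intros; simp [gb]
  | succ f ih =>
    intro n n' d d' hn hd
    simp only [gb]
    have := @ih (n - d) (n' - d') ((d + 1) / 2) ((d' + 1) / 2) (by omega) (by omega)
    split_ifs <;> omega

/-- the elements of `Z` fixing `U` pointwise -/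
def fixU (ρ : G →* Module.End k V) (Z : Subgroup G) (U : Submodule k V) : Subgroup G where
  carrier := {z | z ∈ Z ∧ ∀ v ∈ U, ρ z v = v}
  one_mem' := ⟨one_mem _, fun v _ => by simp⟩
  mul_mem' {x y} hx hy := ⟨mul_mem hx.1 hy.1, fun v hv => by
    rw [map_mul, Module.End.mul_apply, hy.2 v hv, hx.2 v hv]⟩
  inv_mem' {x} hx := ⟨inv_mem hx.1, fun v hv => by
    conv_lhs => rw [← hx.2 v hv]
    rw [← Module.End.mul_apply, ← map_mul, inv_mul_cancel, map_one, Module.End.one_apply]⟩

omit [FiniteDimensional k V] in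
lemma mem_fixU {ρ : G →* Module.End k V} {Z : Subgroup G} {U : Submodule k V} {z : G} :
    z ∈ fixU ρ Z U ↔ z ∈ Z ∧ ∀ v ∈ U, ρ z v = v := Iff.rfl

/-- a group of involutions with large multiplicities is small -/
theorem rank_bound [Finite G] (h2 : (2 : k) ≠ 0) (ρ : G →* Module.End k V) (Z : Subgroup G)
    (hsq : ∀ z ∈ Z, z * z = 1) :
    ∀ (fuel : ℕ) (d : ℕ) (U : Submodule k V), 1 ≤ d → finrank k ↥U ≤ fuel → (∀ z ∈ Z, Keeps U (ρ z)) →
      (∀ z ∈ Z, z ∈ fixU ρ Z U ∨ d ≤ mneg U (ρ z)) →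
      Nat.card ↥Z ≤ 2 ^ gb fuel (finrank k ↥U) d * Nat.card ↥(fixU ρ Z U) := by
  have hρ : ∀ z ∈ Z, ρ z * ρ z = 1 := fun z hz => by rw [← map_mul, hsq z hz, map_one]
  have hcom : ∀ x ∈ Z, ∀ y ∈ Z, x * y = y * x := fun x hx y hy => by
    have hi : ∀ w ∈ Z, w⁻¹ = w := fun w hw => inv_eq_of_mul_eq_one_right (hsq w hw)
    rw [← hi _ (mul_mem hx hy), mul_inv_rev, hi x hx, hi y hy]
  intro fuel
  induction fuel with
  | zero =>
    intro d U _ hU _ _
    have hbot : U = ⊥ := Submodule.finrank_eq_zero.1 (Nat.le_zero.1 hU)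
    have e : fixU ρ Z U = Z := Subgroup.ext fun z => ⟨fun h => h.1, fun h => ⟨h, fun v hv => by
      rw [hbot, Submodule.mem_bot] at hv; simp [hv]⟩⟩
    rw [e]
    exact Nat.le_mul_of_pos_left _ (by positivity)
  | succ f ih =>
    intro d U hd hU hkeep hm
    classical
    by_cases hall : ∀ z ∈ Z, z ∈ fixU ρ Z U
    · rw [show fixU ρ Z U = Z from Subgroup.ext fun z => ⟨fun h => h.1, hall z⟩]
      exact Nat.le_mul_of_pos_left _ (by positivity)
    push Not at hall
    have hex : ∃ w, ∃ z ∈ Z, z ∉ fixU ρ Z U ∧ mneg U (ρ z) = w := by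
      obtain ⟨z, hz, hzn⟩ := hall
      exact ⟨_, z, hz, hzn, rfl⟩
    obtain ⟨g, hg, hgn, hw⟩ := Nat.find_spec hex
    set w := Nat.find hex
    have hmin : ∀ z ∈ Z, z ∉ fixU ρ Z U → w ≤ mneg U (ρ z) := fun z hz hzn =>
      Nat.find_min' hex ⟨z, hz, hzn, rfl⟩
    have hdw : d ≤ w := hw ▸ (hm g hg).resolve_left hgn
    have hsplit : finrank k ↥U = finrank k ↥(pos U (ρ g)) + w := by rw [← hw]; exact split h2 (hρ g hg) (hkeep g hg)
    have hcg : ∀ z ∈ Z, ρ g * ρ z = ρ z * ρ g := fun z hz => by rw [← map_mul, hcom g hg z hz, map_mul]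
    have hkeep' : ∀ z ∈ Z, Keeps (pos U (ρ g)) (ρ z) := fun z hz => keeps_of_comm (hkeep z hz) (hcg z hz)
    have hneg : ∀ z ∈ Z, z ∈ fixU ρ Z (pos U (ρ g)) → ∀ v ∈ U, ρ z v - v ∈ neg U (ρ g) := by
      intro z hz hzf v hv
      have haa : ρ g (ρ g v) = v := by rw [← Module.End.mul_apply, hρ g hg, Module.End.one_apply]
      have hp : v + ρ g v ∈ (pos U (ρ g)) := mem_pos.2 ⟨U.add_mem hv (hkeep g hg v hv), by rw [map_add, haa, add_comm]⟩
      have h1 := hzf.2 _ hp
      rw [map_add, ← Module.End.mul_apply (ρ z) (ρ g), ← hcg z hz, Module.End.mul_apply] at h1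
      refine mem_neg.2 ⟨U.sub_mem (hkeep z hz v hv) hv, ?_⟩
      rw [map_sub, neg_sub]
      rw [← sub_eq_zero] at h1 ⊢
      rw [← h1]; abel
    -- the kernel grows at most twice
    have hK : ∀ z ∈ fixU ρ Z (pos U (ρ g)), z ∈ fixU ρ Z U ∨ g * z ∈ fixU ρ Z U := by
      intro z hz
      by_contra hc
      push Not at hc
      have h1 := hmin z hz.1 hc.1
      have h0 : mneg (pos U (ρ g)) (ρ z) = 0 := by
        have e : neg (pos U (ρ g)) (ρ z) = ⊥ := by
          rw [Submodule.eq_bot_iff]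
          intro v hv
          obtain ⟨hv1, hv2⟩ := mem_neg.1 hv
          have h : v = -v := (hz.2 v hv1).symm.trans hv2
          have h' : (2 : k) • v = 0 := by rw [two_smul]; nth_rewrite 2 [h]; simp
          exact (smul_eq_zero.1 h').resolve_left h2
        rw [mneg, e, finrank_bot]
      rw [mneg_split h2 (hρ g hg) (hkeep g hg) (hcg z hz.1), h0, zero_add] at h1
      have hle : neg (neg U (ρ g)) (ρ z) = neg U (ρ g) := by
        refine Submodule.eq_of_le_of_finrank_le inf_le_left ?_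
        simp only [mneg] at h1 hw
        omega
      refine hc.2 ⟨mul_mem hg hz.1, fun v hv => ?_⟩
      have hd' := hneg z hz.1 hz v hv
      have hpv := hz.2
      have haa : ρ g (ρ g v) = v := by rw [← Module.End.mul_apply, hρ g hg, Module.End.one_apply]
      have hm1 : v - ρ g v ∈ neg U (ρ g) := mem_neg.2 ⟨U.sub_mem hv (hkeep g hg v hv), by
        rw [map_sub, haa, neg_sub]⟩
      have hp1 : v + ρ g v ∈ (pos U (ρ g)) := mem_pos.2 ⟨U.add_mem hv (hkeep g hg v hv), by rw [map_add, haa, add_comm]⟩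
      have q1 := hz.2 _ hp1
      rw [← hle] at hm1
      have q2 := (mem_neg.1 hm1).2
      rw [map_add] at q1
      rw [map_sub] at q2
      have q3 : (2 : k) • (ρ z v) = (2 : k) • (ρ g v) := by
        have := congrArg₂ (· + ·) q1 q2
        rw [two_smul, two_smul]
        rw [← sub_eq_zero] at this ⊢
        rw [← this]; abel
      rw [map_mul, Module.End.mul_apply, smul_right_injective V h2 q3, haa]
    have hcard : Nat.card ↥(fixU ρ Z (pos U (ρ g))) ≤ 2 * Nat.card ↥(fixU ρ Z U) := by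
      let F : ↥(fixU ρ Z (pos U (ρ g))) → Bool × ↥(fixU ρ Z U) := fun z =>
        if h : (z : G) ∈ fixU ρ Z U then (false, ⟨z, h⟩) else (true, ⟨g * z, (hK z z.2).resolve_left h⟩)
      have hF : Function.Injective F := by
        intro x y e
        simp only [F] at e
        split_ifs at e <;> simp only [Prod.mk.injEq, Bool.false_eq_true, Bool.true_eq_false, false_and] at e
        · exact Subtype.ext (congrArg Subtype.val e.2 :)
        · exact Subtype.ext (mul_left_cancel (congrArg Subtype.val e.2 :))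
      calc Nat.card ↥(fixU ρ Z (pos U (ρ g))) ≤ Nat.card (Bool × ↥(fixU ρ Z U)) := Nat.card_le_card_of_injective F hF
        _ = 2 * _ := by rw [Nat.card_prod, Nat.card_eq_fintype_card, Fintype.card_bool]
    -- multiplicities on the fixed part
    have hm' : ∀ z ∈ Z, z ∈ fixU ρ Z (pos U (ρ g)) ∨ (w + 1) / 2 ≤ mneg (pos U (ρ g)) (ρ z) := by
      intro z hz
      by_cases hz1 : z ∈ fixU ρ Z U
      · exact Or.inl ⟨hz, fun v hv => hz1.2 v (mem_pos.1 hv).1⟩
      by_cases hz2 : g * z ∈ fixU ρ Z U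
      · refine Or.inl ⟨hz, fun v hv => ?_⟩
        have h := hz2.2 v (mem_pos.1 hv).1
        rw [hcom g hg z hz, map_mul, Module.End.mul_apply, (mem_pos.1 hv).2] at h
        exact h
      refine Or.inr ?_
      have h1 := hmin z hz hz1
      have h3 := hmin _ (mul_mem hg hz) hz2
      have hca : ρ g * ρ (g * z) = ρ (g * z) * ρ g := hcg _ (mul_mem hg hz)
      rw [mneg_split h2 (hρ g hg) (hkeep g hg) (hcg z hz)] at h1
      rw [mneg_split h2 (hρ g hg) (hkeep g hg) hca] at h3
      have e1 : mneg (pos U (ρ g)) (ρ (g * z)) = mneg (pos U (ρ g)) (ρ z) := by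
        rw [mneg, mneg, map_mul, neg_pos_mul (hcg z hz)]
      have e2 : mneg (neg U (ρ g)) (ρ (g * z)) = finrank k ↥(pos (neg U (ρ g)) (ρ z)) := by
        rw [mneg, map_mul, neg_neg_mul (hcg z hz)]
      have e3 : finrank k ↥(neg U (ρ g)) = finrank k ↥(pos (neg U (ρ g)) (ρ z)) + mneg (neg U (ρ g)) (ρ z) :=
        split h2 (hρ z hz) (keeps_of_comm (c := -1) (hkeep z hz) (hcg z hz))
      simp only [mneg] at hw h1 h3 e1 e2 e3 ⊢
      omega
    have hIH := ih ((w + 1) / 2) (pos U (ρ g)) (by omega) (by omega) hkeep' hm'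
    calc Nat.card ↥Z ≤ 2 ^ gb f (finrank k ↥(pos U (ρ g))) ((w + 1) / 2) * Nat.card ↥(fixU ρ Z (pos U (ρ g))) := hIH
      _ ≤ 2 ^ gb f (finrank k ↥U - d) ((d + 1) / 2) * (2 * Nat.card ↥(fixU ρ Z U)) :=
        Nat.mul_le_mul (Nat.pow_le_pow_right (by norm_num) (gb_mono f (by omega) (by omega))) hcard
      _ = 2 ^ gb (f + 1) (finrank k ↥U) d * Nat.card ↥(fixU ρ Z U) := by
        simp only [gb, if_neg (show ¬ finrank k ↥U < d by omega)]
        rw [pow_add]; ring

/-! ### anticommuting pairs -/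

/-- the eigenspace inside `U` -/
abbrev part (U : Submodule k V) (a : Module.End k V) (c : k) : Submodule k V := U ⊓ eigenspace a c

/-- an anticommuting pair halves a kept subspace -/
theorem halve (h2 : (2 : k) ≠ 0) {i : k} (hi : i * i = -1) {U : Submodule k V} {a b : Module.End k V}
    (ha : ∀ v ∈ U, a (a v) = -v) (hb : ∀ v ∈ U, b (b v) = -v) (hab : ∀ v ∈ U, a (b v) = -b (a v))
    (hUa : Keeps U a) (hUb : Keeps U b) :
    finrank k ↥U = 2 * finrank k ↥(part U a i) ∧
      (∀ v ∈ U, ∃ x ∈ part U a i, ∃ y ∈ part U a i, v = x + b y) := by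
  have hi0 : i ≠ 0 := fun h => by rw [h, mul_zero] at hi; exact one_ne_zero (neg_eq_zero.1 hi.symm)
  have hdis : part U a i ⊓ part U a (-i) = ⊥ := by
    rw [Submodule.eq_bot_iff]
    intro v hv
    obtain ⟨h, h'⟩ := Submodule.mem_inf.1 hv
    have e := (mem_eigenspace_iff.1 (Submodule.mem_inf.1 h).2).symm.trans
      (mem_eigenspace_iff.1 (Submodule.mem_inf.1 h').2)
    rw [neg_smul, eq_neg_iff_add_eq_zero, ← add_smul, ← two_mul] at e
    exact (smul_eq_zero.1 e).resolve_left (mul_ne_zero h2 hi0)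
  have hsup : part U a i ⊔ part U a (-i) = U := by
    refine le_antisymm (sup_le inf_le_left inf_le_left) fun v hv => ?_
    refine Submodule.mem_sup.2 ⟨(2 : k)⁻¹ • (v - i • a v), Submodule.mem_inf.2
      ⟨U.smul_mem _ (U.sub_mem hv (U.smul_mem _ (hUa v hv))), mem_eigenspace_iff.2 ?_⟩,
      (2 : k)⁻¹ • (v + i • a v), Submodule.mem_inf.2
      ⟨U.smul_mem _ (U.add_mem hv (U.smul_mem _ (hUa v hv))), mem_eigenspace_iff.2 ?_⟩, ?_⟩
    · rw [map_smul, map_sub, map_smul, ha v hv, smul_comm i (2 : k)⁻¹ (v - i • a v), smul_sub i v, smul_smul i i,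
        hi, neg_one_smul, smul_neg, sub_neg_eq_add, sub_neg_eq_add, add_comm]
    · rw [map_smul, map_add, map_smul, ha v hv, smul_comm (-i) (2 : k)⁻¹ (v + i • a v), smul_add (-i) v,
        smul_smul (-i) i, neg_mul, hi, neg_neg, one_smul, neg_smul, smul_neg, add_comm]
    · rw [← smul_add, show v - i • a v + (v + i • a v) = v + v by abel, ← two_smul k v, smul_smul,
        inv_mul_cancel₀ h2, one_smul]
  have hmaps : ∀ c : k, ∀ v ∈ part U a c, b v ∈ part U a (-c) := fun c v hv => by
    obtain ⟨h1, h3⟩ := Submodule.mem_inf.1 hv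
    refine Submodule.mem_inf.2 ⟨hUb v h1, mem_eigenspace_iff.2 ?_⟩
    rw [hab v h1, mem_eigenspace_iff.1 h3, map_smul, neg_smul]
  have hinj : ∀ c : k, Function.Injective (b.restrict (q := part U a (-c)) (p := part U a c) (hmaps c)) := by
    intro c x y e
    have e' := congrArg (fun z : ↥(part U a (-c)) => b (z : V)) e
    simp only [LinearMap.coe_restrict_apply, hb _ (Submodule.mem_inf.1 x.2).1,
      hb _ (Submodule.mem_inf.1 y.2).1, neg_inj] at e'
    exact Subtype.ext e'
  have h1 := LinearMap.finrank_le_finrank_of_injective (hinj i)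
  have h3 := LinearMap.finrank_le_finrank_of_injective (hinj (-i))
  rw [neg_neg] at h3
  have h4 := Submodule.finrank_sup_add_finrank_inf_eq (part U a i) (part U a (-i))
  rw [hsup, hdis, finrank_bot, add_zero] at h4
  refine ⟨by omega, fun v hv => ?_⟩
  rw [← hsup] at hv
  obtain ⟨x, hx, y, hy, rfl⟩ := Submodule.mem_sup.1 hv
  refine ⟨x, hx, -b y, neg_mem (by simpa using hmaps _ y hy), ?_⟩
  rw [map_neg, hb y (Submodule.mem_inf.1 hy).1, neg_neg]

/-- an invariant bilinear function on `U` is determined by a twisted one on half of it -/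
theorem form_zero (h2 : (2 : k) ≠ 0) {i : k} (hi : i * i = -1) {U : Submodule k V} {a b : Module.End k V}
    (ha : ∀ v ∈ U, a (a v) = -v) (hb : ∀ v ∈ U, b (b v) = -v) (hab : ∀ v ∈ U, a (b v) = -b (a v))
    (hUa : Keeps U a) (hUb : Keeps U b) (f : V →ₗ[k] V →ₗ[k] k)
    (hfa : ∀ x ∈ U, ∀ y ∈ U, f (a x) (a y) = f x y) (hfb : ∀ x ∈ U, ∀ y ∈ U, f (b x) (b y) = f x y)
    (h0 : ∀ x ∈ part U a i, ∀ y ∈ part U a i, f x (b y) = 0) :
    ∀ x ∈ U, ∀ y ∈ U, f x y = 0 := by
  have hU : ∀ {c : k}, ∀ {v}, v ∈ part U a c → v ∈ U := fun hv => (Submodule.mem_inf.1 hv).1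
  have hpp : ∀ x ∈ part U a i, ∀ y ∈ part U a i, f x y = 0 := by
    intro x hx y hy
    have h := hfa x (hU hx) y (hU hy)
    rw [mem_eigenspace_iff.1 (Submodule.mem_inf.1 hx).2, mem_eigenspace_iff.1 (Submodule.mem_inf.1 hy).2,
      map_smul, map_smul, LinearMap.smul_apply, smul_eq_mul, smul_eq_mul, ← mul_assoc, hi] at h
    exact (mul_eq_zero.1 (show (2 : k) * f x y = 0 by linear_combination -h)).resolve_left h2
  intro v hv w hw
  obtain ⟨x, hx, y, hy, rfl⟩ := (halve h2 hi ha hb hab hUa hUb).2 v hv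
  obtain ⟨x', hx', y', hy', rfl⟩ := (halve h2 hi ha hb hab hUa hUb).2 w hw
  have e3 : f (b y) x' = 0 := by
    rw [← hfb _ (hUb y (hU hy)) _ (hU hx'), hb y (hU hy), map_neg, LinearMap.neg_apply, h0 y hy x' hx', neg_zero]
  simp only [map_add, LinearMap.add_apply, hpp x hx x' hx', h0 x hx y' hy', e3, hfb y (hU hy) y' (hU hy'),
    hpp y hy y' hy', add_zero]

/-! ### twisted commuting operators -/

/-- operators with distinct commutation characters are independent -/
theorem indep_twist {ι J : Type*} (A : ι → Module.End k V) (B : J → Module.End k V) (χ : ι → J → k)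
    (hB : ∀ i j, B j * A i = χ i j • (A i * B j)) (hBu : ∀ j, IsUnit (B j)) (hA : ∀ i, A i ≠ 0)
    (hχ : ∀ i i', i ≠ i' → ∃ j, χ i j ≠ χ i' j) : LinearIndependent k A := by
  classical
  rw [linearIndependent_iff']
  intro s
  induction s using Finset.induction_on with
  | empty => simp
  | insert i₀ s hi₀ ih =>
    intro c hc
    rw [Finset.sum_insert hi₀] at hc
    have key : ∀ i ∈ s, c i = 0 := by
      intro i hi
      obtain ⟨j, hj⟩ := hχ i i₀ (fun e => hi₀ (e ▸ hi))
      have h1 : (B j) * (c i₀ • A i₀ + ∑ l ∈ s, c l • A l) = 0 := by rw [hc, mul_zero]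
      have h3 : (c i₀ • A i₀ + ∑ l ∈ s, c l • A l) * B j = 0 := by rw [hc, zero_mul]
      have h4 : (∑ l ∈ s, (c l * (χ l j - χ i₀ j)) • A l) * B j = 0 := by
        simp only [mul_add, mul_smul_comm, hB, Finset.mul_sum, smul_smul] at h1
        simp only [add_mul, smul_mul_assoc, Finset.sum_mul] at h3
        simp only [mul_sub, sub_smul, Finset.sum_sub_distrib, sub_mul, Finset.sum_mul, smul_mul_assoc]
        have h5 := congrArg (χ i₀ j • ·) h3
        simp only [smul_add, Finset.smul_sum, smul_smul, smul_zero] at h5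
        rw [mul_comm (χ i₀ j)] at h5
        simp only [mul_comm (χ i₀ j)] at h5
        have h6 := congrArg₂ (· - ·) h1 h5
        simp only [add_sub_add_left_eq_sub, sub_zero] at h6
        exact h6
      have h5 : ∑ l ∈ s, (c l * (χ l j - χ i₀ j)) • A l = 0 := (hBu j).mul_left_eq_zero.1 h4
      exact (mul_eq_zero.1 (ih _ h5 i hi)).resolve_right (sub_ne_zero.2 hj)
    intro i hi
    rcases Finset.mem_insert.1 hi with rfl | hi
    · rw [Finset.sum_eq_zero fun l hl => by rw [key l hl, zero_smul], add_zero] at hc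
      exact (smul_eq_zero.1 hc).resolve_right (hA _)
    · exact key i hi

end CfsgLib.Chev.E6Alt
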