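/-
Facts on the cubic form in 27 variables: invariance of the polarisation, the rank of a polar, sign vectors of toral involutions.
-/
import Cfsg.Agent.Lib.Chev.E6Form.Torus
import Cfsg.Agent.Lib.Chev.E6Alt.Count
import Mathlib.LinearAlgebra.Matrix.ToLin
import Mathlib.LinearAlgebra.Pi

set_option autoImplicit false
set_option maxRecDepth 100000

namespace CfsgLib.Chev.E6Alt

open Cfsg.Lie Matrix CfsgLib.Chev CfsgLib.Chev.E6Form
open Module

variable {F : Type*} [Field F]

/-- inclusion and exclusion -/
theorem QB_eq_T (u v w : ι → F) :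
    QB u v w = T (u + v + w) - T (u + v) - T (u + w) - T (v + w) + T u + T v + T w := by
  have key : ∀ L : List (ι × ι × ι × ℤ), BL L u v w =
      TL L (u + v + w) - TL L (u + v) - TL L (u + w) - TL L (v + w) + TL L u + TL L v + TL L w := by
    intro L
    induction L with
    | nil => simp [BL, TL]
    | cons m L ih =>
      simp only [BL, TL, List.map_cons, List.sum_cons, Pi.add_apply] at ih ⊢
      rw [ih]; ring
  exact key mon

/-- isometries keep the polarisation, over any field -/
theorem QB_isom {g : GL ι F} (hg : Isom g) (u v w : ι → F) : QB (ap g u) (ap g v) (ap g w) = QB u v w := by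
  have hadd : ∀ x y : ι → F, ap g x + ap g y = ap g (x + y) := fun x y => (Matrix.mulVec_add _ _ _).symm
  simp only [QB_eq_T, hadd, hg (u + v + w), hg (u + v), hg (u + w), hg (v + w), hg u, hg v, hg w]

theorem QB_swap (u v w : ι → F) : QB u v w = QB v u w := by
  rw [QB_eq_T, QB_eq_T, add_comm v u]; ring

theorem QB_swap' (u v w : ι → F) : QB u v w = QB u w v := by
  rw [QB_eq_T, QB_eq_T, show u + w + v = u + v + w from add_right_comm u w v, add_comm w v]; ring

theorem QB_rot (u v w : ι → F) : QB u v w = QB w u v := by rw [QB_swap' u v w, QB_swap u w v]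

theorem QB_add1 (u u' v w : ι → F) : QB (u + u') v w = QB u v w + QB u' v w := by
  have key : ∀ L : List (ι × ι × ι × ℤ), BL L (u + u') v w = BL L u v w + BL L u' v w := by
    intro L
    induction L with
    | nil => simp [BL]
    | cons m L ih =>
      simp only [BL, List.map_cons, List.sum_cons, Pi.add_apply] at ih ⊢
      rw [ih]; ring
  exact key mon

theorem QB_add2 (u v v' w : ι → F) : QB u (v + v') w = QB u v w + QB u v' w := by
  rw [QB_swap, QB_add1, QB_swap v, QB_swap v']

theorem QB_add3 (u v w w' : ι → F) : QB u v (w + w') = QB u v w + QB u v w' := by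
  rw [QB_swap', QB_add2, QB_swap' u w, QB_swap' u w']

theorem QB_smul1 (c : F) (u v w : ι → F) : QB (c • u) v w = c * QB u v w := BL_smul _ _ _ _ _
theorem QB_smul2 (c : F) (u v w : ι → F) : QB u (c • v) w = c * QB u v w := BL_smul₂ _ _ _ _ _
theorem QB_smul3 (c : F) (u v w : ι → F) : QB u v (c • w) = c * QB u v w := BL_smul₃ _ _ _ _ _

/-- the polar of a vector as a bilinear map -/
noncomputable def polar (u : ι → F) : (ι → F) →ₗ[F] (ι → F) →ₗ[F] F :=
  LinearMap.mk₂ F (fun v w => QB u v w) (fun a b c => QB_add2 u a b c)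
    (fun c v w => QB_smul2 c u v w) (fun a b c => QB_add3 u a b c) (fun c v w => QB_smul3 c u v w)

@[simp] theorem polar_apply (u v w : ι → F) : polar u v w = QB u v w := rfl

/-- each opposite coordinate pairs with exactly one other through the given one -/
def oppOK : Bool := (List.range 27).all fun a =>
  decide (((List.range 27).filter (opp a)).length = 10) &&
  ((List.range 27).filter (opp a)).all fun y =>
    (List.range 27).any fun j =>
      ((linA j).filter fun p => opp a p.2.1) == [(a, y, 1)] || ((linA j).filter fun p => opp a p.2.1) == [(a, y, -1)]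

theorem opp_check : oppOK = true := by decide +kernel

/-- the kernel of a nonzero polar is small -/
theorem ker_polar {u : ι → F} (hu : u ≠ 0) (W : Submodule F (ι → F)) (hW : ∀ v ∈ W, ∀ w, QB u v w = 0) :
    finrank F ↥W ≤ 17 := by
  classical
  obtain ⟨a, ha, hua⟩ : ∃ a, a < 27 ∧ u (cd a) ≠ 0 := by
    by_contra h
    push Not at h
    exact hu (vec_ext fun i hi => h i hi)
  have hall := opp_check
  simp only [oppOK, List.all_eq_true, Bool.and_eq_true, List.mem_range] at hall
  obtain ⟨hlen, hpart⟩ := hall a ha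
  set S : List ℕ := (List.range 27).filter (opp a) with hS
  let T : Finset ι := (S.map cd).toFinset
  have hTc : T.card = 10 := by
    rw [List.toFinset_card_of_nodup, List.length_map, of_decide_eq_true hlen]
    refine List.Nodup.map_on (fun x hx y hy e => cd_inj ?_ ?_ e) (List.Nodup.filter _ List.nodup_range)
    · exact List.mem_range.1 (List.mem_of_mem_filter hx)
    · exact List.mem_range.1 (List.mem_of_mem_filter hy)
  let j : (↥T → F) →ₗ[F] (ι → F) := Function.ExtendByZero.linearMap F ((↑) : ↥T → ι)
  have hj : Function.Injective j := fun x y e => funext fun i => by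
    have := congrFun e (i : ι)
    simpa [j, Subtype.val_injective.extend_apply] using this
  have hdis : W ⊓ LinearMap.range j = ⊥ := by
    rw [Submodule.eq_bot_iff]
    rintro v hv
    obtain ⟨hvW, x, rfl⟩ := Submodule.mem_inf.1 hv
    have hzero : ∀ i, i ∉ T → j x i = 0 := fun i hi => by
      simp only [j, Function.ExtendByZero.linearMap_apply]
      rw [Function.extend_apply' _ _ _ (by rintro ⟨⟨y, hy⟩, rfl⟩; exact hi hy)]
      rfl
    refine vec_ext fun y hy => ?_
    by_cases hyS : y ∈ S
    · obtain ⟨i, hi, hf⟩ := List.any_eq_true.1 (hpart y hyS)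
      rw [List.mem_range] at hi
      have h0 := hW _ hvW (bs F (cd i))
      rw [QB_rot, QB_bs hi, bev_filter (linA i) (fun p => opp a p.2.1) _ _ (fun p hp hq => ?_)] at h0
      · simp only [Bool.or_eq_true, beq_iff_eq] at hf
        rcases hf with hf | hf <;> rw [hf] at h0 <;> simp [bev, hua] at h0 <;> simpa using h0
      · have hp2 : j x (cd p.2.1) = 0 := hzero _ fun hmem => by
          obtain ⟨z, hz, e⟩ := List.mem_map.1 (List.mem_toFinset.1 hmem)
          have hz' := List.mem_filter.1 hz
          have hp27 : p.2.1 < 27 := by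
            obtain ⟨m, hm, hpm⟩ := List.mem_flatMap.1 hp
            obtain ⟨c1, c2, c3⟩ := monN_lt hm
            rcases List.mem_append.1 hpm with h | h
            · rcases List.mem_append.1 h with h | h <;>
              · rcases hb : Nat.beq _ i <;> rw [hb] at h <;> simp at h <;> rcases h with rfl | rfl <;> assumption
            · rcases hb : Nat.beq _ i <;> rw [hb] at h <;> simp at h <;> rcases h with rfl | rfl <;> assumption
          rw [← cd_inj (List.mem_range.1 hz'.1) hp27 e, hz'.2] at hq
          exact Bool.noConfusion hq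
        rw [hp2]; simp
    · refine hzero _ fun hmem => ?_
      obtain ⟨z, hz, e⟩ := List.mem_map.1 (List.mem_toFinset.1 hmem)
      exact hyS (cd_inj (List.mem_range.1 (List.mem_of_mem_filter hz)) hy e ▸ hz)
  have h1 := Submodule.finrank_sup_add_finrank_inf_eq W (LinearMap.range j)
  rw [hdis, finrank_bot, add_zero, LinearMap.finrank_range_of_inj hj, Module.finrank_fintype_fun_eq_card,
    Fintype.card_coe, hTc] at h1
  have h2 := Submodule.finrank_le (W ⊔ LinearMap.range j)
  rw [Module.finrank_fintype_fun_eq_card, show Fintype.card ι = 27 from rfl] at h2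
  omega

/-- the check on the polarisation at monomials -/
def qbOK : Bool := monN.all fun m =>
  (m.2.2.2 == 1 || m.2.2.2 == -1) &&
    (((linA m.1).filter fun p => Nat.beq p.1 m.2.1 && Nat.beq p.2.1 m.2.2.1).map fun p => p.2.2).sum == m.2.2.2

theorem qb_check : qbOK = true := by decide +kernel

/-- the polarisation at a monomial -/
theorem QB_monN {m : ℕ × ℕ × ℕ × ℤ} (hm : m ∈ monN) :
    QB (bs F (cd m.1)) (bs F (cd m.2.1)) (bs F (cd m.2.2.1)) ≠ 0 := by
  obtain ⟨b1, b2, b3⟩ := monN_lt hm
  have h := List.all_eq_true.1 qb_check m hm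
  simp only [Bool.and_eq_true, Bool.or_eq_true, beq_iff_eq] at h
  rw [QB_bs b1, bev_filter (linA m.1) (fun p => Nat.beq p.1 m.2.1 && Nat.beq p.2.1 m.2.2.1) _ _ (fun p hp hq => ?_)]
  · rw [bev_const b2 b3 fun p hp => ?_, h.2]
    · rcases h.1 with e | e <;> simp [e]
    · obtain ⟨-, hq⟩ := List.mem_filter.1 hp
      simpa [nbeq_eq] using hq
  · have hlt : p.1 < 27 ∧ p.2.1 < 27 := by
      obtain ⟨m', hm', hpm⟩ := List.mem_flatMap.1 hp
      obtain ⟨c1, c2, c3⟩ := monN_lt hm'
      rcases List.mem_append.1 hpm with h | h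
      · rcases List.mem_append.1 h with h | h <;>
        · rcases hb : Nat.beq _ m.1 <;> rw [hb] at h <;> simp at h <;> rcases h with rfl | rfl <;>
            exact ⟨by assumption, by assumption⟩
      · rcases hb : Nat.beq _ m.1 <;> rw [hb] at h <;> simp at h <;> rcases h with rfl | rfl <;>
          exact ⟨by assumption, by assumption⟩
    rw [bs_cd hlt.1 b2, bs_cd hlt.2 b3]
    simp only [nbeq_eq, Bool.and_eq_false_iff, decide_eq_false_iff_not] at hq
    rcases hq with e | e <;> simp [e]

/-! ### sign vectors -/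

/-- the seeds by their bits -/
def seedB (s : ℕ) : List Bool :=
  (List.range 27).map fun i => [0, 1, 2, 3, 9, 10].idxOf i < 6 && s.testBit ([0, 1, 2, 3, 9, 10].idxOf i)

/-- all twenty-seven signs from the seeds -/
def signs (s : ℕ) : List Bool :=
  propN.foldl (fun L q => L.set q.1 (xor (L.getD q.2.1 false) (L.getD q.2.2 false))) (seedB s)

/-- the sign at a coordinate -/
def sgnv (s i : ℕ) : Bool := (signs s).getD i false

/-- the checks on the sign vectors -/
def sgnOK : Bool := (List.range 64).all fun s =>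
  (monN.all fun m => !(xor (xor (sgnv s m.1) (sgnv s m.2.1)) (sgnv s m.2.2.1))) &&
  ((List.range 6).all fun b => decide (sgnv s ([0, 1, 2, 3, 9, 10].getD b 0) = s.testBit b)) &&
  decide (((List.range 27).filter (sgnv s)).length ∈ [0, 12, 16])

theorem sgn_check : sgnOK = true := by decide +kernel

/-- signs on the coordinates with trivial product on every monomial have multiplicity 0, 12 or 16 -/
theorem count_signs {d : ℕ → Fˣ} (h2 : (2 : F) ≠ 0) (hd : ∀ m ∈ monN, d m.1 * d m.2.1 * d m.2.2.1 = 1)
    (hsq : ∀ i < 27, d i = 1 ∨ d i = -1) [DecidableEq F] :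
    ((List.range 27).filter fun i => decide (d i = -1)).length ∈ [0, 12, 16] := by
  have hne : (1 : Fˣ) ≠ -1 := fun e => h2 (by
    have := congrArg Units.val e
    rw [Units.val_neg, Units.val_one] at this
    linear_combination this)
  let b : ℕ → Bool := fun i => decide (d i = -1)
  let S : List ℕ := [0, 1, 2, 3, 9, 10]
  obtain ⟨s, hs, hbits⟩ : ∃ s < 64, ∀ j < 6, s.testBit j = b (S.getD j 0) := by
    have key : ∀ f : Fin 6 → Bool, ∃ s : Fin 64, ∀ j : Fin 6, (s : ℕ).testBit j = f j := by decide +kernel
    obtain ⟨s, hs⟩ := key fun j => b (S.getD j 0)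
    exact ⟨s, s.2, fun j hj => hs ⟨j, hj⟩⟩
  have hall := sgn_check
  simp only [sgnOK, List.all_eq_true, Bool.and_eq_true, List.mem_range] at hall
  obtain ⟨⟨hmon, hseed⟩, hlen⟩ := hall s hs
  let P : ℕ → Fˣ := fun i => if sgnv s i then -1 else 1
  have hP : ∀ m ∈ monN, P m.1 * P m.2.1 * P m.2.2.1 = 1 := fun m hm => by
    have := hmon m hm
    simp only [P]
    revert this
    cases sgnv s m.1 <;> cases sgnv s m.2.1 <;> cases sgnv s m.2.2.1 <;> simp
  have hseedP : ∀ j < 6, d (S.getD j 0) = P (S.getD j 0) := fun j hj => by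
    have h1 := of_decide_eq_true (hseed j hj)
    rw [hbits j hj] at h1
    have hlt : S.getD j 0 < 27 := (by decide : ∀ j < 6, ([0, 1, 2, 3, 9, 10] : List ℕ).getD j 0 < 27) j hj
    simp only [P]
    simp only [b, S] at h1 hlt ⊢
    rw [h1]
    rcases hsq _ hlt with e | e <;> rw [e] <;> simp [hne]
  have heq : ∀ i < 27, d i = P i := fun i hi => by
    refine agree_reach hd hP propN S ?_ i (by simpa using List.all_eq_true.1 reach_check i (List.mem_range.2 hi))
    intro j hj
    obtain ⟨k, hk, rfl⟩ := List.getElem_of_mem hj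
    have := hseedP k hk
    rwa [List.getD_eq_getElem _ _ hk] at this
  have e : ((List.range 27).filter fun i => decide (d i = -1)) = (List.range 27).filter (sgnv s) := by
    refine List.filter_congr fun i hi => ?_
    rw [List.mem_range] at hi
    rw [heq i hi]
    show decide ((if sgnv s i = true then (-1 : Fˣ) else 1) = -1) = sgnv s i
    generalize sgnv s i = bv
    rcases bv with _ | _
    · exact decide_eq_false (by simpa using hne)
    · exact decide_eq_true (if_pos rfl)
  rw [e]
  exact of_decide_eq_true hlen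

/-! ### multiplicities -/

/-- the operator of a matrix -/
noncomputable def opr : GL ι F →* Module.End F (ι → F) :=
  ((Matrix.toLinAlgEquiv' : Matrix ι ι F ≃ₐ[F] _).toRingEquiv.toRingHom.toMonoidHom).comp (Units.coeHom _)

theorem opr_apply (g : GL ι F) (v : ι → F) : opr g v = ap g v := rfl

/-- an involution conjugate to a diagonal isometry has multiplicity 0, 12 or 16 -/
theorem mneg_of_diag (h2 : (2 : F) ≠ 0) {z Y : GL ι F} (hz : z * z = 1) (hiso : Isom (Y⁻¹ * z * Y))
    (hd : ∀ i < 27, ∃ c : F, ap (Y⁻¹ * z * Y) (bs F (cd i)) = c • bs F (cd i)) :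
    mneg ⊤ (opr z) = 0 ∨ mneg ⊤ (opr z) = 12 ∨ mneg ⊤ (opr z) = 16 := by
  classical
  set d := Y⁻¹ * z * Y with hdd
  choose c hc using hd
  have hdsq : d * d = 1 := by
    rw [hdd, show Y⁻¹ * z * Y * (Y⁻¹ * z * Y) = Y⁻¹ * (z * z) * Y by group, hz]; group
  have hc1 : ∀ i (hi : i < 27), c i hi * c i hi = 1 := fun i hi => by
    have h := congrArg (fun g : GL ι F => ap g (bs F (cd i)) (cd i)) hdsq
    simp only [ap_mul, ap_one, hc i hi] at h
    rw [show ap d (c i hi • bs F (cd i)) = c i hi • ap d (bs F (cd i)) from Matrix.mulVec_smul _ _ _, hc i hi] at h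
    simpa [bs] using h
  let dv : ℕ → Fˣ := fun i => if hi : i < 27 then Units.mk0 (c i hi) (left_ne_zero_of_mul_eq_one (hc1 i hi)) else 1
  have hsq : ∀ i < 27, dv i = 1 ∨ dv i = -1 := fun i hi => by
    rcases mul_self_eq_one_iff.1 (hc1 i hi) with e | e
    · left; apply Units.ext; simp [dv, hi, e]
    · right; apply Units.ext; simp [dv, hi, e]
  have hdap : ∀ v i, i < 27 → ap d v (cd i) = (dv i : F) * v (cd i) := by
    intro v i hi
    have hcol : ∀ j < 27, (d : Matrix ι ι F) (cd i) (cd j) = if i = j then (dv i : F) else 0 := fun j hj => by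
      have h := congrFun (hc j hj) (cd i)
      simp only [ap, Matrix.mulVec_single_one, Matrix.col_apply, Pi.smul_apply, smul_eq_mul, bs_cd hi hj] at h
      rw [h]
      by_cases e : i = j
      · subst e; simp [dv, hi]
      · simp [e]
    show ∑ x, (d : Matrix ι ι F) (cd i) x * v x = _
    rw [Finset.sum_eq_single (cd i)]
    · rw [hcol i hi, if_pos rfl]
    · intro x _ hx
      obtain ⟨j, hj, rfl⟩ := cd_surj x
      rw [hcol j hj, if_neg (fun e => hx (by rw [e])), zero_mul]
    · exact fun h => absurd (Finset.mem_univ _) h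
  have hmon : ∀ m ∈ monN, dv m.1 * dv m.2.1 * dv m.2.2.1 = 1 := by
    intro m hm
    obtain ⟨b1, b2, b3⟩ := monN_lt hm
    obtain ⟨n12, n13, n23⟩ := monN_ne hm
    have hB := QB_isom hiso (bs F (cd m.1)) (bs F (cd m.2.1)) (bs F (cd m.2.2.1))
    have e1 : ∀ i < 27, ap d (bs F (cd i)) = (dv i : F) • bs F (cd i) := fun i hi => by
      rw [hc i hi]; simp [dv, hi]
    rw [e1 _ b1, e1 _ b2, e1 _ b3, QB_smul1, QB_smul2, QB_smul3] at hB
    refine Units.ext ?_
    rw [Units.val_mul, Units.val_mul, Units.val_one]
    have hne := QB_monN (F := F) hm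
    exact mul_right_cancel₀ hne (by rw [one_mul]; linear_combination hB)
  have hcount := count_signs h2 hmon hsq
  suffices e : mneg ⊤ (opr z) = ((List.range 27).filter fun i => decide (dv i = -1)).length by
    rw [e]; simpa using hcount
  let N : Finset ι := Finset.univ.filter fun x => ∃ i < 27, cd i = x ∧ dv i = -1
  have hN : N.card = ((List.range 27).filter fun i => decide (dv i = -1)).length := by
    rw [← List.length_map (f := cd), ← List.toFinset_card_of_nodup]
    · congr 1
      ext x
      simp only [N, Finset.mem_filter, Finset.mem_univ, true_and, List.mem_toFinset, List.mem_map, List.mem_filter,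
        List.mem_range, decide_eq_true_eq]
      exact ⟨fun ⟨i, a, b, c⟩ => ⟨i, ⟨a, c⟩, b⟩, fun ⟨i, ⟨a, c⟩, b⟩ => ⟨i, a, b, c⟩⟩
    · refine List.Nodup.map_on (fun x hx y hy e => cd_inj ?_ ?_ e) (List.Nodup.filter _ List.nodup_range)
      · exact List.mem_range.1 (List.mem_of_mem_filter hx)
      · exact List.mem_range.1 (List.mem_of_mem_filter hy)
  have hne : (1 : F) ≠ -1 := fun e => h2 (by linear_combination e)
  have hmemN : ∀ i < 27, cd i ∈ N ↔ dv i = -1 := fun i hi => by
    simp only [N, Finset.mem_filter, Finset.mem_univ, true_and]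
    refine ⟨fun hh => ?_, fun hh => ⟨i, hi, rfl, hh⟩⟩
    obtain ⟨i', hi', e', hv⟩ := hh
    rwa [cd_inj hi' hi e'] at hv
  have hnegd : neg ⊤ (opr d) = LinearMap.range (Function.ExtendByZero.linearMap F ((↑) : ↥N → ι)) := by
    ext v
    rw [mem_neg]
    simp only [Submodule.mem_top, true_and, opr_apply]
    constructor
    · intro h
      refine ⟨fun x => v x, vec_ext fun i hi => ?_⟩
      rw [Function.ExtendByZero.linearMap_apply]
      by_cases hx : cd i ∈ N
      · exact Subtype.val_injective.extend_apply (fun x : ↥N => v x) 0 ⟨cd i, hx⟩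
      · rw [Function.extend_apply' _ _ _ (by rintro ⟨⟨y, hy⟩, e⟩; exact hx (e ▸ hy))]
        have h1 := congrFun h (cd i)
        rw [hdap v i hi] at h1
        rcases hsq i hi with e | e
        · rw [e, Units.val_one, one_mul, Pi.neg_apply] at h1
          have h3 : (2 : F) * v (cd i) = 0 := by linear_combination h1
          exact ((mul_eq_zero.1 h3).resolve_left h2).symm
        · exact absurd ((hmemN i hi).2 e) hx
    · rintro ⟨x, rfl⟩
      refine vec_ext fun i hi => ?_
      rw [hdap _ i hi, Pi.neg_apply, Function.ExtendByZero.linearMap_apply]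
      by_cases hx : cd i ∈ N
      · rw [(hmemN i hi).1 hx]; simp
      · rw [Function.extend_apply' _ _ _ (by rintro ⟨⟨y, hy⟩, e⟩; exact hx (e ▸ hy))]
        simp
  have hinj : Function.Injective (Function.ExtendByZero.linearMap F ((↑) : ↥N → ι)) := fun x y e => funext fun i => by
    have := congrFun e (i : ι)
    simpa [Subtype.val_injective.extend_apply] using this
  let E : (ι → F) ≃ₗ[F] (ι → F) :=
    { opr Y with
      invFun := opr Y⁻¹
      left_inv := fun v => by show opr Y⁻¹ (opr Y v) = v; rw [opr_apply, opr_apply, ap_inv_ap]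
      right_inv := fun v => by show opr Y (opr Y⁻¹ v) = v; rw [opr_apply, opr_apply, ap_ap_inv] }
  have hmap : neg ⊤ (opr z) = (neg ⊤ (opr d)).map (E : (ι → F) →ₗ[F] (ι → F)) := by
    ext v
    rw [Submodule.mem_map_equiv, mem_neg, mem_neg]
    simp only [Submodule.mem_top, true_and, opr_apply]
    show _ ↔ ap d (ap Y⁻¹ v) = -(ap Y⁻¹ v)
    rw [← ap_mul, show d * Y⁻¹ = Y⁻¹ * z by rw [hdd]; group, ap_mul]
    have hneg : ap Y⁻¹ (-v) = -(ap Y⁻¹ v) := Matrix.mulVec_neg _ _
    rw [← hneg]
    exact ⟨fun h => congrArg (ap Y⁻¹) h, fun h => ap_inj Y⁻¹ h⟩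
  rw [mneg, hmap, LinearEquiv.finrank_map_eq, hnegd, LinearMap.finrank_range_of_inj hinj,
    Module.finrank_fintype_fun_eq_card, Fintype.card_coe, hN]

end CfsgLib.Chev.E6Alt
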