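/-
A minimal group over the alternating group of degree twelve inside the isometries of the cubic form:
small modules are trivial and normal two-subgroups are central.
-/
import Cfsg.Agent.Lib.Chev.E6Alt.Blocks
import Cfsg.Agent.Lib.Chev.E6Alt.Form
import Mathlib.LinearAlgebra.Eigenspace.Triangularizable
import Mathlib.Algebra.Module.ZMod

set_option autoImplicit false
set_option maxRecDepth 100000
set_option maxHeartbeats 800000

namespace CfsgLib.Chev.E6Alt

open Equiv Module CfsgLib.AltSection CfsgLib.Chev.E6Form Module.End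
open scoped commutatorElement

/-- the hypotheses -/
structure Twelve {k : Type} [Field k] {G : Type} [Group G] (ρ : G →* Module.End k (ι → k))
    (π : G →* Perm (Fin 12)) : Prop where
  inj : Function.Injective ρ
  range : π.range = alternatingGroup (Fin 12)
  min : ∀ H : Subgroup G, H.map π = alternatingGroup (Fin 12) → H = ⊤
  inv : ∀ (g : G) (u v w : ι → k), QB (ρ g u) (ρ g v) (ρ g w) = QB u v w
  invol : ∀ g : G, g * g = 1 → g ≠ 1 → mneg ⊤ (ρ g) = 12 ∨ mneg ⊤ (ρ g) = 16
  big : (2 : k) ≠ 0 ∧ (3 : k) ≠ 0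

section

variable {G : Type} [Group G] [Finite G] {π : G →* Perm (Fin 12)}

/-- representations of degree at most ten are trivial -/
theorem small_trivial {k : Type} [Field k] [IsAlgClosed k] (h2 : (2 : k) ≠ 0) (h3 : (3 : k) ≠ 0)
    (p : ℕ) [Fact p.Prime] [CharP k p] (hr : π.range = alternatingGroup (Fin 12))
    (hmin : ∀ H : Subgroup G, H.map π = alternatingGroup (Fin 12) → H = ⊤)
    {W : Type} [AddCommGroup W] [Module k W] [FiniteDimensional k W] (σ : G →* Module.End k W)
    (hd : finrank k W ≤ 10) : ∀ g, σ g = 1 := by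
  rcases normal_cases (by norm_num : 9 ≤ 12) hr hmin σ.ker with h | h
  · exfalso
    have hp : ¬ p ∣ 12 := fun hd12 => by
      have h12 : ((12 : ℕ) : k) = 0 := (CharP.cast_eq_zero_iff k p 12).2 hd12
      have e : (2 : k) * 2 * 3 = 0 := by
        rw [← h12]; push_cast; norm_num
      exact mul_ne_zero (mul_ne_zero h2 h2) h3 e
    have hb := bound_all (finrank k W) k p W G 12 σ π (by norm_num) hr
      (fun g hg => MonoidHom.mem_ker.1 (h (MonoidHom.mem_ker.2 hg))) rfl
    rw [if_neg hp] at hb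
    omega
  · exact fun g => MonoidHom.mem_ker.1 (h ▸ Subgroup.mem_top g)

/-- actions on small elementary two-groups are trivial -/
theorem two_trivial (hr : π.range = alternatingGroup (Fin 12))
    (hmin : ∀ H : Subgroup G, H.map π = alternatingGroup (Fin 12) → H = ⊤)
    {M : Type} [Group M] [Finite M] (hsq : ∀ x : M, x * x = 1) (f : G →* MulAut M)
    (hcard : Nat.card M ≤ 2 ^ 9) : ∀ g, f g = 1 := by
  haveI : Fact (Nat.Prime 2) := ⟨Nat.prime_two⟩
  letI : CommGroup M :=
    { (inferInstance : Group M) with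
      mul_comm := fun x y => by
        have hi : ∀ w : M, w⁻¹ = w := fun w => inv_eq_of_mul_eq_one_right (hsq w)
        rw [← hi (x * y), mul_inv_rev, hi, hi] }
  letI : Module (ZMod 2) (Additive M) := AddCommGroup.zmodModule fun x => by
    rw [two_nsmul]; exact hsq x
  haveI : Finite (Additive M) := ‹Finite M›
  haveI : Module.Finite (ZMod 2) (Additive M) := Module.Finite.of_finite
  set w := finrank (ZMod 2) (Additive M)
  have hw : w ≤ 9 := by
    have e : Nat.card (Additive M) = Nat.card M := rfl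
    rw [← e, Module.natCard_eq_pow_finrank (K := ZMod 2), Nat.card_zmod] at hcard
    exact (Nat.pow_le_pow_iff_right (by norm_num)).1 hcard
  let ρW : Representation (ZMod 2) G (Additive M) :=
    zmodRep 2 (fun g => MonoidHom.toAdditive (f g).toMonoidHom) (fun a => by simp)
      (fun g h a => by simp)
  rcases normal_cases (by norm_num : 9 ≤ 12) hr hmin f.ker with h | h
  · exfalso
    let kb := AlgebraicClosure (ZMod 2)
    haveI : CharP kb 2 := charP_of_injective_algebraMap (algebraMap (ZMod 2) kb).injective 2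
    let b : Module.Basis (Fin w) (ZMod 2) (Additive M) := Module.finBasis (ZMod 2) (Additive M)
    let φ : (Additive M →ₗ[ZMod 2] Additive M) → Module.End kb (Fin w → kb) := fun l =>
      Matrix.toLinAlgEquiv' ((algebraMap (ZMod 2) kb).mapMatrix (LinearMap.toMatrixAlgEquiv b l))
    have hφ : Function.Injective φ :=
      (Matrix.toLinAlgEquiv' (R := kb)).injective.comp
        ((Matrix.map_injective (algebraMap (ZMod 2) kb).injective).comp
          (LinearMap.toMatrixAlgEquiv b).injective)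
    have hφ1 : φ 1 = 1 := by simp [φ]
    have hφm : ∀ x y, φ (x * y) = φ x * φ y := fun x y => by
      simp only [φ, LinearMap.toMatrixAlgEquiv_mul, map_mul]
    let ρ' : Representation kb G (Fin w → kb) :=
      { toFun := fun g => φ (ρW g)
        map_one' := by rw [map_one]; exact hφ1
        map_mul' := fun x y => by rw [map_mul]; exact hφm _ _ }
    have hb := bound_all w kb 2 (Fin w → kb) G 12 ρ' π (by norm_num) hr (fun g hg => by
      refine MonoidHom.mem_ker.1 (h (MonoidHom.mem_ker.2 (MulEquiv.ext fun x => ?_)))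
      have h1 : ρW g = 1 := hφ (by rw [hφ1]; exact hg)
      have h2 := LinearMap.congr_fun h1 (Additive.ofMul x)
      exact congrArg Additive.toMul h2) (by simp)
    rw [if_pos (by norm_num)] at hb
    omega
  · exact fun g => MonoidHom.mem_ker.1 (h ▸ Subgroup.mem_top g)

end

namespace Twelve

variable {k : Type} [Field k] [IsAlgClosed k] {G : Type} [Group G] [Finite G]
  {ρ : G →* Module.End k (ι → k)} {π : G →* Perm (Fin 12)}

omit [IsAlgClosed k] in
lemma rho_apply (g h : G) (v : ι → k) : ρ (g * h) v = ρ g (ρ h v) := by rw [map_mul]; rfl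

omit [IsAlgClosed k] in
/-- elementary normal two-subgroups are small -/
theorem card_elementary (hT : Twelve ρ π) (Z : Subgroup G) (hsq : ∀ z ∈ Z, z * z = 1) :
    Nat.card ↥Z ≤ 2 ^ 8 := by
  have h := rank_bound hT.big.1 ρ Z hsq 27 12 ⊤ (by norm_num)
    (by rw [finrank_top, Module.finrank_fintype_fun_eq_card]; exact le_of_eq rfl)
    (fun z _ v _ => Submodule.mem_top) (fun z hz => by
      by_cases h1 : z = 1
      · exact Or.inl ⟨hz, fun v _ => by rw [h1, map_one]; rfl⟩
      · rcases hT.invol z (hsq z hz) h1 with e | e <;> exact Or.inr (by omega))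
  have hf : fixU ρ Z ⊤ = ⊥ := (Subgroup.eq_bot_iff_forall _).2 fun z hz =>
    hT.inj ((LinearMap.ext fun v => hz.2 v Submodule.mem_top).trans (map_one ρ).symm)
  rw [hf, Subgroup.card_bot, mul_one, finrank_top, Module.finrank_fintype_fun_eq_card] at h
  exact h

/-- normal two-subgroups are central -/
theorem two_central (hT : Twelve ρ π) (O : Subgroup G) (hn : O.Normal) (hp : IsPGroup 2 ↥O) :
    O ≤ Subgroup.center G := by
  classical
  haveI : Fact (Nat.Prime 2) := ⟨Nat.prime_two⟩
  have h2 := hT.big.1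
  have hperf := perfect_of_min hT.range hT.min
  suffices H : ∀ n, ∀ O : Subgroup G, Nat.card ↥O = n → O.Normal → IsPGroup 2 ↥O → O ≤ Subgroup.center G from
    H _ O rfl hn hp
  intro n
  induction n using Nat.strong_induction_on with
  | _ n ih =>
  intro O hcard hn hp
  have hlow : ∀ N : Subgroup G, N.Normal → N ≤ O → N ≠ O → N ≤ Subgroup.center G := fun N hN hle hne => by
    refine ih _ ?_ N rfl hN (hp.to_le hle)
    rw [← hcard]
    by_contra hlt
    exact hne (Subgroup.eq_of_le_of_card_ge hle (not_lt.1 hlt))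
  by_cases hO1 : O = ⊥
  · rw [hO1]; exact bot_le
  have hnt : Nontrivial ↥O := (Subgroup.nontrivial_iff_ne_bot O).2 hO1
  -- squares
  let Sq : Subgroup G := Subgroup.closure {y | ∃ x ∈ O, x * x = y}
  have hSqle : Sq ≤ O := (Subgroup.closure_le _).2 fun y ⟨x, hx, e⟩ => e ▸ mul_mem hx hx
  have hSqn : Sq.Normal := ⟨fun y hy g => by
    induction hy using Subgroup.closure_induction with
    | mem z hz =>
      obtain ⟨x, hx, rfl⟩ := hz
      exact Subgroup.subset_closure ⟨g * x * g⁻¹, hn.conj_mem x hx g, by group⟩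
    | one => simp
    | mul a b _ _ ha hb => rw [show g * (a * b) * g⁻¹ = g * a * g⁻¹ * (g * b * g⁻¹) by group]; exact mul_mem ha hb
    | inv a _ ha => rw [show g * a⁻¹ * g⁻¹ = (g * a * g⁻¹)⁻¹ by group]; exact inv_mem ha⟩
  have hSqne : Sq ≠ O := by
    intro e
    haveI : Group.IsNilpotent ↥O := hp.isNilpotent
    obtain ⟨M, hM⟩ : ∃ M : Subgroup ↥O, IsCoatom M := by
      rcases IsCoatomic.eq_top_or_exists_le_coatom (⊥ : Subgroup ↥O) with h | ⟨M, hM, -⟩
      · exact absurd h bot_ne_top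
      · exact ⟨M, hM⟩
    haveI hMn : M.Normal :=
      Subgroup.NormalizerCondition.normal_of_coatom M normalizerCondition_of_isNilpotent hM
    haveI : Finite (↥O ⧸ M) := inferInstance
    have hpq : IsPGroup 2 (↥O ⧸ M) := hp.to_quotient M
    have hidx : M.index = 2 := by
      obtain ⟨j, hj⟩ := IsPGroup.iff_card.1 hpq
      rw [← Subgroup.index_eq_card] at hj
      rcases Nat.eq_zero_or_pos j with rfl | hjp
      · exact absurd (Subgroup.index_eq_one.1 (hj.trans (pow_zero 2))) hM.1
      · obtain ⟨z, hz⟩ := exists_prime_orderOf_dvd_card' (G := ↥O ⧸ M) 2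
          (by rw [← Subgroup.index_eq_card, hj]; exact dvd_pow_self 2 (by omega))
        have hle : M ≤ (Subgroup.zpowers z).comap (QuotientGroup.mk' M) := fun x hx => by
          rw [Subgroup.mem_comap, show QuotientGroup.mk' M x = 1 from (QuotientGroup.eq_one_iff x).2 hx]
          exact one_mem _
        rcases hM.le_iff.1 hle with h | h
        · have htop : Subgroup.zpowers z = ⊤ := by
            rw [← Subgroup.map_comap_eq_self_of_surjective (QuotientGroup.mk'_surjective M) (Subgroup.zpowers z), h,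
              Subgroup.map_top_of_surjective _ (QuotientGroup.mk'_surjective M)]
          rw [Subgroup.index_eq_card, ← Subgroup.card_top, ← htop, Nat.card_zpowers, hz]
        · exfalso
          obtain ⟨x, hx⟩ := QuotientGroup.mk'_surjective M z
          have : x ∈ M := h ▸ (show x ∈ (Subgroup.zpowers z).comap (QuotientGroup.mk' M) by
            rw [Subgroup.mem_comap, hx]; exact Subgroup.mem_zpowers z)
          have h1 : z = 1 := hx ▸ (QuotientGroup.eq_one_iff x).2 this
          rw [h1, orderOf_one] at hz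
          norm_num at hz
    have hall : Sq ≤ M.map O.subtype := (Subgroup.closure_le _).2 fun y ⟨x, hx, exy⟩ =>
      ⟨⟨x, hx⟩ * ⟨x, hx⟩, Subgroup.mul_self_mem_of_index_two hidx _, exy⟩
    rw [e] at hall
    refine hM.1 (eq_top_iff.2 fun x _ => ?_)
    obtain ⟨y, hy, exy⟩ := hall x.2
    exact Subtype.ext exy ▸ hy
  have hsqc : ∀ x ∈ O, x * x ∈ Subgroup.center G := fun x hx =>
    hlow Sq hSqn hSqle hSqne (Subgroup.subset_closure ⟨x, hx, rfl⟩)
  have hcomc : ∀ x ∈ O, ∀ y ∈ O, ⁅x, y⁆ ∈ Subgroup.center G := fun x hx y hy => by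
    rw [show ⁅x, y⁆ = (x * x) * ((x⁻¹ * y) * (x⁻¹ * y)) * (y * y)⁻¹ by
      simp only [commutatorElement_def]; group]
    exact mul_mem (mul_mem (hsqc x hx) (hsqc _ (mul_mem (inv_mem hx) hy))) (inv_mem (hsqc y hy))
  by_cases hab : ∀ x ∈ O, ∀ y ∈ O, x * y = y * x
  · -- abelian
    by_cases hel : ∀ x ∈ O, x * x = 1
    · haveI := hn
      have htriv := two_trivial hT.range hT.min (M := ↥O) (fun x => Subtype.ext (hel x x.2))
        (MulAut.conjNormal (H := O)) ((hT.card_elementary O hel).trans (by norm_num))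
      exact fun x hx => Subgroup.mem_center_iff.2 fun g => by
        have h1 := congrArg (fun e : MulAut ↥O => ((e ⟨x, hx⟩ : ↥O) : G)) (htriv g)
        simp only [MulAut.conjNormal_apply, MulAut.one_apply] at h1
        exact mul_inv_eq_iff_eq_mul.1 h1
    · let Om : Subgroup G :=
        { carrier := {x | x ∈ O ∧ x * x = 1}
          one_mem' := ⟨one_mem _, mul_one _⟩
          mul_mem' := fun {a b} ha hb => ⟨mul_mem ha.1 hb.1, by
            rw [show a * b * (a * b) = a * (b * a) * b by group, ← hab a ha.1 b hb.1,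
              show a * (a * b) * b = a * a * (b * b) by group, ha.2, hb.2, one_mul]⟩
          inv_mem' := fun {a} ha => ⟨inv_mem ha.1, by rw [← mul_inv_rev, ha.2, inv_one]⟩ }
      have hOn : Om.Normal := ⟨fun a ha g => ⟨hn.conj_mem a ha.1 g, by
        rw [show g * a * g⁻¹ * (g * a * g⁻¹) = g * (a * a) * g⁻¹ by group, ha.2]; group⟩⟩
      have hOle : Om ≤ Subgroup.center G := by
        refine hlow Om hOn (fun x hx => hx.1) fun e => hel fun x hx => ?_
        rw [← e] at hx
        exact hx.2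
      refine fun x hx => central_of_comm hperf fun g => hOle ?_
      have hg := hn.conj_mem x hx g
      refine ⟨by rw [commutatorElement_def]; exact mul_mem hg (inv_mem hx), ?_⟩
      have hc := Subgroup.mem_center_iff.1 (hsqc x hx) g
      have hxy := hab _ hg x⁻¹ (inv_mem hx)
      rw [commutatorElement_def,
        show g * x * g⁻¹ * x⁻¹ * (g * x * g⁻¹ * x⁻¹) = g * x * g⁻¹ * (x⁻¹ * (g * x * g⁻¹)) * x⁻¹ by group,
        ← hxy, show g * x * g⁻¹ * (g * x * g⁻¹ * x⁻¹) * x⁻¹ = g * (x * x) * g⁻¹ * (x * x)⁻¹ by group,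
        hc, mul_inv_cancel_right, mul_inv_cancel]
  exfalso
  push Not at hab
  obtain ⟨x0, hx0, y0, hy0, hne⟩ := hab
  set c := ⁅x0, y0⁆ with hc
  have hc1 : c ≠ 1 := fun e => hne (commutatorElement_eq_one_iff_commute.1 e).eq
  have hcc : ∀ x ∈ O, ∀ y ∈ O, ⁅x, y⁆ * ⁅x, y⁆ = 1 := fun x hx y hy => by
    have h1 : ⁅x * x, y⁆ = 1 :=
      commutatorElement_eq_one_iff_commute.2 (Subgroup.mem_center_iff.1 (hsqc x hx) y).symm
    have h3 : ⁅x * x, y⁆ = x * ⁅x, y⁆ * x⁻¹ * ⁅x, y⁆ := by simp only [commutatorElement_def]; group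
    rwa [h3, Subgroup.mem_center_iff.1 (hcomc x hx y hy) x, mul_inv_cancel_right] at h1
  have hcentral : ∀ z ∈ Subgroup.center G, ∀ g v, ρ g (ρ z v) = ρ z (ρ g v) := fun z hz g v => by
    rw [← rho_apply, Subgroup.mem_center_iff.1 hz g, rho_apply]
  -- a minimal invariant subspace of the negated part
  have hW0 : ∀ g, Keeps (neg ⊤ (ρ c)) (ρ g) := fun g v hv => by
    refine mem_neg.2 ⟨Submodule.mem_top, ?_⟩
    rw [← hcentral c (hcomc x0 hx0 y0 hy0) g, (mem_neg.1 hv).2, map_neg]
  have hm16 : mneg ⊤ (ρ c) ≤ 16 ∧ 12 ≤ mneg ⊤ (ρ c) := by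
    rcases hT.invol c (hcc x0 hx0 y0 hy0) hc1 with e | e <;> omega
  have hex : ∃ d, ∃ W : Submodule k (ι → k), W ≤ neg ⊤ (ρ c) ∧ (∀ g, Keeps W (ρ g)) ∧ W ≠ ⊥ ∧ finrank k ↥W = d := by
    refine ⟨_, _, le_rfl, hW0, fun e => ?_, rfl⟩
    have := hm16.2
    rw [mneg, e, finrank_bot] at this
    omega
  obtain ⟨W, hWle, hWk, hWne, hWd⟩ := Nat.find_spec hex
  have hWmin : ∀ W' : Submodule k (ι → k), W' ≤ W → (∀ g, Keeps W' (ρ g)) → W' ≠ ⊥ → W' = W := by
    intro W' hle hk' hne'
    refine Submodule.eq_of_le_of_finrank_le hle ?_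
    have := Nat.find_min' hex ⟨W', hle.trans hWle, hk', hne', rfl⟩
    omega
  haveI : Nontrivial ↥W := Submodule.nontrivial_iff_ne_bot.2 hWne
  let σ : G → Module.End k ↥W := fun g => (ρ g).restrict (hWk g)
  have hσm : ∀ g h, σ (g * h) = σ g * σ h := fun g h => LinearMap.ext fun v => Subtype.ext (rho_apply (ρ := ρ) g h v.1)
  have hscal : ∀ z ∈ Subgroup.center G, ∃ s : k, ∀ v ∈ W, ρ z v = s • v := by
    intro z hz
    obtain ⟨s, hs⟩ := Module.End.exists_eigenvalue (σ z)
    obtain ⟨v, hv⟩ := hs.exists_hasEigenvector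
    refine ⟨s, fun u hu => ?_⟩
    have h := hWmin (W ⊓ eigenspace (ρ z) s) inf_le_left (fun g w hw => Submodule.mem_inf.2
      ⟨hWk g w (Submodule.mem_inf.1 hw).1, mem_eigenspace_iff.2 (by
        rw [← hcentral z hz g, mem_eigenspace_iff.1 (Submodule.mem_inf.1 hw).2, map_smul])⟩) (by
      intro e
      have hmem : (v : ι → k) ∈ W ⊓ eigenspace (ρ z) s :=
        Submodule.mem_inf.2 ⟨v.2, mem_eigenspace_iff.2 (congrArg Subtype.val (mem_eigenspace_iff.1 hv.1))⟩
      rw [e, Submodule.mem_bot] at hmem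
      exact hv.2 (Subtype.ext hmem))
    exact mem_eigenspace_iff.1 (Submodule.mem_inf.1 (h.ge hu)).2
  -- the radical
  let R : Subgroup G :=
    { carrier := {x | x ∈ O ∧ ∀ y ∈ O, σ ⁅x, y⁆ = 1}
      one_mem' := ⟨one_mem _, fun y _ => by
        rw [commutatorElement_one_left]; exact LinearMap.ext fun v => Subtype.ext (by simp [σ])⟩
      mul_mem' := fun {a b} ha hb => ⟨mul_mem ha.1 hb.1, fun y hy => by
        rw [show ⁅a * b, y⁆ = a * ⁅b, y⁆ * a⁻¹ * ⁅a, y⁆ by simp only [commutatorElement_def]; group,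
          Subgroup.mem_center_iff.1 (hcomc b hb.1 y hy) a, mul_inv_cancel_right, hσm, ha.2 y hy, hb.2 y hy,
          mul_one]⟩
      inv_mem' := fun {a} ha => ⟨inv_mem ha.1, fun y hy => by
        have h : ⁅a * a⁻¹, y⁆ = a * ⁅a⁻¹, y⁆ * a⁻¹ * ⁅a, y⁆ := by simp only [commutatorElement_def]; group
        rw [mul_inv_cancel, commutatorElement_one_left,
          Subgroup.mem_center_iff.1 (hcomc _ (inv_mem ha.1) y hy) a, mul_inv_cancel_right] at h
        have h1 := congrArg σ h
        rw [hσm, ha.2 y hy, mul_one] at h1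
        rw [← h1]
        exact LinearMap.ext fun v => Subtype.ext (by simp [σ])⟩ }
  have hRn : R.Normal := ⟨fun a ha g => ⟨hn.conj_mem a ha.1 g, fun y hy => by
    rw [show ⁅g * a * g⁻¹, y⁆ = g * ⁅a, g⁻¹ * y * g⁆ * g⁻¹ by simp only [commutatorElement_def]; group]
    have hy' : g⁻¹ * y * g ∈ O := by simpa using hn.conj_mem y hy g⁻¹
    rw [Subgroup.mem_center_iff.1 (hcomc a ha.1 _ hy') g, mul_inv_cancel_right]
    exact ha.2 _ hy'⟩⟩
  have hRc : R ≤ Subgroup.center G := by
    refine hlow R hRn (fun x hx => hx.1) fun e => ?_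
    have h1 := (e.ge hx0).2 y0 hy0
    obtain ⟨v, hv, hv0⟩ := (Submodule.ne_bot_iff W).1 hWne
    have h3 : ρ c v = v := congrArg Subtype.val (LinearMap.congr_fun h1 ⟨v, hv⟩)
    rw [(mem_neg.1 (hWle hv)).2] at h3
    have h4 : (2 : k) • v = 0 := by rw [two_smul]; nth_rewrite 1 [← h3]; simp
    exact hv0 ((smul_eq_zero.1 h4).resolve_left h2)
  haveI := hn
  haveI := hRn
  let R' : Subgroup ↥O := R.subgroupOf O
  haveI hR'n : R'.Normal := Subgroup.Normal.subgroupOf hRn O
  have hMsq : ∀ x : ↥O ⧸ R', x * x = 1 := by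
    intro x
    obtain ⟨a, rfl⟩ := QuotientGroup.mk'_surjective R' x
    rw [← map_mul, QuotientGroup.mk'_apply, QuotientGroup.eq_one_iff]
    refine ⟨(a * a).2, fun y hy => ?_⟩
    show σ ⁅((a * a : ↥O) : G), y⁆ = 1
    rw [show ⁅((a * a : ↥O) : G), y⁆ = 1 from commutatorElement_eq_one_iff_commute.2
      (Subgroup.mem_center_iff.1 (hsqc a a.2) y).symm]
    exact LinearMap.ext fun v => Subtype.ext (by simp [σ])
  have hpres : ∀ g : G, R' ≤ R'.comap (MulAut.conjNormal g : ↥O ≃* ↥O).toMonoidHom := fun g a ha => by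
    show ((MulAut.conjNormal g a : ↥O) : G) ∈ R
    rw [MulAut.conjNormal_apply]
    exact hRn.conj_mem _ ha g
  let q : G → (↥O ⧸ R' →* ↥O ⧸ R') := fun g =>
    QuotientGroup.map R' R' (MulAut.conjNormal g : ↥O ≃* ↥O).toMonoidHom (hpres g)
  have hqa : ∀ g (a : ↥O), q g (QuotientGroup.mk' R' a) = QuotientGroup.mk' R' (MulAut.conjNormal g a) :=
    fun g a => rfl
  have hqm : ∀ g h, ∀ x, q (g * h) x = q g (q h x) := fun g h x => by
    obtain ⟨a, rfl⟩ := QuotientGroup.mk'_surjective R' x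
    rw [hqa, hqa, hqa, map_mul]
    rfl
  have hq1 : ∀ x, q 1 x = x := fun x => by
    obtain ⟨a, rfl⟩ := QuotientGroup.mk'_surjective R' x
    rw [hqa, map_one]
    rfl
  let f : G →* MulAut (↥O ⧸ R') :=
    { toFun := fun g =>
        { toFun := q g
          invFun := q g⁻¹
          left_inv := fun x => by rw [← hqm, inv_mul_cancel, hq1]
          right_inv := fun x => by rw [← hqm, mul_inv_cancel, hq1]
          map_mul' := map_mul (q g) }
      map_one' := MulEquiv.ext hq1
      map_mul' := fun g h => MulEquiv.ext (hqm g h) }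
  have hbig : 2 ^ 9 < Nat.card (↥O ⧸ R') := by
    by_contra hle
    have htriv := two_trivial hT.range hT.min hMsq f (not_lt.1 hle)
    refine hne (Subgroup.mem_center_iff.1 ?_ x0).symm.symm
    refine central_of_comm hperf fun g => hRc ?_
    have h1 : QuotientGroup.mk' R' (MulAut.conjNormal g ⟨y0, hy0⟩) = QuotientGroup.mk' R' ⟨y0, hy0⟩ := by
      rw [← hqa]
      exact congrArg (fun e : MulAut (↥O ⧸ R') => e (QuotientGroup.mk' R' ⟨y0, hy0⟩)) (htriv g)
    have h3 : (MulAut.conjNormal g (⟨y0, hy0⟩ : ↥O)) / ⟨y0, hy0⟩ ∈ R' :=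
      (QuotientGroup.eq_iff_div_mem).1 h1
    have h4 : ((MulAut.conjNormal g (⟨y0, hy0⟩ : ↥O) / ⟨y0, hy0⟩ : ↥O) : G) ∈ R := h3
    rwa [Subgroup.coe_div, MulAut.conjNormal_apply, div_eq_mul_inv] at h4
  -- representatives are independent
  haveI : Fintype (↥O ⧸ R') := Fintype.ofFinite _
  let rep : ↥O ⧸ R' → G := fun x => ((Quotient.out x : ↥O) : G)
  have hrep : ∀ x, rep x ∈ O := fun x => (Quotient.out x : ↥O).2
  choose χ hχ using fun (x : G) (y : G) (hx : x ∈ O) (hy : y ∈ O) => hscal _ (hcomc x hx y hy)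
  have hu : ∀ g, IsUnit (σ g) := fun g => ⟨⟨σ g, σ g⁻¹, by
    rw [← hσm, mul_inv_cancel]; exact LinearMap.ext fun v => Subtype.ext (by simp [σ]), by
    rw [← hσm, inv_mul_cancel]; exact LinearMap.ext fun v => Subtype.ext (by simp [σ])⟩, rfl⟩
  have hind : LinearIndependent k (fun x : ↥O ⧸ R' => σ (rep x)) := by
    refine indep_twist _ (fun y : ↥O ⧸ R' => σ (rep y)) (fun x y => χ (rep y) (rep x) (hrep y) (hrep x))
      (fun x y => ?_) (fun y => hu _) (fun x => (hu _).ne_zero) fun x x' hxx' => ?_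
    · rw [← hσm, ← hσm, show rep y * rep x = ⁅rep y, rep x⁆ * (rep x * rep y) by
        simp only [commutatorElement_def]; group, hσm]
      exact LinearMap.ext fun v => Subtype.ext (hχ _ _ (hrep y) (hrep x) _ (σ (rep x * rep y) v).2)
    · by_contra hcon
      push Not at hcon
      refine hxx' ?_
      rw [← QuotientGroup.out_eq' x, ← QuotientGroup.out_eq' x', QuotientGroup.eq]
      refine ⟨mul_mem (inv_mem (hrep x)) (hrep x'), fun y hy => ?_⟩
      show σ ⁅(rep x)⁻¹ * rep x', y⁆ = 1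
      have hxinv := inv_mem (hrep x)
      have e : ⁅(rep x)⁻¹ * rep x', y⁆ = ⁅rep x', y⁆ * ⁅rep x, y⁆ := by
        have h1 : ⁅(rep x)⁻¹ * rep x', y⁆ = (rep x)⁻¹ * ⁅rep x', y⁆ * rep x * ⁅(rep x)⁻¹, y⁆ := by
          simp only [commutatorElement_def]; group
        have h3 : ⁅rep x * (rep x)⁻¹, y⁆ = rep x * ⁅(rep x)⁻¹, y⁆ * (rep x)⁻¹ * ⁅rep x, y⁆ := by
          simp only [commutatorElement_def]; group
        rw [mul_inv_cancel, commutatorElement_one_left,
          Subgroup.mem_center_iff.1 (hcomc _ hxinv y hy) (rep x), mul_inv_cancel_right] at h3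
        rw [h1, Subgroup.mem_center_iff.1 (hcomc _ (hrep x') y hy) (rep x)⁻¹, mul_assoc _ (rep x)⁻¹,
          inv_mul_cancel, mul_one, eq_inv_of_mul_eq_one_left h3.symm,
          inv_eq_of_mul_eq_one_right (hcc _ (hrep x) y hy)]
      rw [e, hσm]
      -- compare with the representative of `y`
      set yq : ↥O ⧸ R' := QuotientGroup.mk' R' ⟨y, hy⟩
      have hyR : (rep yq)⁻¹ * y ∈ R := by
        have h := QuotientGroup.eq.1 (QuotientGroup.out_eq' yq)
        exact h
      have hval : ∀ z ∈ O, σ ⁅z, y⁆ = σ ⁅z, rep yq⁆ := fun z hz => by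
        have h1 : ⁅z, rep yq * ((rep yq)⁻¹ * y)⁆ = ⁅z, rep yq⁆ * (rep yq * ⁅z, (rep yq)⁻¹ * y⁆ * (rep yq)⁻¹) := by
          simp only [commutatorElement_def]; group
        rw [mul_inv_cancel_left, Subgroup.mem_center_iff.1 (hcomc z hz _ hyR.1) (rep yq), mul_inv_cancel_right] at h1
        have h5 : σ ⁅z, (rep yq)⁻¹ * y⁆ = 1 := by
          have h6 := hyR.2 z hz
          rw [← commutatorElement_inv, inv_eq_of_mul_eq_one_right (hcc z hz _ hyR.1)] at h6
          exact h6
        rw [h1, hσm, h5, mul_one]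
      rw [hval _ (hrep x'), hval _ (hrep x)]
      have hswap : ∀ z, ∀ hz : z ∈ O, σ ⁅z, rep yq⁆ = χ (rep yq) z (hrep yq) hz • (1 : Module.End k ↥W) := fun z hz => by
        rw [← commutatorElement_inv, inv_eq_of_mul_eq_one_right (hcc _ (hrep yq) z hz)]
        exact LinearMap.ext fun v => Subtype.ext (hχ _ _ (hrep yq) hz _ v.2)
      rw [hswap _ (hrep x'), hswap _ (hrep x), ← hcon yq, ← hswap _ (hrep x), ← hσm, hcc _ (hrep x) _ (hrep yq)]
      exact LinearMap.ext fun v => Subtype.ext (by simp [σ])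
  have hle := hind.fintype_card_le_finrank
  rw [← Nat.card_eq_fintype_card, Module.finrank_linearMap] at hle
  have hW16 : finrank k ↥W ≤ 16 := (Submodule.finrank_mono hWle).trans hm16.1
  have := Nat.mul_le_mul hW16 hW16
  omega

/-- the minimal preimage -/
theorem toMin (hT : Twelve ρ π) : Min π :=
  ⟨hT.range, hT.min, fun O hn hp => hT.two_central O hn hp⟩

end Twelve

end CfsgLib.Chev.E6Alt
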