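/-
The cubic isometry group over the Chevalley group of type E6: compatibility with field maps and the torus.
-/
import Cfsg.Agent.Lib.Chev.E6Form.Main
import Cfsg.Agent.Lib.Chev.Types
import Cfsg.Agent.Lib.KnownB.ChevField

set_option autoImplicit false
set_option maxRecDepth 100000
set_option maxHeartbeats 400000

namespace CfsgLib.Chev.E6Alt

open Cfsg.Lie Matrix CfsgLib.Chev CfsgLib.Chev.E6Form
open CfsgLib.KnownB.ChevField (group_map_le map_xG)

universe u v

variable {F : Type u} [Field F]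

/-- the adjoint projection -/
theorem exists_psi [Fintype F] (h3 : 3 ≤ Fintype.card F) :
    ∃ ψ : ↥(E6univ F) →* ↥(chevE6.group F), Function.Surjective ψ ∧
      (∀ z, ψ z = 1 → z ∈ Subgroup.center ↥(E6univ F)) ∧
      ∀ (r : ℕ) (t : F) (hr : r < 72), ((ψ ⟨xE r t, EG_isom (xE_mem r hr t)⟩ : ↥(chevE6.group F)) : GL chevE6.Idx F) =
        xG (Std.good stdE6) r t := by
  classical
  obtain ⟨θ, hθ, hθk, hgen⟩ := Cfsg.Agent.S2396.result (K := F) chevE6 (by simp) (by simp [chevE6, chevB2, chevG2])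
  have hperf := Cfsg.Agent.S2395.result (K := F) chevE6 (by simp) (by simp [chevE6, chevB2, chevG2])
  have hsimple := (Cfsg.Agent.S1054.result (F := F) chevE6 (by simp)).1
  let φ₀ : chevE6.SteinbergCover F →* ↥(E6univ F) := (coverE (F := F)).codRestrict _ fun y =>
    EG_isom (range_coverE (F := F) ▸ ⟨y, rfl⟩)
  have hφ₀ : Function.Surjective φ₀ := by
    rintro ⟨z, hz⟩
    rw [E6univ_eq h3, ← range_coverE] at hz
    obtain ⟨y, rfl⟩ := hz
    exact ⟨y, rfl⟩
  let φ := (QuotientGroup.mk' (Subgroup.center ↥(E6univ F))).comp φ₀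
  have hker : θ.ker ≤ φ.ker := fun z hz => by
    rw [MonoidHom.mem_ker, MonoidHom.comp_apply, QuotientGroup.mk'_apply, QuotientGroup.eq_one_iff,
      Subgroup.mem_center_iff]
    intro w
    obtain ⟨y, rfl⟩ := hφ₀ w
    rw [← map_mul, ← map_mul, Subgroup.mem_center_iff.1 (hθk hz) y]
  let χ := θ.liftOfSurjective hθ ⟨φ, hker⟩
  have hχ : ∀ y, χ (θ y) = φ y := fun y => MonoidHom.liftOfRightInverse_comp_apply _ _ _ ⟨φ, hker⟩ y
  have hχs : Function.Surjective χ := fun z => by
    obtain ⟨w, rfl⟩ := QuotientGroup.mk'_surjective _ z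
    obtain ⟨y, rfl⟩ := hφ₀ w
    exact ⟨θ y, hχ y⟩
  have hχi : Function.Injective χ := by
    rcases hsimple.eq_bot_or_eq_top_of_normal χ.ker inferInstance with hk | hk
    · exact (MonoidHom.ker_eq_bot_iff _).1 hk
    · exfalso
      have htriv : ∀ y, φ₀ y ∈ Subgroup.center ↥(E6univ F) := fun y => by
        have : χ (θ y) = 1 := MonoidHom.mem_ker.1 (hk ▸ Subgroup.mem_top _)
        rw [hχ] at this
        exact (QuotientGroup.eq_one_iff _).1 this
      have h1 : commutator (chevE6.SteinbergCover F) ≤ φ₀.ker := by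
        rw [commutator_def, Subgroup.commutator_le]
        intro a _ b _
        rw [MonoidHom.mem_ker, map_commutatorElement, commutatorElement_eq_one_iff_commute]
        exact (Subgroup.mem_center_iff.1 (htriv a) (φ₀ b)).symm
      rw [hperf] at h1
      have h2 : φ₀ (chevE6.scGen F 0 1) = 1 := h1 (Subgroup.mem_top _)
      exact xE_ne_one ((lift_stX (F := F) (show 0 < 72 by norm_num) 1).symm.trans (congrArg Subtype.val h2))
  let e := MulEquiv.ofBijective χ ⟨hχi, hχs⟩
  refine ⟨e.symm.toMonoidHom.comp (QuotientGroup.mk' _), e.symm.surjective.comp (QuotientGroup.mk'_surjective _),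
    fun z hz => ?_, fun r t hr => ?_⟩
  · have h : e.symm (QuotientGroup.mk' (Subgroup.center ↥(E6univ F)) z) = e.symm 1 := hz.trans (map_one _).symm
    exact (QuotientGroup.eq_one_iff _).1 (e.symm.injective h)
  · have h0 : φ₀ (chevE6.scGen F r t) = ⟨xE r t, EG_isom (xE_mem r hr t)⟩ := Subtype.ext (lift_stX hr t)
    have h1 : e.symm (φ (chevE6.scGen F r t)) = θ (chevE6.scGen F r t) := by
      rw [← hχ]; exact e.symm_apply_apply _
    have h2 := congrArg (fun z : ↥(chevE6.group F) => (z : GL chevE6.Idx F)) h1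
    simp only [φ, MonoidHom.comp_apply, h0] at h2
    refine h2.trans (Units.ext ?_)
    rw [hgen r t hr, xG_val]

/-! ### maps of fields -/

variable {L : Type v} [Field L]

/-- matrices move along a field map -/
noncomputable abbrev mE (ι₀ : F →+* L) : GL ι F →* GL ι L := Matrix.GeneralLinearGroup.map ι₀

theorem map_xE (ι₀ : F →+* L) (r : ℕ) (t : F) : mE ι₀ (xE r t) = xE r (ι₀ t) := by
  refine Units.ext ?_
  show ι₀.mapMatrix (xM r t) = xM r (ι₀ t)
  have h : ∀ E : List (ι × ι × ℤ), ι₀.mapMatrix ((E.map fun e => (e.2.2 : F) • Matrix.single e.2.1 e.1 (1 : F)).sum) =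
      (E.map fun e => (e.2.2 : L) • Matrix.single e.2.1 e.1 (1 : L)).sum := by
    intro E
    rw [map_list_sum, List.map_map]
    congr 1
    refine List.map_congr_left fun e _ => ?_
    ext i j
    simp only [Function.comp_apply, RingHom.mapMatrix_apply, Matrix.map_apply, Matrix.smul_apply,
      Matrix.single_apply, smul_eq_mul, map_mul, map_intCast]
    split_ifs <;> simp
  rw [xM, xM, map_add, map_one, ← h]
  congr 1
  ext i j
  simp

theorem map_EG (ι₀ : F →+* L) {z : GL ι F} (hz : z ∈ EG F) : mE ι₀ z ∈ EG L := by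
  induction hz using Subgroup.closure_induction with
  | mem y hy =>
    obtain ⟨r, t, hr, rfl⟩ := hy
    rw [map_xE]
    exact xE_mem r hr _
  | one => rw [map_one]; exact one_mem _
  | mul a b _ _ ha hb => rw [map_mul]; exact mul_mem ha hb
  | inv a _ ha => rw [map_inv]; exact inv_mem ha

theorem mE_inj (ι₀ : F →+* L) : Function.Injective (mE ι₀) := fun x y e =>
  Units.ext (Matrix.ext fun i j => ι₀.injective (congrArg (fun z : GL ι L => (z : Matrix ι ι L) i j) e))

/-- the projection commutes with field maps -/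
theorem psi_natural (ι₀ : F →+* L) (ψ : ↥(E6univ F) →* ↥(chevE6.group F)) (ψ' : ↥(E6univ L) →* ↥(chevE6.group L))
    (hψ : ∀ (r : ℕ) (t : F) (hr : r < 72), ((ψ ⟨xE r t, EG_isom (xE_mem r hr t)⟩ : ↥(chevE6.group F)) :
      GL chevE6.Idx F) = xG (Std.good stdE6) r t)
    (hψ' : ∀ (r : ℕ) (t : L) (hr : r < 72), ((ψ' ⟨xE r t, EG_isom (xE_mem r hr t)⟩ : ↥(chevE6.group L)) :
      GL chevE6.Idx L) = xG (Std.good stdE6) r t)
    {z : GL ι F} (hz : z ∈ EG F) :
    ((ψ' ⟨mE ι₀ z, EG_isom (map_EG ι₀ hz)⟩ : ↥(chevE6.group L)) : GL chevE6.Idx L) =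
      Matrix.GeneralLinearGroup.map ι₀ ((ψ ⟨z, EG_isom hz⟩ : ↥(chevE6.group F)) : GL chevE6.Idx F) := by
  induction hz using Subgroup.closure_induction with
  | mem y hy =>
    obtain ⟨r, t, hr, rfl⟩ := hy
    simp only [map_xE, hψ r t hr, hψ' r _ hr, map_xG]
  | one =>
    rw [show (⟨mE ι₀ 1, _⟩ : ↥(E6univ L)) = 1 from Subtype.ext (map_one _),
      show (⟨(1 : GL ι F), _⟩ : ↥(E6univ F)) = 1 from rfl]
    simp
  | mul a b ha' hb' ha hb =>
    rw [show (⟨mE ι₀ (a * b), _⟩ : ↥(E6univ L)) = ⟨mE ι₀ a, EG_isom (map_EG ι₀ ha')⟩ * ⟨mE ι₀ b, EG_isom (map_EG ι₀ hb')⟩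
        from Subtype.ext (map_mul _ a b),
      show (⟨a * b, _⟩ : ↥(E6univ F)) = ⟨a, EG_isom ha'⟩ * ⟨b, EG_isom hb'⟩ from rfl,
      map_mul, map_mul, Subgroup.coe_mul, Subgroup.coe_mul, ha, hb, map_mul]
  | inv a ha' ha =>
    rw [show (⟨mE ι₀ a⁻¹, _⟩ : ↥(E6univ L)) = (⟨mE ι₀ a, EG_isom (map_EG ι₀ ha')⟩)⁻¹ from Subtype.ext (map_inv _ a),
      show (⟨a⁻¹, _⟩ : ↥(E6univ F)) = (⟨a, EG_isom ha'⟩)⁻¹ from rfl,
      map_inv, map_inv, Subgroup.coe_inv, Subgroup.coe_inv, ha, map_inv]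

/-! ### the torus -/

lemma ap_smul' (g : GL ι F) (c : F) (v : ι → F) : ap g (c • v) = c • ap g v := Matrix.mulVec_smul _ _ _

/-- a diagonal matrix in the coordinates -/
def IsDiag' (z : GL ι F) : Prop := ∀ i < 27, ∃ c : F, ap z (bs F (cd i)) = c • bs F (cd i)

theorem IsDiag'.mul {y z : GL ι F} (hy : IsDiag' y) (hz : IsDiag' z) : IsDiag' (y * z) := fun i hi => by
  obtain ⟨a, ha⟩ := hy i hi
  obtain ⟨b, hb⟩ := hz i hi
  exact ⟨b * a, by rw [ap_mul, hb, ap_smul', ha, smul_smul]⟩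

theorem isDiag_one : IsDiag' (1 : GL ι F) := fun i _ => ⟨1, by rw [ap_one, one_smul]⟩

theorem hE_isDiag (l : Fin 6) (t : Fˣ) : IsDiag' (hE (simpleR l) (negS l) (t : F)) := fun i hi =>
  ⟨((t ^ lam l i : Fˣ) : F), vec_ext fun j hj => by
    rw [hE_diag hj, Pi.smul_apply, smul_eq_mul, bs_cd hj hi]
    by_cases e : j = i
    · subst e; simp
    · simp [e]⟩

/-- two coordinates are told apart by some simple torus -/
noncomputable def sepOK : Bool := (List.range 27).all fun i => (List.range 27).all fun j =>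
  Nat.beq i j || (List.finRange 6).any fun l =>
    decide (lam l i - lam l j = 1) || decide (lam l i - lam l j = -1) ||
      decide (lam l i - lam l j = 2) || decide (lam l i - lam l j = -2)

theorem sep_check : sepOK = true := by decide +kernel

/-- the centre of the isometry group is diagonal -/
theorem center_diag {t : Fˣ} (ht : t ≠ 1) (ht2 : t * t ≠ 1) {z : ↥(E6univ F)}
    (hz : z ∈ Subgroup.center ↥(E6univ F)) : IsDiag' (z : GL ι F) := by
  intro i hi
  refine ⟨ap (z : GL ι F) (bs F (cd i)) (cd i), vec_ext fun j hj => ?_⟩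
  rw [Pi.smul_apply, bs_cd hj hi, smul_eq_mul]
  by_cases e : j = i
  · subst e; simp
  rw [if_neg e, mul_zero]
  have h := sep_check
  simp only [sepOK, List.all_eq_true, List.mem_range] at h
  obtain ⟨l, -, hl⟩ : ∃ l ∈ List.finRange 6, (decide (lam l i - lam l j = 1) || decide (lam l i - lam l j = -1) ||
      decide (lam l i - lam l j = 2) || decide (lam l i - lam l j = -2)) = true := by
    have h' := h i hi j hj
    rcases Bool.or_eq_true_iff.1 h' with h' | h'
    · exact absurd (Nat.eq_of_beq_eq_true h') (Ne.symm e)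
    · exact List.any_eq_true.1 h'
  let T : ↥(E6univ F) := ⟨hE (simpleR l) (negS l) (t : F), EG_isom (hE_mem l _)⟩
  have hc := congrArg (fun y : ↥(E6univ F) => ap (y : GL ι F) (bs F (cd i)) (cd j)) (Subgroup.mem_center_iff.1 hz T)
  simp only [Subgroup.coe_mul, ap_mul, T, hE_diag hj] at hc
  obtain ⟨c, hcv⟩ := hE_isDiag l t i hi
  have hcval : c = ((t ^ lam l i : Fˣ) : F) := by
    have := congrFun hcv (cd i)
    rw [hE_diag hi, Pi.smul_apply, bs_cd hi hi, if_pos rfl, mul_one, smul_eq_mul, mul_one] at this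
    exact this.symm
  rw [hcv, ap_smul', Pi.smul_apply, smul_eq_mul, hcval] at hc
  by_contra hne
  have h1 : t ^ lam l j = t ^ lam l i := Units.ext (mul_right_cancel₀ hne hc)
  have h2 : t ^ (lam l i - lam l j) = 1 := by rw [_root_.zpow_sub, h1, mul_inv_cancel]
  simp only [Bool.or_eq_true, decide_eq_true_eq] at hl
  rcases hl with ((h | h) | h) | h <;> rw [h] at h2 <;>
    simp [_root_.zpow_two, _root_.zpow_neg, pow_two] at h2 <;> first | exact ht h2 | exact ht2 h2 | exact ht2 (inv_eq_one.1 (by rw [_root_.mul_inv]; exact h2))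

theorem rankE6 : chevE6.rank = 6 := rfl

/-- the projection of a torus element -/
theorem psi_hE (ψ : ↥(E6univ F) →* ↥(chevE6.group F))
    (hψ : ∀ (r : ℕ) (t : F) (hr : r < 72), ((ψ ⟨xE r t, EG_isom (xE_mem r hr t)⟩ : ↥(chevE6.group F)) :
      GL chevE6.Idx F) = xG (Std.good stdE6) r t) (l : Fin 6) (t : Fˣ) :
    ((ψ ⟨hE (simpleR l) (negS l) (t : F), EG_isom (hE_mem l _)⟩ : ↥(chevE6.group F)) : GL chevE6.Idx F) =
      tor chevE6 auxE6 (Pi.mulSingle (Fin.cast rankE6.symm l) t) := by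
  have hb : simpleR l < 72 ∧ negS l < 72 ∧ chevE6.simple (l : ℕ) = simpleR l := by
    revert l; decide +kernel
  obtain ⟨h1, h2, h3⟩ := hb
  let x1 : ℕ → F → ↥(E6univ F) := fun r s => if hr : r < 72 then ⟨xE r s, EG_isom (xE_mem r hr s)⟩ else 1
  let N : F → ↥(E6univ F) := fun s => x1 (simpleR l) s * x1 (negS l) (-s⁻¹) * x1 (simpleR l) s
  have hN : ∀ s : F, ((ψ (N s) : ↥(chevE6.group F)) : GL chevE6.Idx F) = nG (Std.good stdE6) (simpleR l) s := by
    intro s
    simp only [N, x1, dif_pos h1, dif_pos h2, map_mul, Subgroup.coe_mul, hψ _ _ h1, hψ _ _ h2]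
    rfl
  have e : (⟨hE (simpleR l) (negS l) (t : F), EG_isom (hE_mem l _)⟩ : ↥(E6univ F)) = N t * N (-1) := by
    refine Subtype.ext ?_
    simp only [N, x1, dif_pos h1, dif_pos h2, Subgroup.coe_mul]
    rfl
  rw [e, map_mul, Subgroup.coe_mul, hN, hN, ← hG_simple (Std.good stdE6) (Fin.cast rankE6.symm l) t, Fin.val_cast]
  rw [h3]
  rfl

/-- over a finite field, what maps into the torus is diagonal -/
theorem diag_of_torus [Fintype F] {ψ : ↥(E6univ F) →* ↥(chevE6.group F)}
    (hk : ∀ z, ψ z = 1 → z ∈ Subgroup.center ↥(E6univ F))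
    (hψ : ∀ (r : ℕ) (t : F) (hr : r < 72), ((ψ ⟨xE r t, EG_isom (xE_mem r hr t)⟩ : ↥(chevE6.group F)) :
      GL chevE6.Idx F) = xG (Std.good stdE6) r t)
    {t : Fˣ} (ht : t ≠ 1) (ht2 : t * t ≠ 1) {z : ↥(E6univ F)}
    (hz : ((ψ z : ↥(chevE6.group F)) : GL chevE6.Idx F) ∈ chevE6.diagonalSubgroup F) : IsDiag' (z : GL ι F) := by
  rw [diagonalSubgroup_eq (Std.good stdE6)] at hz
  obtain ⟨c, hc⟩ := hz
  have key : ∀ L : List (Fin chevE6.rank), ∃ D : ↥(E6univ F), IsDiag' (D : GL ι F) ∧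
      ((ψ D : ↥(chevE6.group F)) : GL chevE6.Idx F) =
        tor chevE6 auxE6 (L.map fun l => Pi.mulSingle l (c l)).prod := by
    intro L
    induction L with
    | nil => exact ⟨1, isDiag_one, by rw [map_one, List.map_nil, List.prod_nil, map_one]; rfl⟩
    | cons l L ih =>
      obtain ⟨D, hD, hDv⟩ := ih
      refine ⟨⟨hE (simpleR (Fin.cast rankE6 l)) (negS (Fin.cast rankE6 l)) (c l : F), EG_isom (hE_mem _ _)⟩ * D,
        ?_, ?_⟩
      · rw [Subgroup.coe_mul]
        exact (hE_isDiag (Fin.cast rankE6 l) (c l)).mul hD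
      have e := psi_hE ψ hψ (Fin.cast rankE6 l) (c l)
      have el : Fin.cast rankE6.symm (Fin.cast rankE6 l) = l := Fin.ext rfl
      rw [el] at e
      rw [map_mul, Subgroup.coe_mul, List.map_cons, List.prod_cons, map_mul]
      exact congrArg₂ (· * ·) e hDv
  obtain ⟨D, hD, hDv⟩ := key (List.finRange chevE6.rank)
  have hc' : ((List.finRange chevE6.rank).map fun l => Pi.mulSingle l (c l)).prod = c := by
    rw [← Fin.prod_univ_def]
    exact Finset.univ_prod_mulSingle c
  rw [hc', hc] at hDv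
  have h1 : ψ (D⁻¹ * z) = 1 := by rw [map_mul, map_inv, Subtype.ext hDv, inv_mul_cancel]
  have h2 := hD.mul (center_diag ht ht2 (hk _ h1))
  rwa [Subgroup.coe_mul, Subgroup.coe_inv, mul_inv_cancel_left] at h2

end CfsgLib.Chev.E6Alt
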