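/-
Involutions of the cubic isometry group become diagonal over the algebraic closure.
-/
import Cfsg.Agent.Lib.Chev.E6Alt.Lift
import Cfsg.Agent.Lib.Chev.E6Alt.Form
import Cfsg.Agent.Lib.Chev.AltSect.ToralAC
import Cfsg.Agent.Lib.Chev.Lang.Cell

set_option autoImplicit false
set_option maxRecDepth 100000
set_option maxHeartbeats 800000

namespace CfsgLib.Chev.E6Alt

open Cfsg.Lie Matrix CfsgLib.Chev CfsgLib.Chev.E6Form CfsgLib.Chev.AltSect
open CfsgLib.KnownB.ChevField (group_map_le map_xG map_tor)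

/-- a monomial involution over a finite field becomes toral over the closure -/
theorem toral_closed {K : Type} [Field K] [Fintype K] {L : Type} [Field L] [IsAlgClosed L] (j : K →+* L)
    (h2 : (2 : K) ≠ 0) {x : GL chevE6.Idx K} (hx : x ∈ chevE6.group K) (hx2 : x * x = 1) :
    OddInvol.Toral auxE6 (Matrix.GeneralLinearGroup.map j x) := by
  have g := stdE6.good
  obtain ⟨y, hy, n, hn, e⟩ := OddInvol.exists_monomial stdE6 h2 hx hx2
  obtain ⟨w, hw, c, hc⟩ := monomial_exists_word g hn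
  have hnL : Matrix.GeneralLinearGroup.map j n ∈ chevE6.monomialSubgroup L := by
    rw [hc, map_mul, map_tor, Lang.map_nW]
    exact mul_mem (tor_mem_monomial g _) (nW_mem g hw)
  obtain ⟨s, hs⟩ := exists_acts g hnL
  have h2L : (2 : L) ≠ 0 := fun e0 => h2 (j.injective (by rw [map_ofNat, map_zero, e0]))
  have hn2 : Matrix.GeneralLinearGroup.map j n * Matrix.GeneralLinearGroup.map j n = 1 := by
    rw [← map_mul, ← e, OddInvol.sq_conj hx2, map_one]
  exact OddInvol.Toral.of_conj (y := Matrix.GeneralLinearGroup.map j y) (group_map_le g j ⟨y, hy, rfl⟩)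
    (by rw [← map_inv, ← map_mul, ← map_mul, e]) (monomial_toral_closed stdE6 h2L _ hnL hn2 hs rfl)

variable {F : Type} [Field F] [Fintype F]

/-- the multiplicity of minus one of an involution -/
theorem mneg_invol {k : Type} [Field k] [IsAlgClosed k] [Algebra F k] [Algebra.IsAlgebraic F k]
    (h3 : 3 ≤ Fintype.card F) (h2 : (2 : k) ≠ 0) (hthree : (3 : k) ≠ 0) {z : GL ι F} (hz : z ∈ E6univ F)
    (hz2 : z * z = 1) :
    mneg ⊤ (opr (mE (algebraMap F k) z)) = 0 ∨ mneg ⊤ (opr (mE (algebraMap F k) z)) = 12 ∨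
      mneg ⊤ (opr (mE (algebraMap F k) z)) = 16 := by
  classical
  have g := stdE6.good
  obtain ⟨ψ, -, -, hgen⟩ := exists_psi h3
  have h2F : (2 : F) ≠ 0 := fun e => h2 (by rw [← map_ofNat (algebraMap F k), e, map_zero])
  set x : GL chevE6.Idx F := ((ψ ⟨z, hz⟩ : ↥(chevE6.group F)) : GL chevE6.Idx F) with hx
  have hxm : x ∈ chevE6.group F := (ψ ⟨z, hz⟩).2
  have hx2 : x * x = 1 := by
    rw [hx, ← Subgroup.coe_mul, ← map_mul, show (⟨z, hz⟩ : ↥(E6univ F)) * ⟨z, hz⟩ = 1 from Subtype.ext hz2,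
      map_one, Subgroup.coe_one]
  obtain ⟨y, hy, c, hc⟩ := toral_closed (algebraMap F k) h2F hxm hx2
  haveI : Fact (Nat.Prime 2) := ⟨Nat.prime_two⟩
  obtain ⟨M, _, -, ⟨yM, hyM, hyMe⟩, hcM⟩ := exists_field_split (F := F) g hy (r := 2)
    (by exact_mod_cast h2F) c
  let jM : M →+* k := algebraMap M k
  let iM : F →+* M := algebraMap F M
  have hcomp : jM.comp iM = algebraMap F k := RingHom.ext fun a => rfl
  have h3M : 3 ≤ Fintype.card M := h3.trans (Fintype.card_le_of_injective iM iM.injective)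
  obtain ⟨ψM, hsM, hkM, hgM⟩ := exists_psi h3M
  obtain ⟨Y, hY⟩ := hsM ⟨yM, hyM⟩
  have hzE : z ∈ EG F := E6univ_eq h3 ▸ hz
  let zM : ↥(E6univ M) := ⟨mE iM z, EG_isom (map_EG iM hzE)⟩
  have hmap : ∀ a : GL chevE6.Idx F, Matrix.GeneralLinearGroup.map jM (Matrix.GeneralLinearGroup.map iM a) =
      Matrix.GeneralLinearGroup.map (algebraMap F k) a := fun a => by
    ext i j; rfl
  have hinj : Function.Injective (Matrix.GeneralLinearGroup.map (n := chevE6.Idx) jM) := fun a b e =>
    Units.ext (Matrix.ext fun i j => jM.injective (congrArg (fun w : GL chevE6.Idx k => (w : Matrix _ _ k) i j) e))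
  let cM : Fin chevE6.rank → (↥M)ˣ := fun i => Units.mk0 ⟨(c i : k), hcM i⟩
    (fun e0 => (c i).ne_zero (congrArg Subtype.val e0))
  have hdiag : ((ψM (Y⁻¹ * zM * Y) : ↥(chevE6.group M)) : GL chevE6.Idx M) ∈ chevE6.diagonalSubgroup M := by
    rw [diagonalSubgroup_eq g]
    refine ⟨cM, hinj ?_⟩
    rw [map_tor, map_mul, map_mul, map_inv, hY, Subgroup.coe_mul, Subgroup.coe_mul, Subgroup.coe_inv,
      map_mul, map_mul, map_inv]
    have e1 : Matrix.GeneralLinearGroup.map jM ((ψM zM : ↥(chevE6.group M)) : GL chevE6.Idx M) =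
        Matrix.GeneralLinearGroup.map (algebraMap F k) x := by
      rw [← hmap, hx]
      exact congrArg _ (psi_natural iM ψ ψM hgen hgM hzE)
    rw [e1]
    show _ = (Matrix.GeneralLinearGroup.map jM yM)⁻¹ * _ * Matrix.GeneralLinearGroup.map jM yM
    rw [show Matrix.GeneralLinearGroup.map jM yM = y from hyMe, hc]
    exact congrArg _ (funext fun i => Units.ext rfl)
  obtain ⟨t, ht, ht2⟩ : ∃ t : (↥M)ˣ, t ≠ 1 ∧ t * t ≠ 1 := by
    have h2M : (2 : M) ≠ 0 := fun e => h2 (by rw [← map_ofNat jM, e, map_zero])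
    have h3' : (3 : M) ≠ 0 := fun e => hthree (by rw [← map_ofNat jM, e, map_zero])
    refine ⟨Units.mk0 2 h2M, fun e => ?_, fun e => ?_⟩
    · have h := congrArg Units.val e
      rw [Units.val_mk0, Units.val_one] at h
      exact one_ne_zero (show (1 : M) = 0 by linear_combination h)
    · have h := congrArg Units.val e
      rw [Units.val_mul, Units.val_mk0, Units.val_one] at h
      exact h3' (by linear_combination h)
  have hd := diag_of_torus hkM hgM ht ht2 hdiag
  have hk : mE (algebraMap F k) z = mE jM (zM : GL ι M) := by ext i j; rfl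
  have hYm : ((Y : GL ι M)) ∈ EG M := E6univ_eq h3M ▸ Y.2
  refine mneg_of_diag h2 (Y := mE jM (Y : GL ι M)) (by rw [← map_mul, hz2, map_one]) ?_ fun i hi => ?_
  · rw [hk, ← map_inv, ← map_mul, ← map_mul]
    refine isom_of_mem (EG_isom (map_EG jM ?_))
    exact mul_mem (mul_mem (inv_mem hYm) (map_EG iM hzE)) hYm
  · obtain ⟨a, ha⟩ := hd i hi
    refine ⟨jM a, ?_⟩
    rw [hk, ← map_inv, ← map_mul, ← map_mul]
    funext b
    have h := congrArg jM (congrFun ha b)
    simp only [ap, Matrix.mulVec_single_one, Matrix.col_apply, Pi.smul_apply, smul_eq_mul, map_mul] at h ⊢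
    refine (show _ = jM _ from rfl).trans (h.trans ?_)
    congr 1
    simp only [bs, Pi.single_apply, apply_ite jM, map_one, map_zero]

end CfsgLib.Chev.E6Alt
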