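/-
The 45 monomials as lines on 27 points: no balanced nonzero weight with values modulo eleven sums to zero on every line.
-/
import Cfsg.Agent.Lib.Chev.E6Form.Data
import Mathlib.Data.ZMod.Basic
import Mathlib.Data.Fintype.Pi
import Mathlib.Algebra.BigOperators.Fin
import Mathlib.Algebra.Order.BigOperators.Group.Finset

set_option autoImplicit false
set_option maxRecDepth 100000
set_option maxHeartbeats 800000

namespace CfsgLib.Chev.E6Alt

open CfsgLib.Chev.E6Form Finset

/-- a line as three numbers -/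
def lnN (l : ℕ) : ℕ × ℕ × ℕ :=
  let m := monN.getD l (0, 0, 0, 0)
  (m.1, m.2.1, m.2.2.1)

/-- a point of a line -/
def ln (l : Fin 45) (s : Fin 3) : Fin 27 :=
  ![Fin.ofNat 27 (lnN l).1, Fin.ofNat 27 (lnN l).2.1, Fin.ofNat 27 (lnN l).2.2] s

/-- incidence -/
def inc (Q : Fin 27) (l : Fin 45) : Bool := ln l 0 == Q || ln l 1 == Q || ln l 2 == Q

theorem ln_mon : ∀ m ∈ monN, ∃ l : Fin 45, (ln l 0).val = m.1 ∧ (ln l 1).val = m.2.1 ∧ (ln l 2).val = m.2.2.1 := by
  decide +kernel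

theorem ln_mem : ∀ l : Fin 45, ∃ m ∈ monN, (ln l 0).val = m.1 ∧ (ln l 1).val = m.2.1 ∧ (ln l 2).val = m.2.2.1 := by
  decide +kernel

theorem ln_ne : ∀ l : Fin 45, ∀ s t : Fin 3, ln l s = ln l t → s = t := by decide +kernel

theorem inc_five : ∀ Q : Fin 27, (univ.filter fun l : Fin 45 => inc Q l = true).card = 5 := by decide +kernel

theorem inc_unique : ∀ l : Fin 45, ∀ s t : Fin 3, s ≠ t → ∀ l' : Fin 45,
    inc (ln l s) l' = true → inc (ln l t) l' = true → l' = l := by decide +kernel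

theorem no_triangle : ∀ l1 : Fin 45, ∀ s : Fin 3, ∀ l2 : Fin 45, inc (ln l1 s) l2 = true → l2 ≠ l1 →
    ∀ l3 : Fin 45, (inc (ln l1 0) l3 || inc (ln l1 1) l3 || inc (ln l1 2) l3) = true →
      (inc (ln l2 0) l3 || inc (ln l2 1) l3 || inc (ln l2 2) l3) = true → inc (ln l1 s) l3 = true := by
  decide +kernel

/-- the points of a line -/
def pts (l : Fin 45) : Finset (Fin 27) := univ.image (ln l)

theorem mem_pts {Q : Fin 27} {l : Fin 45} : Q ∈ pts l ↔ inc Q l = true := by
  simp only [pts, mem_image, mem_univ, true_and, inc, Bool.or_eq_true, beq_iff_eq, Fin.exists_fin_succ,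
    Fin.exists_fin_one]
  simp [or_assoc]

theorem card_pts (l : Fin 45) : (pts l).card = 3 := by
  rw [pts, card_image_of_injective _ fun s t h => ln_ne l s t h, card_univ, Fintype.card_fin]

theorem pts_unique {l l' : Fin 45} {P Q : Fin 27} (hne : P ≠ Q) (h1 : P ∈ pts l) (h2 : Q ∈ pts l)
    (h1' : P ∈ pts l') (h2' : Q ∈ pts l') : l' = l := by
  obtain ⟨s, -, rfl⟩ := mem_image.1 h1
  obtain ⟨t, -, rfl⟩ := mem_image.1 h2
  exact inc_unique l s t (fun e => hne (by rw [e])) l' (mem_pts.1 h1') (mem_pts.1 h2')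

theorem pts_triangle {l1 l2 l3 : Fin 45} {P A B : Fin 27} (h1 : P ∈ pts l1) (h2 : P ∈ pts l2) (hne : l2 ≠ l1)
    (hA : A ∈ pts l1) (hA3 : A ∈ pts l3) (hB : B ∈ pts l2) (hB3 : B ∈ pts l3) : P ∈ pts l3 := by
  obtain ⟨s, -, rfl⟩ := mem_image.1 h1
  obtain ⟨a, -, rfl⟩ := mem_image.1 hA
  obtain ⟨b, -, rfl⟩ := mem_image.1 hB
  refine mem_pts.2 (no_triangle l1 s l2 (mem_pts.1 h2) hne l3 ?_ ?_)
  · have := mem_pts.1 hA3
    fin_cases a <;> simp_all
  · have := mem_pts.1 hB3
    fin_cases b <;> simp_all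

section weights

variable {e : Fin 27 → ZMod 11}

/-- the points of one value -/
abbrev fib (e : Fin 27 → ZMod 11) (a : ZMod 11) : Finset (Fin 27) := univ.filter fun i => e i = a

theorem line_sum (hl : ∀ m ∈ monN, ∀ a b c : Fin 27, a.val = m.1 → b.val = m.2.1 → c.val = m.2.2.1 →
    e a + e b + e c = 0) (l : Fin 45) : e (ln l 0) + e (ln l 1) + e (ln l 2) = 0 := by
  obtain ⟨m, hm, h0, h1, h2⟩ := ln_mem l
  exact hl m hm _ _ _ h0 h1 h2

/-- the third point -/
theorem exists_third (hl : ∀ l, e (ln l 0) + e (ln l 1) + e (ln l 2) = 0) {l : Fin 45} {P Q : Fin 27} (hne : P ≠ Q)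
    (h1 : P ∈ pts l) (h2 : Q ∈ pts l) :
    ∃ R ∈ pts l, R ≠ P ∧ R ≠ Q ∧ e P + e Q + e R = 0 ∧ ∀ X ∈ pts l, X = P ∨ X = Q ∨ X = R := by
  obtain ⟨s, -, rfl⟩ := mem_image.1 h1
  obtain ⟨t, -, rfl⟩ := mem_image.1 h2
  obtain ⟨r, hrs, hrt, hsum, hall⟩ : ∃ r : Fin 3, r ≠ s ∧ r ≠ t ∧ e (ln l s) + e (ln l t) + e (ln l r) = 0 ∧
      ∀ x : Fin 3, x = s ∨ x = t ∨ x = r := by
    have hst : s ≠ t := fun h => hne (by rw [h])
    obtain ⟨r, hrs, hrt, hall, hu⟩ := (by decide +kernel : ∀ s t : Fin 3, s ≠ t → ∃ r : Fin 3, r ≠ s ∧ r ≠ t ∧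
      (∀ x : Fin 3, x = s ∨ x = t ∨ x = r) ∧ ({s, t, r} : Finset (Fin 3)) = univ) s t hst
    refine ⟨r, hrs, hrt, ?_, hall⟩
    have h0 : ∑ x, e (ln l x) = 0 := by rw [Fin.sum_univ_three]; exact hl l
    rw [← hu, sum_insert (by simp [hst, Ne.symm hrs]), sum_pair (Ne.symm hrt), ← add_assoc] at h0
    exact h0
  refine ⟨ln l r, mem_image_of_mem _ (mem_univ _), fun h => hrs (ln_ne _ _ _ h), fun h => hrt (ln_ne _ _ _ h), hsum,
    fun X hX => ?_⟩
  obtain ⟨x, -, rfl⟩ := mem_image.1 hX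
  rcases hall x with h | h | h <;> rw [h] <;> simp

/-- one point of each nonzero value is impossible -/
theorem no_one (hl : ∀ l, e (ln l 0) + e (ln l 1) + e (ln l 2) = 0) (hk : ∀ a, a ≠ 0 → (fib e a).card = 1) :
    False := by
  obtain ⟨P, hP⟩ : ∃ P, e P = 1 := by
    obtain ⟨P, hP⟩ := card_pos.1 (by rw [hk 1 (by decide)]; norm_num : 0 < (fib e 1).card)
    exact ⟨P, (mem_filter.1 hP).2⟩
  have huniq : ∀ {X Y : Fin 27}, e X ≠ 0 → e Y = e X → Y = X := fun {X Y} hX h =>
    card_le_one.1 (hk _ hX).le Y (mem_filter.2 ⟨mem_univ _, h⟩) X (mem_filter.2 ⟨mem_univ _, rfl⟩)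
  set L := univ.filter fun l : Fin 45 => inc P l = true
  set R : Finset (ZMod 11) := {10, 2, 3, 4}
  have hsel : ∀ l ∈ L, ∃ X ∈ pts l, X ≠ P ∧ e X ∈ R := by
    intro l hl'
    have hPl : P ∈ pts l := mem_pts.2 (mem_filter.1 hl').2
    obtain ⟨Q, hQ, hQP⟩ := exists_mem_ne (by rw [card_pts]; norm_num : 1 < (pts l).card) P
    obtain ⟨X, hX, hXP, hXQ, hsum, -⟩ := exists_third hl (Ne.symm hQP) hPl hQ
    have hq : e Q ≠ 1 := fun h => hQP (huniq (by rw [hP]; decide) (by rw [h, hP]))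
    have hx : e X ≠ 1 := fun h => hXP (huniq (by rw [hP]; decide) (by rw [h, hP]))
    have hqx : e Q = e X → e Q = 0 := fun h => by
      by_contra h0
      exact hXQ (huniq h0 h.symm)
    rw [hP] at hsum
    have key : ∀ q x : ZMod 11, 1 + q + x = 0 → q ≠ 1 → x ≠ 1 → (q = x → q = 0) →
        q ∈ ({10, 2, 3, 4} : Finset (ZMod 11)) ∨ x ∈ ({10, 2, 3, 4} : Finset (ZMod 11)) := by decide +kernel
    rcases key _ _ hsum hq hx hqx with h | h
    · exact ⟨Q, hQ, hQP, h⟩
    · exact ⟨X, hX, hXP, h⟩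
  choose! f hf hfP hfR using hsel
  have hinj : Set.InjOn (fun l => e (f l)) (L : Set (Fin 45)) := by
    intro l hl1 l' hl2 h
    have h0 : e (f l) ≠ 0 := fun h0 => by
      have := hfR l hl1
      rw [h0] at this
      exact absurd this (by decide +kernel)
    have hff : f l' = f l := huniq h0 h.symm
    exact (pts_unique (hfP l hl1).symm (mem_pts.2 (mem_filter.1 hl1).2) (hf l hl1)
      (mem_pts.2 (mem_filter.1 hl2).2) (hff ▸ hf l' hl2)).symm
  have h4 := card_le_card_of_injOn (t := R) _ (fun l hl1 => hfR l hl1) hinj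
  rw [inc_five P] at h4
  exact absurd h4 (by decide +kernel)

/-- two points of each nonzero value are impossible -/
theorem no_two (hl : ∀ l, e (ln l 0) + e (ln l 1) + e (ln l 2) = 0) (hk : ∀ a, a ≠ 0 → (fib e a).card = 2)
    (h0 : (fib e 0).card = 7) : False := by
  classical
  set Z := fib e 0 with hZ
  have memZ : ∀ {X}, X ∈ Z ↔ e X = 0 := fun {X} => by simp [hZ, fib]
  set S := univ.filter fun l : Fin 45 => pts l ⊆ Z
  set T := univ.filter fun l : Fin 45 => (pts l ∩ Z).card = 1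
  have hcount : ∀ l, (pts l ∩ Z).card = (if l ∈ S then 3 else 0) + if l ∈ T then 1 else 0 := by
    intro l
    simp only [S, T, mem_filter, mem_univ, true_and]
    by_cases hs : pts l ⊆ Z
    · rw [if_pos hs, inter_eq_left.2 hs, card_pts, if_neg (by norm_num)]
    · rw [if_neg hs, zero_add]
      by_cases h1 : (pts l ∩ Z).card = 1
      · rw [if_pos h1, h1]
      · rw [if_neg h1]
        by_contra hne
        obtain ⟨A, hA, B, hB, hAB⟩ := one_lt_card.1 (show 1 < (pts l ∩ Z).card by omega)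
        rw [mem_inter, memZ] at hA hB
        obtain ⟨C, -, -, -, hsum, hall⟩ := exists_third hl hAB hA.1 hB.1
        refine hs fun X hX => memZ.2 ?_
        rcases hall X hX with rfl | rfl | rfl
        · exact hA.2
        · exact hB.2
        · simpa [hA.2, hB.2] using hsum
  have hdouble : ∑ l : Fin 45, (pts l ∩ Z).card = 35 := by
    have e1 : ∀ l, (pts l ∩ Z).card = ∑ Q ∈ Z, if inc Q l = true then 1 else 0 := fun l => by
      rw [← card_filter]
      congr 1
      ext Q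
      simp [mem_pts, and_comm]
    rw [sum_congr rfl fun l _ => e1 l, sum_comm, sum_congr rfl fun Q _ => (card_filter _ _).symm,
      sum_congr rfl fun Q _ => inc_five Q, sum_const, h0, smul_eq_mul]
  have hST : 3 * S.card + T.card = 35 := by
    rw [← hdouble, sum_congr rfl fun l _ => hcount l, sum_add_distrib]
    simp only [sum_ite_mem, univ_inter, sum_const, smul_eq_mul]
    ring
  -- lines with one zero
  set R : Finset (Fin 27) := univ.filter fun i => e i ∈ ({1, 2, 3, 4, 5} : Finset (ZMod 11))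
  have hR : R.card = 10 := by
    rw [show R = ({1, 2, 3, 4, 5} : Finset (ZMod 11)).biUnion (fib e) by ext i; simp [R, fib],
      card_biUnion (fun a _ b _ hab => disjoint_left.2 fun i ha hb => hab
        ((mem_filter.1 ha).2.symm.trans (mem_filter.1 hb).2)),
      sum_congr rfl fun a ha => hk a (fun h => by rw [h] at ha; revert ha; decide +kernel)]
    decide +kernel
  have hTsub : T ⊆ R.biUnion fun X => T.filter fun l => X ∈ pts l := by
    intro l hlT
    obtain ⟨A, hA⟩ := card_eq_one.1 (mem_filter.1 hlT).2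
    have hA' : A ∈ pts l ∧ e A = 0 := by rw [← memZ, ← mem_inter, hA]; exact mem_singleton_self A
    obtain ⟨B, hB, hBA⟩ := exists_mem_ne (by rw [card_pts]; norm_num : 1 < (pts l).card) A
    obtain ⟨C, hC, hCA, -, hsum, -⟩ := exists_third hl (Ne.symm hBA) hA'.1 hB
    have hnz : ∀ {X}, X ∈ pts l → X ≠ A → e X ≠ 0 := fun {X} hX hXA h => hXA (by
      have : X ∈ pts l ∩ Z := mem_inter.2 ⟨hX, memZ.2 h⟩
      rwa [hA, mem_singleton] at this)
    rw [hA'.2, zero_add] at hsum
    have key : ∀ b c : ZMod 11, b + c = 0 → b ≠ 0 →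
        b ∈ ({1, 2, 3, 4, 5} : Finset (ZMod 11)) ∨ c ∈ ({1, 2, 3, 4, 5} : Finset (ZMod 11)) := by decide +kernel
    rcases key _ _ hsum (hnz hB hBA) with h | h
    · exact mem_biUnion.2 ⟨B, mem_filter.2 ⟨mem_univ _, h⟩, mem_filter.2 ⟨hlT, hB⟩⟩
    · exact mem_biUnion.2 ⟨C, mem_filter.2 ⟨mem_univ _, h⟩, mem_filter.2 ⟨hlT, hC⟩⟩
  have hT20 : T.card ≤ 20 := by
    refine (card_le_card hTsub).trans ((card_biUnion_le_card_mul _ _ 2 fun X hX => ?_).trans (by rw [hR]))
    have hX0 : e X ≠ 0 := fun h => by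
      have := (mem_filter.1 hX).2
      rw [h] at this
      exact absurd this (by decide +kernel)
    have hsel : ∀ l ∈ T.filter (fun l => X ∈ pts l), ∃ Y ∈ pts l, Y ≠ X ∧ e Y = -e X := by
      intro l hl'
      obtain ⟨hlT, hXl⟩ := mem_filter.1 hl'
      obtain ⟨A, hA⟩ := card_eq_one.1 (mem_filter.1 hlT).2
      have hA' : A ∈ pts l ∧ e A = 0 := by rw [← memZ, ← mem_inter, hA]; exact mem_singleton_self A
      have hAX : X ≠ A := fun h => hX0 (h ▸ hA'.2)
      obtain ⟨Y, hY, hYX, -, hsum, -⟩ := exists_third hl hAX hXl hA'.1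
      refine ⟨Y, hY, hYX, ?_⟩
      rw [hA'.2, add_zero] at hsum
      exact eq_neg_of_add_eq_zero_right hsum
    choose! f hf hfX hfe using hsel
    have := card_le_card_of_injOn (t := fib e (-e X)) f (fun l hl' => mem_filter.2 ⟨mem_univ _, hfe l hl'⟩)
      (fun l h1 l' h2 h => (pts_unique (hfX l h1).symm (mem_filter.1 h1).2 (hf l h1) (mem_filter.1 h2).2
        (h ▸ hf l' h2)).symm)
    exact this.trans (hk _ (neg_ne_zero.2 hX0)).le
  have hS5 : 5 ≤ S.card := by omega
  -- zero lines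
  set deg : Fin 27 → Finset (Fin 45) := fun Q => S.filter fun l => Q ∈ pts l
  have hdisj : ∀ Q, ((deg Q : Finset (Fin 45)) : Set (Fin 45)).PairwiseDisjoint fun l => (pts l).erase Q := by
    intro Q l hl' l' hl'' hne
    refine disjoint_left.2 fun X hX hX' => hne ?_
    rw [mem_erase] at hX hX'
    exact (pts_unique (Ne.symm hX.1) (mem_filter.1 hl').2 hX.2 (mem_filter.1 hl'').2 hX'.2).symm
  have hdeg : ∀ Q ∈ Z, ((deg Q).biUnion fun l => (pts l).erase Q) ⊆ Z.erase Q ∧
      ((deg Q).biUnion fun l => (pts l).erase Q).card = 2 * (deg Q).card := by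
    intro Q hQ
    constructor
    · intro X hX
      obtain ⟨l, hl', hXl⟩ := mem_biUnion.1 hX
      rw [mem_erase] at hXl ⊢
      exact ⟨hXl.1, (mem_filter.1 (mem_filter.1 hl').1).2 hXl.2⟩
    · rw [card_biUnion (hdisj Q), sum_congr rfl fun l hl' => by
        rw [card_erase_of_mem (mem_filter.1 hl').2, card_pts]]
      rw [sum_const, smul_eq_mul, mul_comm]
  have h3 : ∀ Q ∈ Z, (deg Q).card ≤ 3 := fun Q hQ => by
    have := card_le_card (hdeg Q hQ).1
    rw [(hdeg Q hQ).2, card_erase_of_mem hQ, h0] at this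
    omega
  by_cases hbig : ∃ Q ∈ Z, 3 ≤ (deg Q).card
  · obtain ⟨Q, hQ, hQ3⟩ := hbig
    have hcov : ((deg Q).biUnion fun l => (pts l).erase Q) = Z.erase Q := eq_of_subset_of_card_le (hdeg Q hQ).1 (by
      rw [(hdeg Q hQ).2, card_erase_of_mem hQ, h0]; omega)
    have hall : S ⊆ deg Q := by
      intro M hM
      refine mem_filter.2 ⟨hM, ?_⟩
      by_contra hQM
      have hline : ∀ X ∈ pts M, ∃ l ∈ deg Q, X ∈ pts l := fun X hX => by
        have : X ∈ Z.erase Q := mem_erase.2 ⟨fun h => hQM (h ▸ hX), (mem_filter.1 hM).2 hX⟩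
        rw [← hcov] at this
        obtain ⟨l, hl', hXl⟩ := mem_biUnion.1 this
        exact ⟨l, hl', (mem_erase.1 hXl).2⟩
      obtain ⟨A, hA, B, hB, hAB⟩ := one_lt_card.1 (by rw [card_pts]; norm_num : 1 < (pts M).card)
      obtain ⟨l1, hl1, hA1⟩ := hline A hA
      obtain ⟨l2, hl2, hB2⟩ := hline B hB
      by_cases h12 : l2 = l1
      · subst h12
        exact hQM (pts_unique hAB hA1 hB2 hA hB ▸ (mem_filter.1 hl1).2)
      · exact hQM (pts_triangle (mem_filter.1 hl1).2 (mem_filter.1 hl2).2 h12 hA1 hA hB2 hB)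
    have := card_le_card hall
    have := h3 Q hQ
    omega
  · push Not at hbig
    have hsum : ∑ Q ∈ Z, (deg Q).card = 3 * S.card := by
      simp only [deg, card_filter]
      rw [sum_comm, sum_congr rfl fun l hl' => show ∑ Q ∈ Z, (if Q ∈ pts l then 1 else 0) = 3 by
        rw [← card_filter, filter_mem_eq_inter, inter_eq_right.2 (mem_filter.1 hl').2, card_pts]]
      rw [sum_const, smul_eq_mul, mul_comm]
    have := sum_le_card_nsmul Z (fun Q => (deg Q).card) 2 (fun Q hQ => by have := hbig Q hQ; omega)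
    rw [hsum, h0, smul_eq_mul] at this
    omega

/-- **no balanced nonzero weight** -/
theorem no_balanced (hl : ∀ m ∈ monN, ∀ a b c : Fin 27, a.val = m.1 → b.val = m.2.1 → c.val = m.2.2.1 →
      e a + e b + e c = 0)
    (hc : ∀ a, (fib e a).card = (fib e (2 * a)).card) (hne : ∃ i, e i ≠ 0) : False := by
  have hl' := line_sum hl
  have hconst : ∀ a : ZMod 11, a ≠ 0 → (fib e a).card = (fib e 1).card := by
    have step : ∀ j : ℕ, (fib e (2 ^ j)).card = (fib e 1).card := by
      intro j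
      induction j with
      | zero => rw [pow_zero]
      | succ j ih => rw [pow_succ', ← hc, ih]
    intro a ha
    obtain ⟨j, rfl⟩ : ∃ j : Fin 10, (2 : ZMod 11) ^ (j : ℕ) = a := by revert ha; revert a; decide +kernel
    exact step j
  have htot : (fib e 0).card + 10 * (fib e 1).card = 27 := by
    have h := card_eq_sum_card_fiberwise (f := e) (s := univ) (t := univ) fun _ _ => mem_univ _
    rw [card_univ, Fintype.card_fin, sum_eq_add_sum_sdiff_singleton_of_mem (mem_univ (0 : ZMod 11)),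
      sum_congr rfl (fun a ha => show (fib e a).card = (fib e 1).card from
        hconst a fun h => (mem_sdiff.1 ha).2 (mem_singleton.2 h)), sum_const, smul_eq_mul] at h
    rw [show (univ \ {(0 : ZMod 11)}).card = 10 by decide +kernel] at h
    exact h.symm
  obtain ⟨i, hi⟩ := hne
  have hpos : 0 < (fib e 1).card := by
    rw [← hconst _ hi]
    exact card_pos.2 ⟨i, mem_filter.2 ⟨mem_univ _, rfl⟩⟩
  rcases (show (fib e 1).card = 1 ∨ (fib e 1).card = 2 by omega) with h | h
  · exact no_one hl' fun a ha => (hconst a ha).trans h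
  · exact no_two hl' (fun a ha => (hconst a ha).trans h) (by omega)

end weights

end CfsgLib.Chev.E6Alt
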