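/-
The multiplicities of minus one on the lifted blocks: their values agree by class and obey counting equations.
-/
import Cfsg.Agent.Lib.Chev.E6Alt.Blocks
import Cfsg.Agent.Lib.Chev.E6Alt.Count

set_option autoImplicit false
set_option maxRecDepth 100000
set_option maxHeartbeats 800000

namespace CfsgLib.Chev.E6Alt

open Equiv Module CfsgLib.AltSection
open scoped commutatorElement

/-! ### the points -/

/-- a point of a block, turned -/
def pt (j r : Fin 3) (i : Fin 4) : Fin 12 :=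
  ![![![0, 1, 2, 3], ![1, 2, 0, 3], ![2, 0, 1, 3]], ![![4, 5, 6, 7], ![5, 6, 4, 7], ![6, 4, 5, 7]],
    ![![8, 9, 10, 11], ![9, 10, 8, 11], ![10, 8, 9, 11]]] j r i

theorem pt_D4 : ∀ j r, D4 (pt j r 0) (pt j r 1) (pt j r 2) (pt j r 3) := by
  intro j r; revert j r; unfold D4; decide +kernel

/-- permutations of the blocks -/
def bperm : Fin 4 → Perm (Fin 12) :=
  ![1, cyc 0 4 8 * cyc 1 5 9 * cyc 2 6 10 * cyc 3 7 11,
    (cyc 0 4 8 * cyc 1 5 9 * cyc 2 6 10 * cyc 3 7 11) * (cyc 0 4 8 * cyc 1 5 9 * cyc 2 6 10 * cyc 3 7 11),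
    dt 4 8 5 9 * dt 6 10 7 11]

/-- the effect on block numbers -/
def bimg : Fin 4 → Fin 3 → Fin 3 := ![![0, 1, 2], ![1, 2, 0], ![2, 0, 1], ![0, 2, 1]]

/-- permute the blocks, then turn each -/
def mv (p : Fin 4) (r : Fin 3 → Fin 3) : Perm (Fin 12) :=
  cyc 0 1 2 ^ (r 0).val * cyc 4 5 6 ^ (r 1).val * cyc 8 9 10 ^ (r 2).val * bperm p

theorem mv_pt : ∀ (p : Fin 4) (r0 r1 r2 : Fin 3) (j : Fin 3) (i : Fin 4),
    mv p ![r0, r1, r2] (pt j 0 i) = pt (bimg p j) (![r0, r1, r2] (bimg p j)) i := by decide +kernel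

theorem mv_mem (p : Fin 4) (r : Fin 3 → Fin 3) : mv p r ∈ alternatingGroup (Fin 12) := by
  refine mul_mem (mul_mem (mul_mem (pow_mem (cyc_mem _ _ _) _) (pow_mem (cyc_mem _ _ _) _))
    (pow_mem (cyc_mem _ _ _) _)) ?_
  fin_cases p
  · exact one_mem _
  · exact mul_mem (mul_mem (mul_mem (cyc_mem 0 4 8) (cyc_mem 1 5 9)) (cyc_mem 2 6 10)) (cyc_mem 3 7 11)
  · exact mul_mem (mul_mem (mul_mem (mul_mem (cyc_mem 0 4 8) (cyc_mem 1 5 9)) (cyc_mem 2 6 10)) (cyc_mem 3 7 11))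
      (mul_mem (mul_mem (mul_mem (cyc_mem 0 4 8) (cyc_mem 1 5 9)) (cyc_mem 2 6 10)) (cyc_mem 3 7 11))
  · exact mul_mem (dt_mem 4 8 5 9) (dt_mem 6 10 7 11)

theorem dList_mem : ∀ j r : Fin 3,
    dt (pt j r 0) (pt j r 1) (pt j r 2) (pt j r 3) ∈ Subgroup.closure {x | x ∈ dList} := by
  have key : ∀ j r : Fin 3, dt (pt j r 0) (pt j r 1) (pt j r 2) (pt j r 3) ∈ dList ∨
      ∃ a ∈ dList, ∃ b ∈ dList, dt (pt j r 0) (pt j r 1) (pt j r 2) (pt j r 3) = a * b := by decide +kernel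
  intro j r
  rcases key j r with h | ⟨a, ha, b, hb, e⟩
  · exact Subgroup.subset_closure h
  · rw [e]; exact mul_mem (Subgroup.subset_closure ha) (Subgroup.subset_closure hb)

/-! ### operators that agree up to an odd kernel -/

section conjugacy

variable {k : Type*} [Field k] {V : Type*} [AddCommGroup V] [Module k V] [FiniteDimensional k V]
  {G : Type*} [Group G] (σ : G →* Module.End k V)

theorem mneg_conj (g y : G) : mneg ⊤ (σ (g * y * g⁻¹)) = mneg ⊤ (σ y) := by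
  have hgg : ∀ (a : G) (v : V), σ a (σ a⁻¹ v) = v := fun a v => by
    rw [← Module.End.mul_apply, ← map_mul, mul_inv_cancel, map_one, Module.End.one_apply]
  have hgg' : ∀ (a : G) (v : V), σ a⁻¹ (σ a v) = v := fun a v => by
    simpa using hgg a⁻¹ v
  let E : V ≃ₗ[k] V :=
    { σ g with
      invFun := σ g⁻¹
      left_inv := hgg' g
      right_inv := hgg g }
  have hmap : neg ⊤ (σ (g * y * g⁻¹)) = (neg ⊤ (σ y)).map (E : V →ₗ[k] V) := by
    ext v
    rw [Submodule.mem_map_equiv, mem_neg, mem_neg]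
    simp only [Submodule.mem_top, true_and, map_mul, Module.End.mul_apply]
    show _ ↔ σ y (σ g⁻¹ v) = -(σ g⁻¹ v)
    constructor
    · intro h
      have h1 := congrArg (σ g⁻¹) h
      rwa [hgg', map_neg] at h1
    · intro h; rw [h, map_neg, hgg]
  rw [mneg, mneg, hmap, LinearEquiv.finrank_map_eq]

/-- involutory operators congruent modulo odd elements have equal multiplicities -/
theorem mneg_congr {K : Subgroup G} [K.Normal] (hodd : ∀ z ∈ K, Odd (orderOf z)) {x y : G}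
    (hx : σ x * σ x = 1) (hy : σ y * σ y = 1) (h : QuotientGroup.mk' K x = QuotientGroup.mk' K y) :
    mneg ⊤ (σ x) = mneg ⊤ (σ y) := by
  have hz : x⁻¹ * y ∈ K := QuotientGroup.eq.1 h
  obtain ⟨j, hj⟩ := hodd _ hz
  set z := x⁻¹ * y with hzd
  let τ := σ.toHomUnits
  have hτ : ∀ a, (τ a : Module.End k V) = σ a := fun a => rfl
  have hx' : τ x * τ x = 1 := Units.ext (by simp only [Units.val_mul, hτ, Units.val_one]; exact hx)
  have hy' : τ y * τ y = 1 := Units.ext (by simp only [Units.val_mul, hτ, Units.val_one]; exact hy)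
  have hxi : (τ x)⁻¹ = τ x := inv_eq_of_mul_eq_one_right hx'
  have hyi : (τ y)⁻¹ = τ y := inv_eq_of_mul_eq_one_right hy'
  have hzx : τ z = τ x * τ y := by rw [hzd, map_mul, map_inv, hxi]
  have hs : SemiconjBy (τ x) (τ z) (τ z)⁻¹ := by
    show τ x * τ z = (τ z)⁻¹ * τ x
    rw [hzx, mul_inv_rev, hxi, hyi, ← mul_assoc, hx', one_mul, mul_assoc, hx', mul_one]
  have hj1 : τ z ^ (2 * j + 1) = 1 := by rw [← map_pow, ← hj, pow_orderOf_eq_one, map_one]
  have key : τ (z ^ j * x * (z ^ j)⁻¹) = τ y := by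
    rw [map_mul, map_mul, map_inv, map_pow]
    have h1 : τ x * (τ z ^ j)⁻¹ = τ z ^ j * τ x := by
      have := (hs.pow_right j).inv_right
      rw [inv_pow, inv_inv] at this
      exact this.eq
    rw [mul_assoc, h1, ← mul_assoc, ← pow_add, ← two_mul]
    have h3 : τ z ^ (2 * j) = (τ z)⁻¹ := eq_inv_of_mul_eq_one_left (by rw [← pow_succ, hj1])
    rw [h3, hzx, mul_inv_rev, hxi, hyi, mul_assoc, hx', mul_one]
  rw [← mneg_conj σ (z ^ j) x, show σ (z ^ j * x * (z ^ j)⁻¹) = σ y from by rw [← hτ, key, hτ]]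

end conjugacy

/-! ### the tally -/

/-- the value attached to three block choices -/
def cls (a b c : ℕ) : Bool → Bool → Bool → ℕ
  | false, false, false => 0
  | true, false, false | false, true, false | false, false, true => a
  | true, true, false | true, false, true | false, true, true => b
  | true, true, true => c

section tally

variable {G : Type} [Group G] [Finite G] {K : Subgroup G} [K.Normal] (π : G ⧸ K →* Perm (Fin 12))

/-- the image of a block element -/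
noncomputable def uq (j r : Fin 3) : G ⧸ K := uu π (pt j r 0) (pt j r 1) (pt j r 2) (pt j r 3)

/-- the image of the element exchanging two blocks -/
noncomputable def wq : G ⧸ K := uu π 0 4 2 6 * uu π 1 5 3 7

variable {π} (hπ : Cov π)
include hπ

omit [Finite G] in
theorem map_uq (j r : Fin 3) : π (uq π j r) = dt (pt j r 0) (pt j r 1) (pt j r 2) (pt j r 3) :=
  map_uu hπ (pt_D4 j r)

omit [Finite G] in
theorem uq_mem (j r : Fin 3) : π (uq π j r) ∈ Subgroup.closure {x | x ∈ dList} := by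
  rw [map_uq hπ]; exact dList_mem j r

omit [Finite G] in
theorem wq_mem : π (wq π) ∈ Subgroup.closure {x | x ∈ dList} := by
  rw [wq, map_mul, map_uu hπ (by unfold D4; decide), map_uu hπ (by unfold D4; decide)]
  exact Subgroup.subset_closure (by simp [dList])

omit [Finite G] in
theorem conj_mv (p : Fin 4) (r : Fin 3 → Fin 3) :
    ∃ g : G ⧸ K, ∀ j, g * uq π j 0 * g⁻¹ = uq π (bimg p j) (r (bimg p j)) := by
  refine ⟨lft π (mv p r), fun j => ?_⟩
  rw [uq, conj_uu hπ (pt_D4 j 0), hπ.map_lft (mv_mem p r)]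
  have hr : r = ![r 0, r 1, r 2] := by funext i; fin_cases i <;> rfl
  have e := fun i => mv_pt p (r 0) (r 1) (r 2) j i
  rw [← hr] at e
  rw [e 0, e 1, e 2, e 3]
  rfl

omit [Finite G] in
theorem uq_comm {i j : Fin 3} (hij : i ≠ j) (r s : Fin 3) : uq π i r * uq π j s = uq π j s * uq π i r := by
  have key : ∀ i j r s : Fin 3, i ≠ j → ∀ x : Fin 12,
      (x ∈ Finset.image (pt i r) Finset.univ → dt (pt j s 0) (pt j s 1) (pt j s 2) (pt j s 3) x = x) ∧
      (x ∉ Finset.image (pt i r) Finset.univ → dt (pt i r 0) (pt i r 1) (pt i r 2) (pt i r 3) x = x) ∧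
      5 ≤ ((Finset.image (pt i r) Finset.univ)ᶜ).card := by decide +kernel
  exact (hπ.commute_disjoint' (g := uq π j s) (h := uq π i r) ((key i j r s hij 0).2.2)
    (fun x hx => by rw [map_uq hπ]; exact (key i j r s hij x).2.1 hx)
    (fun x hx => by rw [map_uq hπ]; exact (key i j r s hij x).1 hx)).eq

omit [Finite G] in
theorem wq_swap (r : Fin 3) : wq π * uq π 0 r * (wq π)⁻¹ = uq π 1 r ∧ wq π * uq π 1 r * (wq π)⁻¹ = uq π 0 r := by
  have hw : π (wq π) = dt (0 : Fin 12) 4 2 6 * dt 1 5 3 7 := by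
    rw [wq, map_mul, map_uu hπ (by unfold D4; decide), map_uu hπ (by unfold D4; decide)]
  have key : ∀ (r : Fin 3) (i : Fin 4), (dt (0 : Fin 12) 4 2 6 * dt 1 5 3 7 : Perm (Fin 12)) (pt 0 r i) = pt 1 r i ∧
      (dt (0 : Fin 12) 4 2 6 * dt 1 5 3 7 : Perm (Fin 12)) (pt 1 r i) = pt 0 r i := by decide +kernel
  constructor
  · rw [uq, conj_uu hπ (pt_D4 0 r), hw, (key r 0).1, (key r 1).1, (key r 2).1, (key r 3).1]; rfl
  · rw [uq, conj_uu hπ (pt_D4 1 r), hw, (key r 0).2, (key r 1).2, (key r 2).2, (key r 3).2]; rfl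

omit [Finite G] in
theorem wq_conj : ∃ g : G ⧸ K, g * (uq π 0 0 * uq π 1 0) * g⁻¹ = wq π := by
  refine ⟨lft π (dt (1 : Fin 12) 4 3 6), ?_⟩
  have key : ∀ i : Fin 4, dt (1 : Fin 12) 4 3 6 (pt 0 0 i) = ![0, 4, 2, 6] i ∧
      dt (1 : Fin 12) 4 3 6 (pt 1 0 i) = ![1, 5, 3, 7] i := by decide +kernel
  rw [← conj_mul, uq, uq, conj_uu hπ (pt_D4 0 0), conj_uu hπ (pt_D4 1 0), hπ.map_lft_dt,
    (key 0).1, (key 1).1, (key 2).1, (key 3).1, (key 0).2, (key 1).2, (key 2).2, (key 3).2]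
  rfl

end tally

/-- lifted blocks in one two-subgroup -/
structure Blk {G : Type} [Group G] {K : Subgroup G} [K.Normal] (π : G ⧸ K →* Perm (Fin 12))
    (u : Fin 3 → Fin 3 → G) (w e : G) : Prop where
  cov : Cov π
  odd : ∀ z ∈ K, Odd (orderOf z)
  mku : ∀ j r, QuotientGroup.mk' K (u j r) = uq π j r
  mkw : QuotientGroup.mk' K w = wq π
  sq : ∀ j r, u j r * u j r = e
  wsq : w * w = 1
  pair : ∀ j, u j 0 * u j 1 = e * (u j 1 * u j 0)
  tri : ∀ j, u j 2 * u j 1 * u j 0 = 1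
  comm : ∀ i j, i ≠ j → ∀ r s, u i r * u j s = u j s * u i r
  wswap : ∀ r, w * u 0 r * w⁻¹ = u 1 r ∧ w * u 1 r * w⁻¹ = u 0 r
  cen : e ∈ Subgroup.center G
  ee : e * e = 1

/-- the lifted blocks exist -/
theorem exists_blk {G : Type} [Group G] [Finite G] {π₀ : G →* Perm (Fin 12)} (hm : Min π₀) :
    ∃ (K : Subgroup G) (_ : K.Normal) (π : G ⧸ K →* Perm (Fin 12)) (u : Fin 3 → Fin 3 → G) (w e : G),
      Blk π u w e := by
  obtain ⟨K, hKn, hKk, hodd, S, hS, hSc, -, hdec⟩ := exists_odd_kernel hm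
  haveI := hKn
  set π := QuotientGroup.lift K π₀ hKk with hπd
  have hπ : Cov π := quot_cov hm hKk fun x hx => by
    obtain ⟨s, hs, k, hk, e⟩ := hdec x hx
    exact ⟨s, hSc hs, k, hk, e⟩
  obtain ⟨P, hP, hSP, hinj, hlift⟩ := exists_block_lift hm hKk hodd hS hSc hdec
  have heq : ∀ z : G ⧸ K, π z = 1 → ∃ s ∈ S, QuotientGroup.mk' K s = z := by
    intro z hz
    obtain ⟨a, rfl⟩ := QuotientGroup.mk'_surjective K z
    obtain ⟨s, hs, k, hk, e⟩ := hdec a hz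
    exact ⟨s, hs, by rw [e, map_mul, show QuotientGroup.mk' K k = 1 from (QuotientGroup.eq_one_iff k).2 hk, mul_one]⟩
  have hcube : ∀ z : G ⧸ K, π z = 1 → z * z * z = 1 → z = 1 := by
    intro z hz h3
    obtain ⟨s, hs, rfl⟩ := heq z hz
    rw [← map_mul, ← map_mul] at h3
    have h1 : s * s * s = 1 := hinj _ (mul_mem (mul_mem (hSP hs) (hSP hs)) (hSP hs)) _ (one_mem _)
      (by rw [h3, map_one])
    obtain ⟨n, hn⟩ := hS ⟨s, hs⟩
    have h2n : orderOf s ∣ 2 ^ n := orderOf_dvd_of_pow_eq_one (congrArg Subtype.val hn)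
    have h33 : orderOf s ∣ 3 := orderOf_dvd_of_pow_eq_one (by rw [pow_three, ← mul_assoc, h1])
    have h4 : orderOf s = 1 := Nat.eq_one_of_dvd_coprimes (Nat.Coprime.pow_left n (by norm_num)) h2n h33
    rw [orderOf_eq_one_iff] at h4
    rw [h4, map_one]
  set ε := ⁅uu π 0 1 2 3, uu π 1 2 0 3⁆ with hε
  obtain ⟨e, heS, he⟩ := heq ε (by
    rw [hε, map_commutatorElement, map_uu hπ (by unfold D4; decide), map_uu hπ (by unfold D4; decide)]
    decide +kernel)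
  choose u hu hue using fun j r => hlift (uq π j r) (uq_mem hπ j r)
  obtain ⟨w, hw, hwe⟩ := hlift (wq π) (wq_mem hπ)
  have hsqq : ∀ j r, uq π j r * uq π j r = ε := fun j r => sq_uu hπ hcube (pt_D4 j r)
  have hε2 : ε * ε = 1 := sq_one_sign hπ
  have hee : e * e = 1 := hinj _ (mul_mem (hSP heS) (hSP heS)) _ (one_mem _) (by rw [map_mul, he, hε2, map_one])
  refine ⟨K, hKn, π, u, w, e, hπ, hodd, hue, hwe, fun j r => ?_, ?_, fun j => ?_, fun j => ?_, fun i j hij r s => ?_,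
    fun r => ⟨?_, ?_⟩, hSc heS, hee⟩
  · exact hinj _ (mul_mem (hu j r) (hu j r)) _ (hSP heS) (by rw [map_mul, hue, hsqq, he])
  · refine hinj _ (mul_mem hw hw) _ (one_mem _) ?_
    obtain ⟨g, hg⟩ := wq_conj hπ
    rw [map_mul, hwe, map_one, ← hg,
      show g * (uq π 0 0 * uq π 1 0) * g⁻¹ * (g * (uq π 0 0 * uq π 1 0) * g⁻¹) =
        g * (uq π 0 0 * (uq π 1 0 * uq π 0 0) * uq π 1 0) * g⁻¹ by group,
      uq_comm hπ (show (1 : Fin 3) ≠ 0 by decide) 0 0,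
      show g * (uq π 0 0 * (uq π 0 0 * uq π 1 0) * uq π 1 0) * g⁻¹ =
        g * ((uq π 0 0 * uq π 0 0) * (uq π 1 0 * uq π 1 0)) * g⁻¹ by group,
      hsqq, hsqq, hε2, mul_one, mul_inv_cancel]
  · refine hinj _ (mul_mem (hu j 0) (hu j 1)) _ (mul_mem (hSP heS) (mul_mem (hu j 1) (hu j 0))) ?_
    rw [map_mul, map_mul, map_mul, hue, hue, he]
    have h := comm_uu hπ (pt_D4 j 0)
    rw [← hε] at h
    have e1 := (by decide +kernel : ∀ j : Fin 3, pt j 1 0 = pt j 0 1 ∧ pt j 1 1 = pt j 0 2 ∧ pt j 1 2 = pt j 0 0 ∧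
      pt j 1 3 = pt j 0 3) j
    rw [← h, uq, uq, e1.1, e1.2.1, e1.2.2.1, e1.2.2.2, commutatorElement_def]
    group
  · refine hinj _ (mul_mem (mul_mem (hu j 2) (hu j 1)) (hu j 0)) _ (one_mem _) ?_
    rw [map_mul, map_mul, map_one, hue, hue, hue]
    have e1 := (by decide +kernel : ∀ j : Fin 3, pt j 1 0 = pt j 0 1 ∧ pt j 1 1 = pt j 0 2 ∧ pt j 1 2 = pt j 0 0 ∧
      pt j 1 3 = pt j 0 3 ∧ pt j 2 0 = pt j 0 2 ∧ pt j 2 1 = pt j 0 0 ∧ pt j 2 2 = pt j 0 1 ∧ pt j 2 3 = pt j 0 3) j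
    obtain ⟨a0, a1, a2, a3, b0, b1, b2, b3⟩ := e1
    rw [uq, uq, uq, a0, a1, a2, a3, b0, b1, b2, b3]
    exact prod_uu hπ (pt_D4 j 0)
  · exact hinj _ (mul_mem (hu i r) (hu j s)) _ (mul_mem (hu j s) (hu i r))
      (by rw [map_mul, map_mul, hue, hue, uq_comm hπ hij])
  · exact hinj _ (mul_mem (mul_mem hw (hu 0 r)) (inv_mem hw)) _ (hu 1 r)
      (by rw [map_mul, map_mul, map_inv, hwe, hue, hue, (wq_swap hπ r).1])
  · exact hinj _ (mul_mem (mul_mem hw (hu 1 r)) (inv_mem hw)) _ (hu 0 r)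
      (by rw [map_mul, map_mul, map_inv, hwe, hue, hue, (wq_swap hπ r).2])

namespace Blk

variable {G : Type} [Group G] {K : Subgroup G} [K.Normal] {π : G ⧸ K →* Perm (Fin 12)}
  {u : Fin 3 → Fin 3 → G} {w e : G} (hb : Blk π u w e)
  {k : Type} [Field k] {V : Type} [AddCommGroup V] [Module k V] [FiniteDimensional k V]
  {σ : G →* Module.End k V} (hσ : σ e = 1)
include hb hσ

omit [FiniteDimensional k V] in
theorem s_sq (j r : Fin 3) : σ (u j r) * σ (u j r) = 1 := by rw [← map_mul, hb.sq, hσ]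

omit [FiniteDimensional k V] in
theorem s_comm (i j r s : Fin 3) : σ (u i r) * σ (u j s) = σ (u j s) * σ (u i r) := by
  by_cases hij : i = j
  · subst hij
    have h01 : σ (u i 0) * σ (u i 1) = σ (u i 1) * σ (u i 0) := by
      rw [← map_mul, hb.pair, map_mul, hσ, one_mul, map_mul]
    have h2 : σ (u i 2) = σ (u i 0) * σ (u i 1) := by
      have h := congrArg σ (hb.tri i)
      rw [map_mul, map_mul, map_one] at h
      calc σ (u i 2) = σ (u i 2) * σ (u i 1) * σ (u i 0) * (σ (u i 0) * σ (u i 1)) := by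
            simp only [mul_assoc]
            rw [← mul_assoc (σ (u i 0)), hb.s_sq hσ, one_mul, hb.s_sq hσ, mul_one]
        _ = _ := by rw [h, one_mul]
    have a0 := hb.s_sq hσ i 0
    have a1 := hb.s_sq hσ i 1
    have c02 : σ (u i 0) * σ (u i 2) = σ (u i 2) * σ (u i 0) := by
      rw [h2, ← mul_assoc, mul_assoc _ (σ (u i 1)), ← h01, ← mul_assoc]
    have c12 : σ (u i 1) * σ (u i 2) = σ (u i 2) * σ (u i 1) := by
      rw [h2, ← mul_assoc, ← h01]
    fin_cases r <;> fin_cases s <;> first | rfl | exact h01 | exact h01.symm | exact c02 | exact c02.symm | exact c12 | exact c12.symm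
  · rw [← map_mul, hb.comm i j hij, map_mul]

omit [FiniteDimensional k V] in
theorem s_two (j : Fin 3) : σ (u j 0) * σ (u j 1) = σ (u j 2) := by
  have h := congrArg σ (hb.tri j)
  rw [map_mul, map_mul, map_one] at h
  calc σ (u j 0) * σ (u j 1) = σ (u j 2) * σ (u j 1) * σ (u j 0) * (σ (u j 0) * σ (u j 1)) := by rw [h, one_mul]
    _ = _ := by
      simp only [mul_assoc]
      rw [← mul_assoc (σ (u j 0)), hb.s_sq hσ, one_mul, hb.s_sq hσ, mul_one]

/-- one block -/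
theorem cl_one (j r : Fin 3) : mneg ⊤ (σ (u j r)) = mneg ⊤ (σ (u 0 0)) := by
  obtain ⟨p, hp⟩ : ∃ p : Fin 4, bimg p 0 = j := by revert j; decide
  obtain ⟨g, hg⟩ := conj_mv hb.cov p (fun _ => r)
  obtain ⟨g0, rfl⟩ := QuotientGroup.mk'_surjective K g
  rw [← mneg_conj σ g0 (u 0 0)]
  refine mneg_congr σ hb.odd (hb.s_sq hσ j r) ?_ ?_
  · rw [← map_mul, show g0 * u 0 0 * g0⁻¹ * (g0 * u 0 0 * g0⁻¹) = g0 * (u 0 0 * u 0 0) * g0⁻¹ by group, hb.sq,
      Subgroup.mem_center_iff.1 hb.cen g0, mul_inv_cancel_right, hσ]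
  · rw [hb.mku, map_mul, map_mul, map_inv, hb.mku, hg 0, hp]

omit [FiniteDimensional k V] in
theorem sq_pair {i j : Fin 3} (hij : i ≠ j) (r s : Fin 3) : u i r * u j s * (u i r * u j s) = 1 := by
  rw [show u i r * u j s * (u i r * u j s) = u i r * (u j s * u i r) * u j s by group, ← hb.comm i j hij,
    show u i r * (u i r * u j s) * u j s = u i r * u i r * (u j s * u j s) by group, hb.sq, hb.sq, hb.ee]

/-- two blocks -/
theorem cl_two {i j : Fin 3} (hij : i ≠ j) (r s : Fin 3) :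
    mneg ⊤ (σ (u i r * u j s)) = mneg ⊤ (σ (u 0 0 * u 1 0)) := by
  wlog hord : (i = 0 ∧ j = 1) ∨ (i = 0 ∧ j = 2) ∨ (i = 1 ∧ j = 2) generalizing i j r s
  · rw [hb.comm i j hij]
    exact this hij.symm s r (by revert i j; decide)
  obtain ⟨p, hp0, hp1⟩ : ∃ p : Fin 4, bimg p 0 = i ∧ bimg p 1 = j := by
    rcases hord with ⟨rfl, rfl⟩ | ⟨rfl, rfl⟩ | ⟨rfl, rfl⟩ <;> decide
  obtain ⟨g, hg⟩ := conj_mv hb.cov p (fun l => if l = i then r else s)
  obtain ⟨g0, rfl⟩ := QuotientGroup.mk'_surjective K g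
  rw [← mneg_conj σ g0 (u 0 0 * u 1 0)]
  refine mneg_congr σ hb.odd (by rw [← map_mul, hb.sq_pair hσ hij, map_one]) ?_ ?_
  · rw [← map_mul, show g0 * (u 0 0 * u 1 0) * g0⁻¹ * (g0 * (u 0 0 * u 1 0) * g0⁻¹) =
      g0 * (u 0 0 * u 1 0 * (u 0 0 * u 1 0)) * g0⁻¹ by group, hb.sq_pair hσ (by decide), mul_one,
      mul_inv_cancel, map_one]
  · rw [map_mul, map_mul, map_mul, map_mul, map_inv, ← conj_mul, hb.mku, hb.mku, hb.mku, hb.mku, hg 0, hg 1,
      hp0, hp1, if_pos rfl, if_neg (Ne.symm hij)]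

omit [FiniteDimensional k V] in
theorem s_sq_triple (r0 r1 r2 : Fin 3) :
    σ (u 0 r0 * u 1 r1 * u 2 r2) * σ (u 0 r0 * u 1 r1 * u 2 r2) = 1 := by
  rw [← map_mul, show u 0 r0 * u 1 r1 * u 2 r2 * (u 0 r0 * u 1 r1 * u 2 r2) =
      u 0 r0 * u 1 r1 * (u 2 r2 * u 0 r0) * u 1 r1 * u 2 r2 by group, hb.comm 2 0 (by decide),
    show u 0 r0 * u 1 r1 * (u 0 r0 * u 2 r2) * u 1 r1 * u 2 r2 =
      u 0 r0 * u 1 r1 * u 0 r0 * (u 2 r2 * u 1 r1) * u 2 r2 by group, hb.comm 2 1 (by decide),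
    show u 0 r0 * u 1 r1 * u 0 r0 * (u 1 r1 * u 2 r2) * u 2 r2 =
      u 0 r0 * u 1 r1 * (u 0 r0 * u 1 r1) * (u 2 r2 * u 2 r2) by group,
    hb.sq_pair hσ (by decide), one_mul, hb.sq, hσ]

/-- three blocks -/
theorem cl_three (r0 r1 r2 : Fin 3) :
    mneg ⊤ (σ (u 0 r0 * u 1 r1 * u 2 r2)) = mneg ⊤ (σ (u 0 0 * u 1 0 * u 2 0)) := by
  obtain ⟨g, hg⟩ := conj_mv hb.cov 0 ![r0, r1, r2]
  obtain ⟨g0, rfl⟩ := QuotientGroup.mk'_surjective K g
  rw [← mneg_conj σ g0 (u 0 0 * u 1 0 * u 2 0)]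
  refine mneg_congr σ hb.odd (hb.s_sq_triple hσ r0 r1 r2) ?_ ?_
  · rw [← map_mul, show g0 * (u 0 0 * u 1 0 * u 2 0) * g0⁻¹ * (g0 * (u 0 0 * u 1 0 * u 2 0) * g0⁻¹) =
      g0 * ((u 0 0 * u 1 0 * u 2 0) * (u 0 0 * u 1 0 * u 2 0)) * g0⁻¹ by group, map_mul, map_mul,
      map_mul σ (u 0 0 * u 1 0 * u 2 0), hb.s_sq_triple hσ, mul_one, ← map_mul, mul_inv_cancel, map_one]
  · rw [map_mul, map_mul, map_mul, map_mul, map_mul, map_mul, map_inv, ← conj_mul, ← conj_mul,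
      hb.mku, hb.mku, hb.mku, hb.mku, hb.mku, hb.mku, hg 0, hg 1, hg 2]
    rfl

/-- an element of one block -/
noncomputable def blockOp (σ : G →* Module.End k V) (u : Fin 3 → Fin 3 → G) (j : Fin 3) (s t : Bool) :
    Module.End k V :=
  (if s then σ (u j 0) else 1) * (if t then σ (u j 1) else 1)

/-- the multiplicity on a choice in each block -/
theorem val_three (h2k : (2 : k) ≠ 0) (x0 x1 x2 : Bool × Bool) :
    mneg ⊤ (blockOp σ u 0 x0.1 x0.2 * (blockOp σ u 1 x1.1 x1.2 * blockOp σ u 2 x2.1 x2.2)) =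
      cls (mneg ⊤ (σ (u 0 0))) (mneg ⊤ (σ (u 0 0 * u 1 0))) (mneg ⊤ (σ (u 0 0 * u 1 0 * u 2 0)))
        (x0.1 || x0.2) (x1.1 || x1.2) (x2.1 || x2.2) := by
  have hz : mneg (k := k) (V := V) ⊤ 1 = 0 := by
    have e : neg (k := k) (V := V) ⊤ 1 = ⊥ := by
      rw [Submodule.eq_bot_iff]
      intro v hv
      have h : v = -v := by simpa using (mem_neg.1 hv).2
      have h' : (2 : k) • v = 0 := by rw [two_smul]; nth_rewrite 2 [h]; simp
      exact (smul_eq_zero.1 h').resolve_left h2k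
    rw [mneg, e, finrank_bot]
  have hopt : ∀ j : Fin 3, ∀ x : Bool × Bool, (x.1 || x.2) = true → ∃ r, blockOp σ u j x.1 x.2 = σ (u j r) := by
    rintro j ⟨s, t⟩ h
    cases s <;> cases t
    · simp at h
    · exact ⟨1, by simp [blockOp]⟩
    · exact ⟨0, by simp [blockOp]⟩
    · exact ⟨2, by simp [blockOp, hb.s_two hσ]⟩
  have hnone : ∀ j : Fin 3, ∀ x : Bool × Bool, (x.1 || x.2) = false → blockOp σ u j x.1 x.2 = 1 := by
    rintro j ⟨s, t⟩ h
    cases s <;> cases t <;> simp [blockOp] at h ⊢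
  cases h0 : (x0.1 || x0.2) <;> cases h1 : (x1.1 || x1.2) <;> cases h2 : (x2.1 || x2.2)
  · rw [hnone _ _ h0, hnone _ _ h1, hnone _ _ h2, one_mul, one_mul]
    simpa [cls] using hz
  · obtain ⟨r2, e2⟩ := hopt 2 _ h2
    rw [hnone 0 _ h0, hnone 1 _ h1, e2]
    simp only [one_mul, mul_one, ← map_mul, ← mul_assoc, cls]
    exact hb.cl_one hσ 2 r2
  · obtain ⟨r1, e1⟩ := hopt 1 _ h1
    rw [hnone 0 _ h0, e1, hnone 2 _ h2]
    simp only [one_mul, mul_one, ← map_mul, ← mul_assoc, cls]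
    exact hb.cl_one hσ 1 r1
  · obtain ⟨r1, e1⟩ := hopt 1 _ h1
    obtain ⟨r2, e2⟩ := hopt 2 _ h2
    rw [hnone 0 _ h0, e1, e2]
    simp only [one_mul, mul_one, ← map_mul, ← mul_assoc, cls]
    exact hb.cl_two hσ (show (1 : Fin 3) ≠ 2 by decide) r1 r2
  · obtain ⟨r0, e0⟩ := hopt 0 _ h0
    rw [e0, hnone 1 _ h1, hnone 2 _ h2]
    simp only [one_mul, mul_one, ← map_mul, ← mul_assoc, cls]
    exact hb.cl_one hσ 0 r0
  · obtain ⟨r0, e0⟩ := hopt 0 _ h0
    obtain ⟨r2, e2⟩ := hopt 2 _ h2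
    rw [e0, hnone 1 _ h1, e2]
    simp only [one_mul, mul_one, ← map_mul, ← mul_assoc, cls]
    exact hb.cl_two hσ (show (0 : Fin 3) ≠ 2 by decide) r0 r2
  · obtain ⟨r0, e0⟩ := hopt 0 _ h0
    obtain ⟨r1, e1⟩ := hopt 1 _ h1
    rw [e0, e1, hnone 2 _ h2]
    simp only [one_mul, mul_one, ← map_mul, ← mul_assoc, cls]
    exact hb.cl_two hσ (show (0 : Fin 3) ≠ 1 by decide) r0 r1
  · obtain ⟨r0, e0⟩ := hopt 0 _ h0
    obtain ⟨r1, e1⟩ := hopt 1 _ h1
    obtain ⟨r2, e2⟩ := hopt 2 _ h2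
    rw [e0, e1, e2]
    simp only [one_mul, mul_one, ← map_mul, ← mul_assoc, cls]
    exact hb.cl_three hσ r0 r1 r2

end Blk

end CfsgLib.Chev.E6Alt
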