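/-
No minimal group over the alternating group of degree twelve preserves the cubic form in characteristic at least seven.
-/
import Cfsg.Agent.Lib.Chev.E6Alt.Central
import Cfsg.Agent.Lib.Chev.E6Alt.Tally

set_option autoImplicit false
set_option maxRecDepth 100000
set_option maxHeartbeats 800000

namespace CfsgLib.Chev.E6Alt

open Equiv Module CfsgLib.AltSection CfsgLib.Chev.E6Form Module.End

/-! ### restricting to an invariant subspace -/

section sub

variable {k : Type} [Field k] {V : Type} [AddCommGroup V] [Module k V] [FiniteDimensional k V]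
  {G : Type} [Group G] (ρ : G →* Module.End k V)

/-- the action on an invariant subspace -/
noncomputable def resHom (U : Submodule k V) (hU : ∀ g, Keeps U (ρ g)) : G →* Module.End k ↥U where
  toFun g := (ρ g).restrict (hU g)
  map_one' := LinearMap.ext fun v => Subtype.ext (by simp)
  map_mul' g h := LinearMap.ext fun v => Subtype.ext (show ρ (g * h) (v : V) = ρ g (ρ h (v : V)) by
    rw [map_mul]; rfl)

omit [FiniteDimensional k V] in
theorem resHom_coe (U : Submodule k V) (hU : ∀ g, Keeps U (ρ g)) (g : G) (v : ↥U) :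
    ((resHom ρ U hU g v : ↥U) : V) = ρ g (v : V) := rfl

theorem mneg_res (U : Submodule k V) (hU : ∀ g, Keeps U (ρ g)) (g : G) :
    mneg ⊤ (resHom ρ U hU g) = mneg U (ρ g) := by
  have e : (neg ⊤ (resHom ρ U hU g)).map U.subtype = neg U (ρ g) := by
    ext v
    constructor
    · rintro ⟨x, hx, rfl⟩
      exact mem_neg.2 ⟨x.2, congrArg Subtype.val (mem_neg.1 hx).2⟩
    · intro hv
      exact ⟨⟨v, (mem_neg.1 hv).1⟩, mem_neg.2 ⟨Submodule.mem_top, Subtype.ext (mem_neg.1 hv).2⟩, rfl⟩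
  rw [mneg, mneg, ← e, Submodule.finrank_map_subtype_eq]

end sub

/-! ### the equations -/

namespace Blk

variable {G : Type} [Group G] {K : Subgroup G} [K.Normal] {π : G ⧸ K →* Perm (Fin 12)}
  {u : Fin 3 → Fin 3 → G} {w e : G} (hb : Blk π u w e)
  {k : Type} [Field k] {V : Type} [AddCommGroup V] [Module k V] [FiniteDimensional k V]
  {σ : G →* Module.End k V} (hσ : σ e = 1)
include hb hσ

theorem tally (h2 : (2 : k) ≠ 0) :
    ∃ a b c f1 f2 f3 f4 : ℕ, mneg ⊤ (σ (u 0 0)) = a ∧ mneg ⊤ (σ (u 0 0 * u 1 0)) = b ∧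
      6 * a + 4 * f1 = 4 * finrank k V ∧ 12 * a + 18 * b + 16 * f2 = 16 * finrank k V ∧
      18 * a + 54 * b + 54 * c + 64 * f3 = 64 * finrank k V ∧ 14 * b + 8 * f4 = 8 * finrank k V ∧
      c ≤ finrank k V ∧
      ∃ F : Submodule k V, finrank k ↥F = f3 ∧ ∀ j r, ∀ v ∈ F, σ (u j r) v = v := by
  classical
  set M : Submonoid (Module.End k V) := Submonoid.closure (Set.range fun x : Fin 3 × Fin 3 => σ (u x.1 x.2))
  have hMc : ∀ x ∈ M, ∀ y ∈ M, x * y = y * x := by
    have h1 : ∀ y ∈ M, ∀ j r, σ (u j r) * y = y * σ (u j r) := by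
      intro y hy j r
      induction hy using Submonoid.closure_induction with
      | mem z hz => obtain ⟨⟨i, s⟩, rfl⟩ := hz; exact hb.s_comm hσ j i r s
      | one => simp
      | mul a b _ _ ha hb' => rw [← mul_assoc, ha, mul_assoc, hb', mul_assoc]
    intro x hx y hy
    induction hx using Submonoid.closure_induction with
    | mem z hz => obtain ⟨⟨i, s⟩, rfl⟩ := hz; exact h1 y hy i s
    | one => simp
    | mul a b _ _ ha hb' => rw [mul_assoc, hb', ← mul_assoc, ha, mul_assoc]
  have hMs : ∀ x ∈ M, x * x = 1 := by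
    intro x hx
    induction hx using Submonoid.closure_induction with
    | mem z hz => obtain ⟨⟨i, s⟩, rfl⟩ := hz; exact hb.s_sq hσ i s
    | one => simp
    | mul a b ha' hb'' ha hb' =>
      rw [show a * b * (a * b) = a * (b * a) * b by simp only [mul_assoc], ← hMc a ha' b hb'',
        show a * (a * b) * b = a * a * (b * b) by simp only [mul_assoc], ha, hb', one_mul]
  have hu : ∀ j r, σ (u j r) ∈ M := fun j r => Submonoid.subset_closure ⟨(j, r), rfl⟩
  let ext : (j : Fin 3) → Bool → Bool → G := fun j s t => (if s then u j 0 else 1) * (if t then u j 1 else 1)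
  have hblk : ∀ j s t, σ (ext j s t) = blockOp σ u j s t := fun j s t => by
    cases s <;> cases t <;> simp [ext, blockOp]
  have hext : ∀ j s t, σ (ext j s t) ∈ M := fun j s t => by
    rw [hblk]
    cases s <;> cases t <;> simp only [blockOp, if_true, Bool.false_eq_true, if_false, one_mul, mul_one] <;>
      first | exact one_mem _ | exact hu _ _ | exact mul_mem (hu _ _) (hu _ _)
  -- one, two and three blocks
  have G0 := good_one (k := k) (V := V) h2 σ
  have G1 := G0.block h2 (hb.s_sq hσ 0 0) (hb.s_sq hσ 0 1) (hb.s_comm hσ 0 0 0 1)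
    (fun _ => by rw [map_one, mul_one, one_mul]) (fun _ => by rw [map_one, mul_one, one_mul])
    (fun _ => by rw [map_one, mul_one])
  have m1 : ∀ x : Bool × Bool × Unit, σ ((if x.1 then u 0 0 else 1) * ((if x.2.1 then u 0 1 else 1) * 1)) ∈ M := by
    intro x
    rw [mul_one]
    exact hext 0 x.1 x.2.1
  have H1 := G0.block h2 (hb.s_sq hσ 2 0) (hb.s_sq hσ 2 1) (hb.s_comm hσ 2 2 0 1)
    (fun _ => by rw [map_one, mul_one, one_mul]) (fun _ => by rw [map_one, mul_one, one_mul])
    (fun _ => by rw [map_one, mul_one])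
  have n1 : ∀ x : Bool × Bool × Unit, σ ((if x.1 then u 2 0 else 1) * ((if x.2.1 then u 2 1 else 1) * 1)) ∈ M := by
    intro x
    rw [mul_one]
    exact hext 2 x.1 x.2.1
  have H2 := H1.block h2 (hb.s_sq hσ 1 0) (hb.s_sq hσ 1 1) (hb.s_comm hσ 1 1 0 1)
    (fun i => hMc _ (hu 1 0) _ (n1 i)) (fun i => hMc _ (hu 1 1) _ (n1 i)) (fun i => hMs _ (n1 i))
  have n2 : ∀ y : Bool × Bool × (Bool × Bool × Unit), σ ((if y.1 then u 1 0 else 1) * ((if y.2.1 then u 1 1 else 1) *
      ((if y.2.2.1 then u 2 0 else 1) * ((if y.2.2.2.1 then u 2 1 else 1) * 1)))) ∈ M := by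
    intro y
    rw [← mul_assoc (if y.1 then u 1 0 else 1), map_mul]
    exact mul_mem (hext 1 y.1 y.2.1) (n1 y.2.2)
  have H3 := H2.block h2 (hb.s_sq hσ 0 0) (hb.s_sq hσ 0 1) (hb.s_comm hσ 0 0 0 1)
    (fun i => hMc _ (hu 0 0) _ (n2 i)) (fun i => hMc _ (hu 0 1) _ (n2 i)) (fun i => hMs _ (n2 i))
  have G2 := G1.block h2 (hb.s_sq hσ 1 0) (hb.s_sq hσ 1 1) (hb.s_comm hσ 1 1 0 1)
    (fun i => hMc _ (hu 1 0) _ (m1 i)) (fun i => hMc _ (hu 1 1) _ (m1 i)) (fun i => hMs _ (m1 i))
  -- the regular group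
  have hX : σ (u 0 0 * u 1 0) * σ (u 0 0 * u 1 0) = 1 := hMs _ (by rw [map_mul]; exact mul_mem (hu 0 0) (hu 1 0))
  have hY : σ (u 0 1 * u 1 1) * σ (u 0 1 * u 1 1) = 1 := hMs _ (by rw [map_mul]; exact mul_mem (hu 0 1) (hu 1 1))
  have hXY : σ (u 0 0 * u 1 0) * σ (u 0 1 * u 1 1) = σ (u 0 1 * u 1 1) * σ (u 0 0 * u 1 0) :=
    hMc _ (by rw [map_mul]; exact mul_mem (hu 0 0) (hu 1 0)) _ (by rw [map_mul]; exact mul_mem (hu 0 1) (hu 1 1))
  have R1 := G0.block h2 hX hY hXY
    (fun _ => by rw [map_one, mul_one, one_mul]) (fun _ => by rw [map_one, mul_one, one_mul])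
    (fun _ => by rw [map_one, mul_one])
  have r1 : ∀ x : Bool × Bool × Unit, σ ((if x.1 then u 0 0 * u 1 0 else 1) * ((if x.2.1 then u 0 1 * u 1 1 else 1) * 1)) ∈ M := by
    intro x
    rw [mul_one, map_mul]
    refine mul_mem ?_ ?_ <;> split_ifs <;>
      first | (rw [map_one]; exact one_mem _) | (rw [map_mul]; exact mul_mem (hu _ _) (hu _ _))
  have hwX : ∀ r, σ w * σ (u 0 r * u 1 r) = σ (u 0 r * u 1 r) * σ w := by
    intro r
    have h : w * (u 0 r * u 1 r) = u 0 r * u 1 r * w := by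
      calc w * (u 0 r * u 1 r) = (w * u 0 r * w⁻¹) * (w * u 1 r * w⁻¹) * w := by group
        _ = _ := by rw [(hb.wswap r).1, (hb.wswap r).2, hb.comm 1 0 (by decide)]
    rw [← map_mul, h, map_mul]
  have hws : σ w * σ w = 1 := by rw [← map_mul, hb.wsq, map_one]
  have R2 := R1.step h2 hws (fun i => by
    obtain ⟨s, t, -⟩ := i
    simp only [map_mul, map_one, mul_one]
    have h0 := hwX 0
    have h1 := hwX 1
    rw [map_mul] at h0 h1
    cases s <;> cases t <;>
      simp only [if_true, Bool.false_eq_true, if_false, map_one, map_mul, one_mul, mul_one]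
    · exact h1
    · exact h0
    · rw [← mul_assoc, h0, mul_assoc, h1, ← mul_assoc]) (fun i => hMs _ (r1 i))
  -- values
  set a := mneg ⊤ (σ (u 0 0))
  set b := mneg ⊤ (σ (u 0 0 * u 1 0))
  set c := mneg ⊤ (σ (u 0 0 * u 1 0 * u 2 0))
  have val := hb.val_three hσ h2
  have e1 := G1 ⊤ fun i v _ => Submodule.mem_top
  have e2 := G2 ⊤ fun i v _ => Submodule.mem_top
  have e3 := H3 ⊤ fun i v _ => Submodule.mem_top
  have e4 := R2 ⊤ fun i v _ => Submodule.mem_top
  have s1 : ∑ x : Bool × Bool × Unit, mneg ⊤ (σ ((if x.1 then u 0 0 else 1) * ((if x.2.1 then u 0 1 else 1) * 1))) = 3 * a := by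
    have h : ∀ x : Bool × Bool × Unit, mneg ⊤ (σ ((if x.1 then u 0 0 else 1) * ((if x.2.1 then u 0 1 else 1) * 1))) =
        cls a b c (x.1 || x.2.1) false false := by
      intro x
      have h := val (x.1, x.2.1) (false, false) (false, false)
      have e0 : blockOp σ u 1 false false = 1 := by simp [blockOp]
      have e0' : blockOp σ u 2 false false = 1 := by simp [blockOp]
      rw [e0, e0', mul_one, mul_one, ← hblk] at h
      rw [mul_one]
      exact h
    rw [Fintype.sum_congr _ _ h]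
    simp only [Fintype.sum_prod_type, Fintype.sum_bool, Fintype.sum_unique, Bool.or_true, Bool.true_or, Bool.or_false, cls]
    ring
  have s2 : ∑ y : Bool × Bool × (Bool × Bool × Unit), mneg ⊤ (σ ((if y.1 then u 1 0 else 1) * ((if y.2.1 then u 1 1 else 1) *
      ((if y.2.2.1 then u 0 0 else 1) * ((if y.2.2.2.1 then u 0 1 else 1) * 1))))) = 6 * a + 9 * b := by
    have h : ∀ y : Bool × Bool × (Bool × Bool × Unit), mneg ⊤ (σ ((if y.1 then u 1 0 else 1) * ((if y.2.1 then u 1 1 else 1) *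
        ((if y.2.2.1 then u 0 0 else 1) * ((if y.2.2.2.1 then u 0 1 else 1) * 1))))) =
        cls a b c (y.2.2.1 || y.2.2.2.1) (y.1 || y.2.1) false := by
      intro y
      have h := val (y.2.2.1, y.2.2.2.1) (y.1, y.2.1) (false, false)
      have e0' : blockOp σ u 2 false false = 1 := by simp [blockOp]
      rw [e0', mul_one, ← hblk, ← hblk, hMc _ (hext 0 _ _) _ (hext 1 _ _)] at h
      rw [← mul_assoc (if y.1 then u 1 0 else 1), mul_one, map_mul]
      exact h
    rw [Fintype.sum_congr _ _ h]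
    simp only [Fintype.sum_prod_type, Fintype.sum_bool, Fintype.sum_unique, Bool.or_true, Bool.true_or, Bool.or_false, cls]
    ring
  have s3 : ∑ z : Bool × Bool × (Bool × Bool × (Bool × Bool × Unit)), mneg ⊤ (σ ((if z.1 then u 0 0 else 1) *
      ((if z.2.1 then u 0 1 else 1) * ((if z.2.2.1 then u 1 0 else 1) * ((if z.2.2.2.1 then u 1 1 else 1) *
      ((if z.2.2.2.2.1 then u 2 0 else 1) * ((if z.2.2.2.2.2.1 then u 2 1 else 1) * 1))))))) = 9 * a + 27 * b + 27 * c := by
    have h : ∀ z : Bool × Bool × (Bool × Bool × (Bool × Bool × Unit)), mneg ⊤ (σ ((if z.1 then u 0 0 else 1) *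
        ((if z.2.1 then u 0 1 else 1) * ((if z.2.2.1 then u 1 0 else 1) * ((if z.2.2.2.1 then u 1 1 else 1) *
        ((if z.2.2.2.2.1 then u 2 0 else 1) * ((if z.2.2.2.2.2.1 then u 2 1 else 1) * 1))))))) =
        cls a b c (z.1 || z.2.1) (z.2.2.1 || z.2.2.2.1) (z.2.2.2.2.1 || z.2.2.2.2.2.1) := by
      intro z
      have h := val (z.1, z.2.1) (z.2.2.1, z.2.2.2.1) (z.2.2.2.2.1, z.2.2.2.2.2.1)
      rw [← hblk, ← hblk, ← hblk, ← map_mul, ← map_mul] at h
      simp only [ext] at h
      simp only [mul_one, mul_assoc, a, b, c] at h ⊢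
      exact h
    rw [Fintype.sum_congr _ _ h]
    simp only [Fintype.sum_prod_type, Fintype.sum_bool, Fintype.sum_unique, Bool.or_true, Bool.true_or, Bool.or_false, cls]
    ring
  have hwb : mneg ⊤ (σ w) = b := by
    obtain ⟨g, hg⟩ := wq_conj hb.cov
    obtain ⟨g0, rfl⟩ := QuotientGroup.mk'_surjective K g
    rw [show b = mneg ⊤ (σ (g0 * (u 0 0 * u 1 0) * g0⁻¹)) from (mneg_conj σ g0 _).symm]
    refine mneg_congr σ hb.odd hws ?_ ?_
    · rw [← map_mul, show g0 * (u 0 0 * u 1 0) * g0⁻¹ * (g0 * (u 0 0 * u 1 0) * g0⁻¹) =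
        g0 * (u 0 0 * u 1 0 * (u 0 0 * u 1 0)) * g0⁻¹ by group, hb.sq_pair hσ (by decide), mul_one,
        mul_inv_cancel, map_one]
    · rw [hb.mkw, map_mul, map_mul, map_mul, map_inv, hb.mku, hb.mku]; exact hg.symm
  have hinv : ∀ j r, σ (u j r)⁻¹ = σ (u j r) := fun j r => by
    calc σ (u j r)⁻¹ = σ (u j r)⁻¹ * (σ (u j r) * σ (u j r)) := by rw [hb.s_sq hσ, mul_one]
      _ = σ (u j r) := by rw [← mul_assoc, ← map_mul, inv_mul_cancel, map_one, one_mul]
  have hwr : ∀ r, mneg ⊤ (σ (w * (u 0 r * u 1 r))) = b := by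
    intro r
    rw [← hwb, ← mneg_conj σ (u 0 r) w]
    have e' : σ (u 0 r * w * (u 0 r)⁻¹) = σ (w * (u 0 r * u 1 r)) := by
      have h : w⁻¹ = w := inv_eq_of_mul_eq_one_right hb.wsq
      have h1 : u 0 r * w * (u 0 r)⁻¹ = w * u 1 r * (u 0 r)⁻¹ := by
        rw [← (hb.wswap r).1, show w * (w * u 0 r * w⁻¹) = w * w * u 0 r * w⁻¹ by group, hb.wsq, one_mul, h]
      rw [h1, mul_assoc, map_mul σ w, map_mul σ w, map_mul, map_mul, hinv, hb.s_comm hσ 1 0 r r]
    rw [e']
  have h22 : σ (u 0 0 * u 1 0) * σ (u 0 1 * u 1 1) = σ (u 0 2 * u 1 2) := by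
    rw [map_mul, map_mul, map_mul, ← hb.s_two hσ 0, ← hb.s_two hσ 1, ← mul_assoc, mul_assoc (σ (u 0 0)),
      hb.s_comm hσ 1 0 0 1, ← mul_assoc, mul_assoc _ (σ (u 1 0))]
  have s4 : ∑ x : Bool × (Bool × Bool × Unit), mneg ⊤ (σ (if x.1 then w * ((if x.2.1 then u 0 0 * u 1 0 else 1) *
      ((if x.2.2.1 then u 0 1 * u 1 1 else 1) * 1)) else (if x.2.1 then u 0 0 * u 1 0 else 1) *
      ((if x.2.2.1 then u 0 1 * u 1 1 else 1) * 1))) = 7 * b := by
    have h01 : (0 : Fin 3) ≠ 1 := by decide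
    simp only [Fintype.sum_prod_type, Fintype.sum_bool, Fintype.sum_unique, if_true, Bool.false_eq_true, if_false,
      one_mul, mul_one]
    have p0 : mneg ⊤ (σ (u 0 0 * u 1 0)) = b := hb.cl_two hσ h01 0 0
    have p1 : mneg ⊤ (σ (u 0 1 * u 1 1)) = b := hb.cl_two hσ h01 1 1
    have p2 : mneg ⊤ (σ (u 0 0 * u 1 0 * (u 0 1 * u 1 1))) = b := by
      rw [map_mul, h22]; exact hb.cl_two hσ h01 2 2
    have q2 : mneg ⊤ (σ (w * (u 0 0 * u 1 0 * (u 0 1 * u 1 1)))) = b := by
      rw [map_mul, map_mul σ (u 0 0 * u 1 0), h22, ← map_mul]; exact hwr 2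
    have z : mneg ⊤ (σ (1 : G)) = 0 := by
      have := hb.val_three hσ h2 (false, false) (false, false) (false, false)
      simpa [blockOp, cls] using this
    rw [hwr 0, hwr 1, p0, p1, p2, q2, z, hwb]
    ring
  simp only at e1 e2 e3 e4
  rw [s1] at e1
  rw [s2] at e2
  rw [s3] at e3
  rw [s4] at e4
  simp only [Fintype.card_prod, Fintype.card_bool, Fintype.card_unique, finrank_top] at e1 e2 e3 e4
  simp only [mul_add, ← mul_assoc, Nat.reduceMul] at e1 e2 e3 e4
  refine ⟨a, b, c, _, _, _, _, rfl, rfl, e1, e2, e3, e4, ?_,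
    _, rfl, fun j r v hv => ?_⟩
  · exact Submodule.finrank_le _
  · simp only [Submodule.mem_inf, Submodule.mem_iInf, mem_eigenspace_iff, one_smul] at hv
    have key := fun z => hv.2 z
    fin_cases j <;> fin_cases r
    · simpa using key (true, false, false, false, false, false, ())
    · simpa using key (false, true, false, false, false, false, ())
    · have := key (true, true, false, false, false, false, ())
      simp only [if_true, Bool.false_eq_true, if_false, one_mul, mul_one, map_mul, hb.s_two hσ] at this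
      exact this
    · simpa using key (false, false, true, false, false, false, ())
    · simpa using key (false, false, false, true, false, false, ())
    · have := key (false, false, true, true, false, false, ())
      simp only [if_true, Bool.false_eq_true, if_false, one_mul, mul_one, map_mul, hb.s_two hσ] at this
      exact this
    · simpa using key (false, false, false, false, true, false, ())
    · simpa using key (false, false, false, false, false, true, ())
    · have := key (false, false, false, false, true, true, ())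
      simp only [if_true, Bool.false_eq_true, if_false, one_mul, mul_one, map_mul, hb.s_two hσ] at this
      exact this

end Blk

/-! ### the contradiction -/

/-- there is no such group -/
theorem Twelve.false {k : Type} [Field k] [IsAlgClosed k] (p : ℕ) [Fact p.Prime] [CharP k p] {G : Type} [Group G]
    [Finite G] {ρ : G →* Module.End k (ι → k)} {π₀ : G →* Perm (Fin 12)} (hT : Twelve ρ π₀) : False := by
  classical
  have h2 := hT.big.1
  obtain ⟨K, hKn, π, u, w, e, hb⟩ := exists_blk hT.toMin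
  haveI := hKn
  have hcov := hb.cov
  have hne1 : ∀ (q : G), π (QuotientGroup.mk' K q) ≠ 1 → q ≠ 1 := fun q h e' => h (by rw [e', map_one, map_one])
  have hX1 : u 0 0 * u 1 0 ≠ 1 := hne1 _ (by
    rw [map_mul, map_mul, hb.mku, hb.mku, map_uq hcov, map_uq hcov]; decide +kernel)
  have hn27 : finrank k (ι → k) = 27 := by rw [Module.finrank_fintype_fun_eq_card]; rfl
  by_cases he : e = 1
  · have hρe : ρ e = 1 := by rw [he, map_one]
    obtain ⟨a, b, c, f1, f2, f3, f4, ha, hbv, -, q2, -, q4, -, -⟩ := hb.tally hρe h2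
    have hbb : b = 12 ∨ b = 16 := by
      rw [← hbv]
      refine hT.invol _ ?_ hX1
      rw [hb.sq_pair hρe (by decide)]
    have haa : a = 12 ∨ a = 16 := by
      rw [← ha]
      refine hT.invol _ (by rw [hb.sq, he]) (hne1 _ ?_)
      rw [hb.mku, map_uq hcov]; decide +kernel
    rw [hn27] at q2 q4
    omega
  -- the negated part
  have hm := hT.invol e hb.ee he
  have hkeep : ∀ (s : k) (g : G), Keeps (⊤ ⊓ eigenspace (ρ e) s) (ρ g) := fun s g =>
    keeps_of_comm (fun v _ => Submodule.mem_top) (by rw [← map_mul, ← map_mul, Subgroup.mem_center_iff.1 hb.cen g])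
  set P := pos ⊤ (ρ e) with hP
  set W := neg ⊤ (ρ e) with hW
  have hWk : ∀ g, Keeps W (ρ g) := hkeep (-1)
  have hPk : ∀ g, Keeps P (ρ g) := hkeep 1
  have hWn : ∀ v ∈ W, ρ e v = -v := fun v hv => (mem_neg.1 hv).2
  have hPf : ∀ v ∈ P, ρ e v = v := fun v hv => (mem_pos.1 hv).2
  obtain ⟨i, hi⟩ := IsAlgClosed.exists_eq_mul_self (-1 : k)
  have hi' : i * i = -1 := hi.symm
  have hsqW : ∀ j r, ∀ v ∈ W, ρ (u j r) (ρ (u j r) v) = -v := fun j r v hv => by
    rw [← Twelve.rho_apply, hb.sq, hWn v hv]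
  have hantiW : ∀ j, ∀ v ∈ W, ρ (u j 0) (ρ (u j 1) v) = -ρ (u j 1) (ρ (u j 0) v) := fun j v hv => by
    rw [← Twelve.rho_apply, hb.pair, Twelve.rho_apply, Twelve.rho_apply, hWn _ (hWk _ _ (hWk _ v hv))]
  have hcomR : ∀ i j, i ≠ j → ∀ r s, ρ (u i r) * ρ (u j s) = ρ (u j s) * ρ (u i r) := fun i j h r s => by
    rw [← map_mul, hb.comm i j h, map_mul]
  set W1 := part W (ρ (u 0 0)) i with hW1
  set W2 := part W1 (ρ (u 1 0)) i with hW2
  set W3 := part W2 (ρ (u 2 0)) i with hW3
  have hW1W : ∀ v ∈ W1, v ∈ W := fun v hv => (Submodule.mem_inf.1 hv).1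
  have hW2W : ∀ v ∈ W2, v ∈ W := fun v hv => hW1W v (Submodule.mem_inf.1 hv).1
  have k1 : ∀ j r, j ≠ 0 → Keeps W1 (ρ (u j r)) := fun j r hj => keeps_of_comm (hWk _) (hcomR 0 j (Ne.symm hj) 0 r)
  have k2 : ∀ r, Keeps W2 (ρ (u 2 r)) := fun r => keeps_of_comm (k1 2 r (by decide)) (hcomR 1 2 (by decide) 0 r)
  have d0 := (halve h2 hi' (hsqW 0 0) (hsqW 0 1) (hantiW 0) (hWk _) (hWk _)).1
  have d1 := (halve h2 hi' (fun v hv => hsqW 1 0 v (hW1W v hv)) (fun v hv => hsqW 1 1 v (hW1W v hv))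
    (fun v hv => hantiW 1 v (hW1W v hv)) (k1 1 0 (by decide)) (k1 1 1 (by decide))).1
  have d2 := (halve h2 hi' (fun v hv => hsqW 2 0 v (hW2W v hv)) (fun v hv => hsqW 2 1 v (hW2W v hv))
    (fun v hv => hantiW 2 v (hW2W v hv)) (k2 0) (k2 1)).1
  rw [← hW1] at d0
  rw [← hW2] at d1
  rw [← hW3] at d2
  have hW16 : finrank k ↥W = 16 := by
    rcases hm with h | h <;> rw [mneg, ← hW] at h <;> omega
  have hW3d : finrank k ↥W3 = 2 := by omega
  have hPd : finrank k ↥P = 11 := by
    have h := split h2 (show ρ e * ρ e = 1 by rw [← map_mul, hb.ee, map_one]) (U := (⊤ : Submodule k (ι → k)))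
      (fun v _ => Submodule.mem_top)
    rw [finrank_top, hn27, mneg, ← hW, ← hP, hW16] at h
    omega
  -- the action on the fixed part
  let σ := resHom ρ P hPk
  have hσe : σ e = 1 := LinearMap.ext fun v => Subtype.ext (hPf v v.2)
  obtain ⟨a, b, c, f1, f2, f3, f4, ha, hbv, q1, q2, q3, q4, hc11, F, hF, hFfix⟩ := hb.tally hσe h2
  rw [hPd] at q1 q2 q3 q4 hc11
  set X := u 0 0 * u 1 0 with hX
  have hXsq : X * X = 1 := hb.sq_pair hσe (by decide) 0 0
  have hbb : b = 4 ∨ b = 8 := by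
    have h16 := hT.invol X hXsq hX1
    have hs := mneg_split h2 (show ρ e * ρ e = 1 by rw [← map_mul, hb.ee, map_one]) (U := (⊤ : Submodule k (ι → k)))
      (fun v _ => Submodule.mem_top) (show ρ e * ρ X = ρ X * ρ e by
        rw [← map_mul, ← map_mul, Subgroup.mem_center_iff.1 hb.cen X])
    rw [← hP, ← hW, ← mneg_res ρ P hPk X, hbv] at hs
    have hWX : 2 * mneg W (ρ X) = finrank k ↥W := by
      have hanti : ∀ v ∈ W, ρ X (ρ (u 0 1) v) = -ρ (u 0 1) (ρ X v) := fun v hv => by
        rw [hX, Twelve.rho_apply, ← Twelve.rho_apply (u 1 0), hb.comm 1 0 (by decide), Twelve.rho_apply,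
          hantiW 0 _ (hWk _ v hv), ← Twelve.rho_apply (u 0 0) (u 1 0)]
      have hsp := split h2 (show ρ X * ρ X = 1 by rw [← map_mul, hXsq, map_one]) (hWk X)
      have hmap : ∀ s : k, ∀ v ∈ W ⊓ eigenspace (ρ X) s, ρ (u 0 1) v ∈ W ⊓ eigenspace (ρ X) (-s) := fun s v hv => by
        obtain ⟨hv1, hv2⟩ := Submodule.mem_inf.1 hv
        exact Submodule.mem_inf.2 ⟨hWk _ v hv1, mem_eigenspace_iff.2 (by
          rw [hanti v hv1, mem_eigenspace_iff.1 hv2, map_smul, neg_smul])⟩
      have hinj : ∀ s : k, Function.Injective ((ρ (u 0 1)).restrict (hmap s)) := fun s x y exy =>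
        Subtype.ext (by
          have := congrArg (fun z : ↥(W ⊓ eigenspace (ρ X) (-s)) => ρ (u 0 1) (z : ι → k)) exy
          simpa [hsqW 0 1 _ (Submodule.mem_inf.1 x.2).1, hsqW 0 1 _ (Submodule.mem_inf.1 y.2).1] using this)
      have l1 := LinearMap.finrank_le_finrank_of_injective (hinj 1)
      have l2 := LinearMap.finrank_le_finrank_of_injective (hinj (-1))
      rw [neg_neg] at l2
      simp only [mneg, neg, pos] at hsp l1 l2 ⊢
      omega
    rw [hW16] at hWX
    omega
  have hf3 : f3 = 2 ∧ b = 4 := by omega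
  -- an invariant form vanishing on the negated part
  let B := ρ (u 0 1 * u 1 1 * u 2 1)
  have hBW : Keeps W B := hWk _
  have hBB : ∀ v ∈ W, B (B v) = -v := fun v hv => by
    show ρ _ (ρ _ v) = _
    rw [← Twelve.rho_apply, show u 0 1 * u 1 1 * u 2 1 * (u 0 1 * u 1 1 * u 2 1) =
        u 0 1 * u 1 1 * (u 2 1 * u 0 1) * u 1 1 * u 2 1 by group, hb.comm 2 0 (by decide),
      show u 0 1 * u 1 1 * (u 0 1 * u 2 1) * u 1 1 * u 2 1 =
        u 0 1 * u 1 1 * u 0 1 * (u 2 1 * u 1 1) * u 2 1 by group, hb.comm 2 1 (by decide),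
      show u 0 1 * u 1 1 * u 0 1 * (u 1 1 * u 2 1) * u 2 1 =
        u 0 1 * u 1 1 * (u 0 1 * u 1 1) * (u 2 1 * u 2 1) by group,
      hb.sq_pair hσe (by decide), one_mul, hb.sq, hWn v hv]
  let bas := Module.finBasisOfFinrankEq k ↥W3 hW3d
  let Lw : ↥F →ₗ[k] k :=
    { toFun := fun x => QB ((x : ↥P) : ι → k) (bas 0 : ι → k) (B (bas 1 : ι → k))
      map_add' := fun x y => by simp only [Submodule.coe_add]; exact QB_add1 _ _ _ _
      map_smul' := fun s x => by simp only [Submodule.coe_smul, RingHom.id_apply, smul_eq_mul]; exact QB_smul1 _ _ _ _ }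
  obtain ⟨x, hx0, hxL⟩ : ∃ x : ↥F, x ≠ 0 ∧ Lw x = 0 := by
    have h := LinearMap.ker_ne_bot_of_finrank_lt (K := k) (V := ↥F) (V₂ := k) (f := Lw)
      (by rw [Module.finrank_self, hF]; omega)
    obtain ⟨x, hx, hx0⟩ := (Submodule.ne_bot_iff _).1 h
    exact ⟨x, hx0, hx⟩
  set v0 : ι → k := ((x : ↥P) : ι → k) with hv0
  have hfix : ∀ j r, ρ (u j r) v0 = v0 := fun j r => congrArg Subtype.val (hFfix j r x x.2)
  have hv00 : v0 ≠ 0 := fun h => hx0 (Subtype.ext (Subtype.ext h))
  let f := polar v0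
  have hf : ∀ j r, ∀ y z, f (ρ (u j r) y) (ρ (u j r) z) = f y z := fun j r y z => by
    show QB v0 _ _ = QB v0 y z
    conv_lhs => rw [← hfix j r]
    exact hT.inv _ _ _ _
  have hBfix : B v0 = v0 := by
    show ρ _ v0 = v0
    rw [Twelve.rho_apply, Twelve.rho_apply, hfix, hfix, hfix]
  have hW3W : ∀ v ∈ W3, v ∈ W := fun v hv => hW2W v (Submodule.mem_inf.1 hv).1
  have hskew : ∀ y ∈ W, ∀ z, f z (B y) = -f y (B z) := fun y hy z => by
    show QB v0 z (B y) = -QB v0 y (B z)
    rw [QB_swap' v0 z (B y)]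
    conv_lhs => rw [← hT.inv (u 0 1 * u 1 1 * u 2 1)]
    show QB (B v0) (B (B y)) (B z) = _
    rw [hBfix, hBB y hy, show -y = (-1 : k) • y by simp, QB_smul2]
    ring
  have h3zero : ∀ y ∈ W3, ∀ z ∈ W3, f y (B z) = 0 := by
    have key : ∀ p q : Fin 2, f (bas p : ι → k) (B (bas q : ι → k)) = 0 := by
      intro p q
      have hd : ∀ r : Fin 2, f (bas r : ι → k) (B (bas r : ι → k)) = 0 := fun r => by
        have h := hskew _ (hW3W _ (bas r).2) (bas r : ι → k)
        exact (mul_eq_zero.1 (show (2 : k) * f (bas r : ι → k) (B (bas r : ι → k)) = 0 by linear_combination h)).resolve_left h2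
      fin_cases p <;> fin_cases q
      · exact hd 0
      · exact hxL
      · have h := hskew _ (hW3W _ (bas 0).2) (bas 1 : ι → k)
        rw [show f (bas 0 : ι → k) (B (bas 1 : ι → k)) = 0 from hxL, neg_zero] at h
        exact h
      · exact hd 1
    intro y hy z hz
    have ey : y = ∑ p : Fin 2, (bas.repr ⟨y, hy⟩ p) • (bas p : ι → k) := by
      have := congrArg Subtype.val (bas.sum_repr ⟨y, hy⟩).symm
      simp only [Submodule.coe_sum, Submodule.coe_smul] at this
      exact this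
    have ez : z = ∑ p : Fin 2, (bas.repr ⟨z, hz⟩ p) • (bas p : ι → k) := by
      have := congrArg Subtype.val (bas.sum_repr ⟨z, hz⟩).symm
      simp only [Submodule.coe_sum, Submodule.coe_smul] at this
      exact this
    rw [ey, ez]
    simp [key, Fin.sum_univ_two]
  let g1 := f.compl₂ (ρ (u 0 1))
  let g2 := g1.compl₂ (ρ (u 1 1))
  have hg1 : ∀ j r, j ≠ 0 → ∀ y z, g1 (ρ (u j r) y) (ρ (u j r) z) = g1 y z := fun j r hj y z => by
    simp only [g1, LinearMap.compl₂_apply]
    rw [← Module.End.mul_apply, hcomR 0 j (Ne.symm hj) 1 r, Module.End.mul_apply, hf]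
  have hg2 : ∀ r y z, g2 (ρ (u 2 r) y) (ρ (u 2 r) z) = g2 y z := fun r y z => by
    simp only [g2, LinearMap.compl₂_apply]
    rw [← Module.End.mul_apply, hcomR 1 2 (by decide) 1 r, Module.End.mul_apply, hg1 2 r (by decide)]
  have z2 : ∀ y ∈ W2, ∀ z ∈ W2, g2 y z = 0 :=
    form_zero h2 hi' (fun v hv => hsqW 2 0 v (hW2W v hv)) (fun v hv => hsqW 2 1 v (hW2W v hv))
      (fun v hv => hantiW 2 v (hW2W v hv)) (k2 0) (k2 1) g2 (fun y _ z _ => hg2 0 y z) (fun y _ z _ => hg2 1 y z)
      (fun y hy z hz => by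
        simp only [g2, g1, LinearMap.compl₂_apply]
        rw [← Twelve.rho_apply (u 1 1), ← Twelve.rho_apply (u 0 1), ← mul_assoc]
        exact h3zero y hy z hz)
  have z1 : ∀ y ∈ W1, ∀ z ∈ W1, g1 y z = 0 :=
    form_zero h2 hi' (fun v hv => hsqW 1 0 v (hW1W v hv)) (fun v hv => hsqW 1 1 v (hW1W v hv))
      (fun v hv => hantiW 1 v (hW1W v hv)) (k1 1 0 (by decide)) (k1 1 1 (by decide)) g1
      (fun y _ z _ => hg1 1 0 (by decide) y z) (fun y _ z _ => hg1 1 1 (by decide) y z) z2
  have z0 : ∀ y ∈ W, ∀ z ∈ W, f y z = 0 :=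
    form_zero h2 hi' (hsqW 0 0) (hsqW 0 1) (hantiW 0) (hWk _) (hWk _) f
      (fun y _ z _ => hf 0 0 y z) (fun y _ z _ => hf 0 1 y z) z1
  -- the invariant subspace of such vectors
  let W0 : Submodule k ↥P :=
    { carrier := {v | ∀ y ∈ W, ∀ z ∈ W, QB (v : ι → k) y z = 0}
      zero_mem' := fun y _ z _ => by
        rw [show ((0 : ↥P) : ι → k) = (0 : k) • (0 : ι → k) by simp, QB_smul1, zero_mul]
      add_mem' := fun {v v'} hv hv' y hy z hz => by
        rw [Submodule.coe_add, QB_add1, hv y hy z hz, hv' y hy z hz, add_zero]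
      smul_mem' := fun s {v} hv y hy z hz => by
        rw [Submodule.coe_smul, QB_smul1, hv y hy z hz, mul_zero] }
  have hW0k : ∀ g, Keeps W0 (σ g) := fun g v hv y hy z hz => by
    have hy' : ρ g (ρ g⁻¹ y) = y := by rw [← Twelve.rho_apply, mul_inv_cancel, map_one]; rfl
    have hz' : ρ g (ρ g⁻¹ z) = z := by rw [← Twelve.rho_apply, mul_inv_cancel, map_one]; rfl
    show QB (ρ g (v : ι → k)) y z = 0
    rw [← hy', ← hz', hT.inv]
    exact hv _ (hWk _ y hy) _ (hWk _ z hz)
  have hxW0 : (x : ↥P) ∈ W0 := z0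
  have htop : W0 = ⊤ := by
    by_contra hne
    have hlt : finrank k ↥W0 ≤ 10 := by
      have := Submodule.finrank_lt hne
      rw [hPd] at this
      omega
    have hpos : 0 < finrank k ↥W0 := Module.finrank_pos_iff.2
      (Submodule.nontrivial_iff_ne_bot.2 (fun h => hv00 (by
        have hx' : (x : ↥P) ∈ (⊥ : Submodule k ↥P) := h ▸ hxW0
        rw [Submodule.mem_bot] at hx'
        rw [hv0, hx']; rfl)))
    have htrivW := small_trivial (k := k) (W := ↥W0) h2 hT.big.2 p hT.range hT.min (resHom σ W0 hW0k) hlt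
    let τ : G →* Module.End k (↥P ⧸ W0) :=
      { toFun := fun g => W0.mapQ W0 (σ g) (hW0k g)
        map_one' := Submodule.linearMap_qext _ (LinearMap.ext fun v => by simp)
        map_mul' := fun g h => Submodule.linearMap_qext _ (LinearMap.ext fun v => by simp; rfl) }
    have hq := small_trivial (k := k) (W := ↥P ⧸ W0) h2 hT.big.2 p hT.range hT.min τ (by
      have := Submodule.finrank_quotient_add_finrank W0
      rw [hPd] at this
      omega)
    have hdiff : ∀ g v, σ g v - v ∈ W0 := fun g v => by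
      have h := LinearMap.congr_fun (hq g) (Submodule.Quotient.mk v)
      exact (Submodule.Quotient.eq W0).1 h
    have hall : ∀ g v, σ g v = v := by
      intro g v
      let Fh : G →* Multiplicative ↥W0 :=
        { toFun := fun g => Multiplicative.ofAdd ⟨σ g v - v, hdiff g v⟩
          map_one' := by simp
          map_mul' := fun g h => by
            refine congrArg Multiplicative.ofAdd (Subtype.ext ?_)
            show σ (g * h) v - v = σ g v - v + (σ h v - v)
            have h1 : σ g (σ h v - v) = σ h v - v :=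
              congrArg Subtype.val (LinearMap.congr_fun (htrivW g) ⟨σ h v - v, hdiff h v⟩)
            rw [map_sub] at h1
            rw [map_mul, Module.End.mul_apply]
            linear_combination (norm := abel) h1 }
      have hk : Fh.ker = ⊤ := top_le_iff.1 ((perfect_of_min hT.range hT.min) ▸ ((Subgroup.commutator_le.2
        fun y _ z _ => by rw [MonoidHom.mem_ker, map_commutatorElement, commutatorElement_eq_one_iff_commute]
                          exact Commute.all _ _) : commutator G ≤ Fh.ker))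
      have h1 := MonoidHom.mem_ker.1 (hk ▸ Subgroup.mem_top g)
      have h3 : σ g v - v = 0 := congrArg (fun m => ((Multiplicative.toAdd m : ↥W0) : ↥P)) h1
      exact sub_eq_zero.1 h3
    have hz : b = 0 := by
      rw [← hbv]
      have : neg ⊤ (σ X) = ⊥ := by
        rw [Submodule.eq_bot_iff]
        intro v hv
        have h := (mem_neg.1 hv).2
        rw [hall] at h
        have h' : (2 : k) • v = 0 := by rw [two_smul]; nth_rewrite 2 [h]; simp
        exact (smul_eq_zero.1 h').resolve_left h2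
      rw [mneg, this, finrank_bot]
    omega
  -- a vector with vanishing polar
  obtain ⟨v, hvW, hv⟩ := (Submodule.ne_bot_iff W).1 (fun h => by rw [h, finrank_bot] at hW16; omega)
  have hall : ∀ y z, QB v y z = 0 := by
    have hPP : ∀ y ∈ P, ∀ z ∈ P, QB v y z = 0 := fun y hy z hz => by
      have h := hT.inv e v y z
      rw [hWn v hvW, hPf y hy, hPf z hz, show -v = (-1 : k) • v by simp, QB_smul1] at h
      exact (mul_eq_zero.1 (show (2 : k) * QB v y z = 0 by linear_combination -h)).resolve_left h2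
    have hWW : ∀ y ∈ W, ∀ z ∈ W, QB v y z = 0 := fun y hy z hz => by
      have h := hT.inv e v y z
      rw [hWn v hvW, hWn y hy, hWn z hz, show -v = (-1 : k) • v by simp, show -y = (-1 : k) • y by simp,
        show -z = (-1 : k) • z by simp, QB_smul1, QB_smul2, QB_smul3] at h
      exact (mul_eq_zero.1 (show (2 : k) * QB v y z = 0 by linear_combination -h)).resolve_left h2
    have hPW : ∀ y ∈ P, ∀ z ∈ W, QB v y z = 0 := fun y hy z hz => by
      have : (⟨y, hy⟩ : ↥P) ∈ W0 := htop ▸ Submodule.mem_top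
      rw [QB_swap]
      exact this v hvW z hz
    intro y z
    have hsplit : ∀ y, ∃ a ∈ P, ∃ b ∈ W, y = a + b := fun y => by
      have hee : ρ e (ρ e y) = y := by rw [← Twelve.rho_apply, hb.ee, map_one]; rfl
      refine ⟨(2 : k)⁻¹ • (y + ρ e y), mem_pos.2 ⟨Submodule.mem_top, ?_⟩,
        (2 : k)⁻¹ • (y - ρ e y), mem_neg.2 ⟨Submodule.mem_top, ?_⟩, ?_⟩
      · rw [map_smul, map_add, hee, add_comm]
      · rw [map_smul, map_sub, hee, ← smul_neg, neg_sub]
      · rw [← smul_add, show y + ρ e y + (y - ρ e y) = y + y by abel, ← two_smul k y, smul_smul,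
          inv_mul_cancel₀ h2, one_smul]
    obtain ⟨y1, hy1, y2, hy2, rfl⟩ := hsplit y
    obtain ⟨z1, hz1, z2, hz2, rfl⟩ := hsplit z
    rw [QB_add2, QB_add3, QB_add3, hPP y1 hy1 z1 hz1, hPW y1 hy1 z2 hz2, hWW y2 hy2 z2 hz2,
      QB_swap' v y2 z1, hPW z1 hz1 y2 hy2]
    simp
  have h17 := ker_polar hv ⊤ fun y _ z => hall y z
  rw [finrank_top, hn27] at h17
  omega

end CfsgLib.Chev.E6Alt
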