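/-
No section of the Chevalley group of type E6 in characteristic at least seven is alternating of degree twelve.
-/
import Cfsg.Agent.Lib.Chev.E6Alt.Twelve
import Cfsg.Agent.Lib.Chev.E6Alt.Invol
import Cfsg.Agent.Lib.Chev.AltSect.F4

set_option autoImplicit false
set_option maxRecDepth 100000
set_option maxHeartbeats 800000

namespace CfsgLib.Chev.E6Alt

open Cfsg.Lie Equiv CfsgLib.Chev CfsgLib.Chev.E6Form CfsgLib.Chev.AltSect
open CfsgLib.KnownB.ChevField (group_map_le)

universe u

/-- a section of the group moves to a larger finite field of the first universe -/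
theorem exists_small {F : Type u} [Field F] [Fintype F] (p : ℕ) [Fact p.Prime] [CharP F p] (d : ℕ) (hd : d ≠ 0)
    {A : Type*} [Group A] (H : Subgroup ↥(chevE6.group F)) (φ : ↥H →* A) (hφ : Function.Surjective φ) :
    ∃ (L : Type) (_ : Field L) (_ : Fintype L), CharP L p ∧ Fintype.card L = Fintype.card F ^ d ∧
      ∃ (H' : Subgroup ↥(chevE6.group L)) (φ' : ↥H' →* A), Function.Surjective φ' := by
  obtain ⟨L, hLf, hLt, ι₀, hL⟩ := F4.exists_split F d hd
  refine ⟨L, hLf, hLt, charP_of_injective_ringHom ι₀.injective p, hL, ?_⟩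
  let e : ↥(chevE6.group F) →* ↥(chevE6.group L) :=
    ((Matrix.GeneralLinearGroup.map ι₀).comp (chevE6.group F).subtype).codRestrict _
      fun x => group_map_le stdE6.good ι₀ ⟨x, x.2, rfl⟩
  have he : Function.Injective e := fun x y h => Subtype.ext (Units.ext (Matrix.ext fun i j =>
    ι₀.injective (congrArg (fun z : ↥(chevE6.group L) =>
      ((z : GL chevE6.Idx L) : Matrix chevE6.Idx chevE6.Idx L) i j) h)))
  exact section_map (e.comp H.subtype) (he.comp H.subtype_injective) φ hφ

/-- no section of degree twelve over a small field -/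
theorem not_twelve_small {L : Type} [Field L] [Fintype L] (p : ℕ) [Fact p.Prime] [CharP L p] (hp : 5 ≤ p)
    (H : Subgroup ↥(chevE6.group L)) (φ : ↥H →* alternatingGroup (Fin 12)) (hφ : Function.Surjective φ) :
    False := by
  classical
  have hcast : ∀ {K : Type} [Field K] [CharP K p] (n : ℕ), 1 ≤ n → n ≤ 3 → (n : K) ≠ 0 := by
    intro K _ _ n h1 h3 e
    have := Nat.le_of_dvd h1 ((CharP.cast_eq_zero_iff K p n).1 e)
    omega
  have h3 : 3 ≤ Fintype.card L := by
    obtain ⟨m, -, hm⟩ := FiniteField.card L p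
    rw [hm]
    have := Nat.le_self_pow m.ne_zero p
    omega
  obtain ⟨ψ, hs, -, -⟩ := exists_psi h3
  haveI : Finite (GL ι L) := inferInstance
  let X : Subgroup ↥(E6univ L) := H.comap ψ
  let φX : ↥X →* alternatingGroup (Fin 12) := φ.comp (ψ.subgroupComap H)
  have hX : Function.Surjective φX := fun a => by
    obtain ⟨⟨b, hb⟩, rfl⟩ := hφ a
    obtain ⟨c, rfl⟩ := hs b
    exact ⟨⟨c, hb⟩, rfl⟩
  let π₁ : ↥X →* Perm (Fin 12) := (alternatingGroup (Fin 12)).subtype.comp φX
  have hex : ∃ n, ∃ M : Subgroup ↥X, M.map π₁ = alternatingGroup (Fin 12) ∧ Nat.card ↥M = n := by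
    refine ⟨_, ⊤, ?_, rfl⟩
    rw [← MonoidHom.range_eq_map]
    exact le_antisymm (fun _ ⟨x, hx⟩ => hx ▸ (φX x).2) fun a ha => by
      obtain ⟨x, hx⟩ := hX ⟨a, ha⟩
      exact ⟨x, congrArg Subtype.val hx⟩
  obtain ⟨M, hM, hMn⟩ := Nat.find_spec hex
  let k := AlgebraicClosure L
  haveI : CharP k p := charP_of_injective_algebraMap (algebraMap L k).injective p
  have h2 : (2 : k) ≠ 0 := by exact_mod_cast hcast (K := k) 2 (by norm_num) (by norm_num)
  have h3k : (3 : k) ≠ 0 := by exact_mod_cast hcast (K := k) 3 (by norm_num) (by norm_num)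
  let θ : ↥M →* GL ι L := (E6univ L).subtype.comp (X.subtype.comp M.subtype)
  have hθ : Function.Injective θ :=
    (E6univ L).subtype_injective.comp (X.subtype_injective.comp M.subtype_injective)
  let ρ : ↥M →* Module.End k (ι → k) := opr.comp ((mE (algebraMap L k)).comp θ)
  have hρ : Function.Injective ρ := by
    have ho : Function.Injective (opr (F := k)) := fun a b e =>
      Units.ext (Matrix.toLinAlgEquiv'.injective e)
    exact ho.comp ((mE_inj _).comp hθ)
  have hmem : ∀ g, θ g ∈ E6univ L := fun g => ((g : ↥X) : ↥(E6univ L)).2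
  have hiso : ∀ g, Isom (mE (algebraMap L k) (θ g)) := fun g =>
    isom_of_mem (EG_isom (map_EG _ (E6univ_eq h3 ▸ hmem g)))
  refine Twelve.false p (G := ↥M) (ρ := ρ) (π₀ := π₁.comp M.subtype) ⟨hρ, ?_, ?_, ?_, ?_, h2, h3k⟩
  · rw [MonoidHom.range_comp, Subgroup.range_subtype, hM]
  · intro Y hY
    refine Subgroup.eq_top_of_card_eq Y (le_antisymm (Subgroup.card_le_card_group Y) ?_)
    rw [hMn]
    refine Nat.find_min' hex ⟨Y.map M.subtype, ?_, ?_⟩
    · rw [Subgroup.map_map]; exact hY
    · exact Subgroup.card_map_of_injective M.subtype_injective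
  · intro g u v w
    exact QB_isom (hiso g) u v w
  · intro g hg hg1
    have hsq : θ g * θ g = 1 := by rw [← map_mul, hg, map_one]
    rcases mneg_invol (k := k) h3 h2 h3k (hmem g) hsq with e | e
    · exfalso
      refine hg1 (hρ ?_)
      rw [map_one]
      have hgg : ρ g * ρ g = 1 := by rw [← map_mul, hg, map_one]
      have hs' := split h2 hgg (U := (⊤ : Submodule k (ι → k))) (fun v _ => Submodule.mem_top)
      have e0 : mneg ⊤ (ρ g) = 0 := e
      rw [e0, add_zero] at hs'
      have hpos := Submodule.eq_of_le_of_finrank_le (S₁ := pos ⊤ (ρ g)) le_top hs'.le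
      exact LinearMap.ext fun v => (mem_pos.1 (hpos.symm ▸ (Submodule.mem_top : v ∈ ⊤))).2
    · exact e

/-- **no section of degree twelve** -/
theorem not_twelve {F : Type u} [Field F] [Fintype F] (p : ℕ) [Fact p.Prime] [CharP F p] (hp : 5 ≤ p)
    (H : Subgroup ↥(chevE6.group F)) (φ : ↥H →* alternatingGroup (Fin 12)) (hφ : Function.Surjective φ) :
    False := by
  obtain ⟨L, _, _, _, -, H', φ', h'⟩ := exists_small p 1 one_ne_zero H φ hφ
  exact not_twelve_small p hp H' φ' h'

end CfsgLib.Chev.E6Alt
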