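/-
No section of the Chevalley group of type E6 outside characteristic eleven is alternating of degree thirteen.
-/
import Cfsg.Agent.Lib.Chev.E6Alt.Lines
import Cfsg.Agent.Lib.Chev.E6Alt.Main
import Cfsg.Agent.Lib.Chev.AltSect.Index
import Cfsg.Agent.Lib.Chev.Data.WeylCheckE6
import Cfsg.Agent.Lib.Chev.OrderTypes
import Mathlib.LinearAlgebra.Matrix.Charpoly.Coeff
import Mathlib.RingTheory.RootsOfUnity.PrimitiveRoots

set_option autoImplicit false
set_option maxRecDepth 100000
set_option maxHeartbeats 800000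

namespace CfsgLib.Chev.E6Alt

open Cfsg.Lie Equiv CfsgLib.Chev CfsgLib.Chev.E6Form CfsgLib.Chev.AltSect

universe u

/-! ### the centre consists of cube roots of unity -/

/-- every coordinate after the first is joined to an earlier one by a root element -/
noncomputable def edgeOK : Bool := (List.range 27).all fun i => Nat.beq i 0 || (List.range 72).any fun r =>
  (entN r).any fun e => (intoN r e.2.1 == [e]) && (e.2.2 == 1 || e.2.2 == -1) &&
    ((Nat.beq e.2.1 i && Nat.ble (e.1 + 1) i) || (Nat.beq e.1 i && Nat.ble (e.2.1 + 1) i))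

theorem edge_check : edgeOK = true := by decide +kernel

section diag

variable {F : Type} [Field F]

theorem diag_apply {d : GL ι F} {c : ℕ → F} (hc : ∀ j < 27, ap d (bs F (cd j)) = c j • bs F (cd j))
    (v : ι → F) {i : ℕ} (hi : i < 27) : ap d v (cd i) = c i * v (cd i) := by
  have hcol : ∀ j < 27, (d : Matrix ι ι F) (cd i) (cd j) = if i = j then c i else 0 := fun j hj => by
    have h := congrFun (hc j hj) (cd i)
    simp only [ap, Matrix.mulVec_single_one, Matrix.col_apply, Pi.smul_apply, smul_eq_mul, bs_cd hi hj] at h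
    rw [h]
    by_cases e : i = j
    · subst e; simp
    · simp [e]
  show ∑ x, (d : Matrix ι ι F) (cd i) x * v x = _
  rw [Finset.sum_eq_single (cd i)]
  · rw [hcol i hi, if_pos rfl]
  · intro x _ hx
    obtain ⟨j, hj, rfl⟩ := cd_surj x
    rw [hcol j hj, if_neg (fun e => hx (by rw [e])), zero_mul]
  · exact fun h => absurd (Finset.mem_univ _) h

theorem IsDiag'.exists_val {z : GL ι F} (h : IsDiag' z) :
    ∃ c : ℕ → F, ∀ j < 27, ap z (bs F (cd j)) = c j • bs F (cd j) := by
  classical
  choose c hc using h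
  exact ⟨fun j => if hj : j < 27 then c j hj else 1, fun j hj => by simp only [dif_pos hj]; exact hc j hj⟩

/-- the centre has exponent three -/
theorem center_cube {t : Fˣ} (ht : t ≠ 1) (ht2 : t * t ≠ 1) {z : ↥(E6univ F)}
    (hz : z ∈ Subgroup.center ↥(E6univ F)) : z * z * z = 1 := by
  obtain ⟨c, hc⟩ := (center_diag ht ht2 hz).exists_val
  have hE : ∀ r < 72, ∀ e ∈ entN r, intoN r e.2.1 = [e] → (e.2.2 = 1 ∨ e.2.2 = -1) → c e.2.1 = c e.1 := by
    intro r hr e he hint hs
    obtain ⟨ha, hb, hne⟩ := ent_facts he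
    have hba : e.2.1 ≠ e.1 := hne e he
    let X : ↥(E6univ F) := ⟨xE r 1, EG_isom (xE_mem r hr 1)⟩
    have h := congrArg (fun y : ↥(E6univ F) => ap (y : GL ι F) (bs F (cd e.1)) (cd e.2.1))
      (Subgroup.mem_center_iff.1 hz X)
    simp only [X, Subgroup.coe_mul, ap_mul] at h
    rw [diag_apply hc _ hb, hc _ ha, ap_smul', Pi.smul_apply, smul_eq_mul] at h
    have hx : ap (xE r (1 : F)) (bs F (cd e.1)) (cd e.2.1) ≠ 0 := by
      rw [xE_apply, dd, into_cd r hb, hint, bs_cd hb ha, if_neg hba]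
      simp only [List.map_cons, List.map_nil, List.sum_cons, List.sum_nil, bs_cd ha ha, if_pos, mul_one,
        zero_add, add_zero, one_mul]
      rcases hs with h' | h' <;> simp [h']
    exact (mul_right_cancel₀ hx h).symm
  have hall : ∀ i, i < 27 → c i = c 0 := by
    intro i
    induction i using Nat.strong_induction_on with
    | _ i ih =>
      intro hi
      rcases Nat.eq_zero_or_pos i with rfl | hpos
      · rfl
      have h := edge_check
      simp only [edgeOK, List.all_eq_true, List.mem_range] at h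
      have h' := h i hi
      simp only [Bool.or_eq_true, List.any_eq_true, Bool.and_eq_true, List.mem_range, beq_iff_eq,
        Nat.beq_eq_true_eq, Nat.ble_eq] at h'
      rcases h' with h' | ⟨r, hr, e, he, ⟨h1, h2⟩, h3⟩
      · exact absurd (Nat.eq_of_beq_eq_true h') hpos.ne'
      have heq := hE r hr e he h1 h2
      rcases h3 with ⟨e1, e2⟩ | ⟨e1, e2⟩
      · rw [← Nat.eq_of_beq_eq_true e1, heq]
        exact ih _ (by omega) (by omega)
      · rw [← Nat.eq_of_beq_eq_true e1, ← heq]
        exact ih _ (by omega) (by omega)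
  have hsc : ∀ v, ap (z : GL ι F) v = c 0 • v := fun v => vec_ext fun i hi => by
    rw [diag_apply hc v hi, hall i hi, Pi.smul_apply, smul_eq_mul]
  obtain ⟨m, hm⟩ : ∃ m, m ∈ monN := ⟨_, List.mem_cons_self⟩
  have hB := QB_isom (isom_of_mem z.2) (bs F (cd m.1)) (bs F (cd m.2.1)) (bs F (cd m.2.2.1))
  rw [hsc, hsc, hsc, QB_smul1, QB_smul2, QB_smul3] at hB
  have h3 : c 0 * c 0 * c 0 = 1 := mul_right_cancel₀ (QB_monN (F := F) hm) (by rw [one_mul]; linear_combination hB)
  refine Subtype.ext (gl_ext fun v => ?_)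
  rw [Subgroup.coe_mul, Subgroup.coe_mul, Subgroup.coe_one, ap_mul, ap_mul, ap_one, hsc, hsc, hsc, smul_smul,
    smul_smul, h3, one_smul]

/-- no element of order eleven is conjugate to its square by way of the monomial weights -/
theorem no_eleven {Z M : GL ι F} {ω : F} (hω : IsPrimitiveRoot ω 11) (hd : IsDiag' Z) (hiso : Isom Z)
    (h11 : Z ^ 11 = 1) (hne : Z ≠ 1) (hconj : M * Z * M⁻¹ = Z * Z) : False := by
  classical
  obtain ⟨c, hc⟩ := hd.exists_val
  have hpow : ∀ n : ℕ, ∀ i < 27, ap (Z ^ n) (bs F (cd i)) = c i ^ n • bs F (cd i) := by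
    intro n
    induction n with
    | zero => intro i _; rw [pow_zero, ap_one, pow_zero, one_smul]
    | succ n ih => intro i hi; rw [pow_succ', ap_mul, ih i hi, ap_smul', hc i hi, smul_smul, ← pow_succ]
  have hc11 : ∀ i < 27, c i ^ 11 = 1 := fun i hi => by
    have h := congrFun (hpow 11 i hi) (cd i)
    rw [h11, ap_one, Pi.smul_apply, bs_cd hi hi, if_pos rfl, smul_eq_mul, mul_one] at h
    exact h.symm
  let P : ZMod 11 → F := fun a => ω ^ a.val
  have hP : ∀ a b, P (a + b) = P a * P b := fun a b => by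
    simp only [P]
    rw [ZMod.val_add, ← pow_add, ← pow_eq_pow_mod _ hω.pow_eq_one]
  have hPi : Function.Injective P := fun a b h =>
    ZMod.val_injective 11 (hω.pow_inj (ZMod.val_lt a) (ZMod.val_lt b) h)
  have hex : ∀ i : Fin 27, ∃ a, P a = c i := fun i => by
    obtain ⟨j, hj, e⟩ := hω.eq_pow_of_pow_eq_one (hc11 i i.2)
    exact ⟨(j : ZMod 11), by simp only [P]; rw [ZMod.val_natCast_of_lt hj, e]⟩
  choose e he using hex
  let E : Fin 27 ≃ ι := Equiv.ofBijective (fun i => cd i)
    ⟨fun a b h => Fin.ext (cd_inj a.2 b.2 h), fun x => by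
      obtain ⟨j, hj, rfl⟩ := cd_surj x
      exact ⟨⟨j, hj⟩, rfl⟩⟩
  refine no_balanced (e := e) ?_ ?_ ?_
  · intro m hm a b x ha hb hx
    obtain ⟨b1, b2, b3⟩ := monN_lt hm
    have hB := QB_isom hiso (bs F (cd m.1)) (bs F (cd m.2.1)) (bs F (cd m.2.2.1))
    rw [hc _ b1, hc _ b2, hc _ b3, QB_smul1, QB_smul2, QB_smul3] at hB
    have h3 : c m.1 * c m.2.1 * c m.2.2.1 = 1 :=
      mul_right_cancel₀ (QB_monN (F := F) hm) (by rw [one_mul]; linear_combination hB)
    refine hPi ?_
    rw [hP, hP, he, he, he, ha, hb, hx, h3]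
    simp [P]
  · let d : ι → F := fun x => (Z : Matrix ι ι F) x x
    have hdc : ∀ i : Fin 27, d (E i) = c i := fun i => by
      have h := diag_apply hc (bs F (cd i)) i.2
      simp only [ap, Matrix.mulVec_single_one, Matrix.col_apply, bs_cd i.2 i.2, if_pos, mul_one] at h
      exact h
    have hZ : (Z : Matrix ι ι F) = Matrix.diagonal d := by
      refine Matrix.ext fun x y => ?_
      obtain ⟨i, rfl⟩ := E.surjective x
      obtain ⟨j, rfl⟩ := E.surjective y
      rw [Matrix.diagonal_apply]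
      by_cases h : E i = E j
      · rw [if_pos h, h]
      · rw [if_neg h]
        have h' := diag_apply hc (bs F (cd j)) i.2
        simp only [ap, Matrix.mulVec_single_one, Matrix.col_apply] at h'
        refine h'.trans ?_
        rw [bs_cd i.2 j.2, if_neg (fun hij => h (congrArg E (Fin.ext hij))), mul_zero]
    have hroots : ∀ f : ι → F, (Matrix.diagonal f).charpoly.roots = Finset.univ.val.map f := fun f => by
      rw [Matrix.charpoly_diagonal, Finset.prod_eq_multiset_prod,
        show (Finset.univ.val.map fun i => Polynomial.X - Polynomial.C (f i)) =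
          (Finset.univ.val.map f).map (fun a => Polynomial.X - Polynomial.C a) from (Multiset.map_map _ _ _).symm,
        Polynomial.roots_multiset_prod_X_sub_C]
    have hmat := congrArg (fun g : GL ι F => (g : Matrix ι ι F).charpoly.roots) hconj
    simp only [Units.val_mul, Matrix.coe_units_inv, Matrix.charpoly_units_conj] at hmat
    rw [hZ, Matrix.diagonal_mul_diagonal, hroots, hroots] at hmat
    intro a
    have hcnt := congrArg (Multiset.count (P (2 * a))) hmat
    rw [Multiset.count_map, Multiset.count_map] at hcnt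
    change (Finset.univ.filter fun x => P (2 * a) = d x).card =
      (Finset.univ.filter fun x => P (2 * a) = d x * d x).card at hcnt
    have tr : ∀ (p : ι → Prop) [DecidablePred p] (q : Fin 27 → Prop) [DecidablePred q], (∀ i, q i ↔ p (E i)) →
        (Finset.univ.filter q).card = (Finset.univ.filter p).card := fun p _ q _ h =>
      Finset.card_equiv E (by simp [h])
    rw [fib, fib, tr (fun x => P (2 * a) = d x) (fun i => e i = 2 * a) (fun i => by
        rw [hdc, ← he]; exact ⟨fun h => by rw [h], fun h => (hPi h).symm⟩),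
      hcnt]
    refine tr _ _ fun i => ?_
    rw [hdc, ← he, ← hP, hPi.eq_iff]
    have key : ∀ x a : ZMod 11, x = a ↔ 2 * a = x + x := by decide +kernel
    exact key _ _
  · by_contra hall
    push Not at hall
    refine hne (gl_ext fun v => vec_ext fun i hi => ?_)
    rw [diag_apply hc v hi, ap_one, show c i = 1 from by rw [← he ⟨i, hi⟩, hall]; simp [P], one_mul]

end diag

/-! ### the element -/

/-- an eleven cycle among thirteen points -/
def c11 : Perm (Fin 13) where
  toFun i := ![1, 2, 3, 4, 5, 6, 7, 8, 9, 10, 0, 11, 12] i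
  invFun i := ![10, 0, 1, 2, 3, 4, 5, 6, 7, 8, 9, 11, 12] i
  left_inv := by decide
  right_inv := by decide

/-- doubling modulo eleven and a transposition -/
def d11 : Perm (Fin 13) where
  toFun i := ![0, 2, 4, 6, 8, 10, 1, 3, 5, 7, 9, 12, 11] i
  invFun i := ![0, 6, 1, 7, 2, 8, 3, 9, 4, 10, 5, 12, 11] i
  left_inv := by decide
  right_inv := by decide

/-- no section of degree thirteen over a field split for eleven -/
theorem not_thirteen_small {L : Type} [Field L] [Fintype L] (hQ : Fintype.card L % 11 = 1)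
    (H : Subgroup ↥(chevE6.group L)) (φ : ↥H →* alternatingGroup (Fin 13)) (hφ : Function.Surjective φ) :
    False := by
  classical
  haveI : Fact (Nat.Prime 11) := ⟨by norm_num⟩
  have g := stdE6.good
  haveI : Finite (GL chevE6.Idx L) := finite_GL
  have h3 : 3 ≤ Fintype.card L := by
    have := Fintype.one_lt_card (α := L)
    omega
  have hidx : ¬ 11 ∣ ((chevE6.diagonalSubgroup L).subgroupOf (chevE6.group L)).index :=
    index_split stdE6 weylOKE6 smithE6 poinE6 (by show ∀ i : Fin 6, _; decide +kernel) (by norm_num) hQ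
  set x : alternatingGroup (Fin 13) := ⟨c11, Perm.mem_alternatingGroup.2 (by decide +kernel)⟩ with hxd
  set y : alternatingGroup (Fin 13) := ⟨d11, Perm.mem_alternatingGroup.2 (by decide +kernel)⟩ with hyd
  have ox : orderOf x = 11 := orderOf_eq_prime (by decide +kernel) (by decide +kernel)
  have hxy : y * x * y⁻¹ = x ^ 2 := by decide +kernel
  have hy' : y ∈ Subgroup.normalizer (Subgroup.zpowers x : Set (alternatingGroup (Fin 13))) := by
    have h1 : (Subgroup.zpowers x).map (MulAut.conj y).toMonoidHom ≤ Subgroup.zpowers x := by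
      rw [MonoidHom.map_zpowers, Subgroup.zpowers_le]
      exact ⟨2, by simpa [MulAut.conj_apply] using hxy.symm⟩
    have h2 : (Subgroup.zpowers x).map (MulAut.conj y).toMonoidHom = Subgroup.zpowers x :=
      Subgroup.eq_of_le_of_card_ge h1 (Subgroup.card_map_of_injective (MulAut.conj y).injective).ge
    refine Subgroup.mem_normalizer_iff.2 fun a => ⟨fun ha => h1 ⟨a, ha, by simp⟩, fun ha => ?_⟩
    rw [← h2] at ha
    obtain ⟨b, hb, e⟩ := ha
    simp only [MulEquiv.coe_toMonoidHom, MulAut.conj_apply, mul_left_inj, mul_right_inj] at e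
    exact e ▸ hb
  obtain ⟨P, hP, hPm, hPn⟩ := lift_normalizer φ (Subgroup.zpowers x) (fun a _ => hφ a)
    (IsPGroup.of_card (n := 1) (by rw [Nat.card_zpowers, ox, pow_one]))
  obtain ⟨y0, hy0⟩ := hφ y
  obtain ⟨m, hm, hmy⟩ := hPn y0 (hy0.symm ▸ hy')
  rw [hy0] at hmy
  obtain ⟨u, hu⟩ := conj_sub _ hidx (P.map H.subtype) (hP.map _)
  have hdiag : ∀ a ∈ P, ((u * (a : ↥(chevE6.group L)) * u⁻¹ : ↥(chevE6.group L)) : GL chevE6.Idx L) ∈
      chevE6.diagonalSubgroup L := fun a ha => hu _ ⟨a, ha, rfl⟩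
  have hcomm : ∀ a ∈ P, ∀ b ∈ P, a * b = b * a := fun a ha b hb => by
    refine H.subtype_injective ?_
    have h := (diag_comm g (hdiag a ha) (hdiag b hb)).eq
    rw [← Subgroup.coe_mul, ← Subgroup.coe_mul, conj_mul, conj_mul] at h
    exact (MulAut.conj u).injective (Subtype.ext h)
  letI : CommGroup ↥P :=
    { (inferInstance : Group ↥P) with mul_comm := fun a b => Subtype.ext (hcomm a a.2 b b.2) }
  let cm : ↥P →* ↥P := ((MulAut.conj m).toMonoidHom.comp P.subtype).codRestrict P
    fun a => (Subgroup.mem_normalizer_iff.1 hm a).1 a.2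
  let f : ↥P →* ↥P := cm * (powMonoidHom 2)⁻¹
  have hf : ∀ a : ↥P, ((f a : ↥P) : ↥H) = m * a * m⁻¹ * ((a : ↥H) ^ 2)⁻¹ := fun a => rfl
  obtain ⟨a0, ha0, ea0⟩ : x ∈ P.map φ := hPm ▸ Subgroup.mem_zpowers x
  have hnot : ¬ Function.Surjective f := fun hs => by
    obtain ⟨b, hb⟩ := hs ⟨a0, ha0⟩
    have hbx : φ (b : ↥H) ∈ Subgroup.zpowers x := hPm ▸ ⟨_, b.2, rfl⟩
    obtain ⟨j, hj⟩ := hbx
    have h := congrArg φ ((hf b).symm.trans (congrArg Subtype.val hb))
    rw [map_mul, map_mul, map_mul, map_inv, map_inv, map_pow, ← hj, hmy, ← conj_zpow, hxy] at h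
    rw [← zpow_natCast x 2, ← _root_.zpow_mul, ← zpow_natCast (x ^ j) 2, ← _root_.zpow_mul, mul_comm j,
      mul_inv_cancel, ea0] at h
    rw [← h, orderOf_one] at ox
    norm_num at ox
  obtain ⟨b, hb1, hfb⟩ : ∃ b : ↥P, b ≠ 1 ∧ f b = 1 := by
    by_contra hc
    push Not at hc
    refine hnot (Finite.injective_iff_surjective.1 ((injective_iff_map_eq_one f).2 fun b hb => ?_))
    by_contra hb1
    exact hc b hb1 hb
  have hmb : m * (b : ↥H) * m⁻¹ = (b : ↥H) ^ 2 := by
    have h := (hf b).symm.trans (congrArg Subtype.val hfb)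
    exact mul_inv_eq_one.1 h
  obtain ⟨k, hk⟩ := IsPGroup.iff_orderOf.1 hP b
  rcases k with _ | k
  · rw [pow_zero, orderOf_eq_one_iff] at hk
    exact hb1 hk
  set a : ↥H := ((b ^ 11 ^ k : ↥P) : ↥H) with had
  have hak : a = (b : ↥H) ^ 11 ^ k := rfl
  have ha1 : a ≠ 1 := fun e => by
    have h := orderOf_dvd_of_pow_eq_one (show b ^ 11 ^ k = 1 from Subtype.ext e)
    rw [hk] at h
    have := Nat.le_of_dvd (by positivity) h
    rw [pow_succ] at this
    have : 0 < 11 ^ k := by positivity
    omega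
  have ha11 : a ^ 11 = 1 := by
    rw [hak, ← pow_mul, ← pow_succ]
    exact congrArg Subtype.val (hk ▸ pow_orderOf_eq_one b)
  have hma : m * a * m⁻¹ = a * a := by
    rw [hak, ← conj_pow, hmb, ← pow_mul, mul_comm, pow_mul, pow_two]
  -- in the universal group
  set A : ↥(chevE6.group L) := u * (a : ↥(chevE6.group L)) * u⁻¹ with hA
  set B : ↥(chevE6.group L) := u * (m : ↥(chevE6.group L)) * u⁻¹ with hB
  have hAd : (A : GL chevE6.Idx L) ∈ chevE6.diagonalSubgroup L := hdiag _ (pow_mem (show (b : ↥H) ∈ P from b.2) _)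
  have hBA : B * A * B⁻¹ = A * A := by
    have h := congrArg (fun z : ↥H => u * (z : ↥(chevE6.group L)) * u⁻¹) hma
    simp only [Subgroup.coe_mul, Subgroup.coe_inv] at h
    rw [hA, hB]
    refine Eq.trans ?_ (h.trans ?_) <;> group
  have hA11 : A ^ 11 = 1 := by
    rw [hA, conj_pow, ← Subgroup.coe_pow, ha11, Subgroup.coe_one, mul_one, mul_inv_cancel]
  have hA1 : A ≠ 1 := fun e => ha1 (Subtype.ext (by
    rw [hA] at e
    simpa using conj_eq_one_iff.1 e))
  obtain ⟨ψ, hs, hker, hgen⟩ := exists_psi h3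
  obtain ⟨ZA, hZA⟩ := hs A
  obtain ⟨ZB, hZB⟩ := hs B
  obtain ⟨t, ht⟩ := exists_prime_orderOf_dvd_card' (G := Lˣ) 11 (by
    rw [Nat.card_units, Nat.card_eq_fintype_card, Nat.dvd_iff_mod_eq_zero]
    omega)
  have ht1 : t ≠ 1 := fun e => by rw [e, orderOf_one] at ht; norm_num at ht
  have ht2 : t * t ≠ 1 := fun e => by
    have h := orderOf_dvd_of_pow_eq_one (show t ^ 2 = 1 by rw [pow_two]; exact e)
    rw [ht] at h
    norm_num at h
  have hω : IsPrimitiveRoot (t : L) 11 := by
    have h := (IsPrimitiveRoot.orderOf t).map_of_injective (f := Units.coeHom L) Units.val_injective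
    rwa [ht] at h
  have hd : IsDiag' ((ZA : ↥(E6univ L)) : GL ι L) := diag_of_torus hker hgen ht1 ht2 (z := ZA) (hZA ▸ hAd)
  set Z : ↥(E6univ L) := ZA ^ 12 with hZ
  have hdp : ∀ n : ℕ, IsDiag' (((ZA ^ n : ↥(E6univ L))) : GL ι L) := by
    intro n
    induction n with
    | zero => rw [pow_zero, Subgroup.coe_one]; exact isDiag_one
    | succ n ih => rw [pow_succ, Subgroup.coe_mul]; exact ih.mul hd
  have hcube := @center_cube L _ t ht1 ht2
  have hc1 : ZA ^ 11 ∈ Subgroup.center ↥(E6univ L) := hker _ (by rw [map_pow, hZA, hA11])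
  have hZ11 : Z ^ 11 = 1 := by
    rw [hZ, ← pow_mul, mul_comm, pow_mul]
    have h := hcube hc1
    rw [show 12 = 3 * 4 by norm_num, pow_mul, pow_three, ← mul_assoc, h, one_pow]
  set c := ZB * ZA * ZB⁻¹ * (ZA * ZA)⁻¹ with hcd
  have hc : c ∈ Subgroup.center ↥(E6univ L) := hker _ (by
    rw [hcd, map_mul, map_mul, map_mul, map_inv, map_inv, map_mul, hZA, hZB, hBA, mul_inv_cancel])
  have hconj : ZB * Z * ZB⁻¹ = Z * Z := by
    have e : ZB * ZA * ZB⁻¹ = c * (ZA * ZA) := by rw [hcd, inv_mul_cancel_right]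
    rw [hZ, ← conj_pow, e, (show Commute c (ZA * ZA) from (Subgroup.mem_center_iff.1 hc _).symm).mul_pow,
      show c ^ 12 = (c * c * c) ^ 4 by rw [show c * c * c = c ^ 3 by rw [pow_three, mul_assoc], ← pow_mul],
      hcube hc, one_pow, one_mul, ← pow_add, ← two_mul, pow_mul, pow_two]
  have hne : Z ≠ 1 := fun e => hA1 (by
    have h := congrArg ψ e
    rw [hZ, map_pow, hZA, map_one, show 12 = 11 + 1 by norm_num, pow_succ, hA11, one_mul] at h
    exact h)
  exact no_eleven (Z := (Z : GL ι L)) (M := (ZB : GL ι L)) hω (hdp 12) (isom_of_mem Z.2)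
    (by rw [← Subgroup.coe_pow, hZ11, Subgroup.coe_one]) (fun e => hne (Subtype.ext e))
    (by rw [← Subgroup.coe_inv, ← Subgroup.coe_mul, ← Subgroup.coe_mul, hconj, Subgroup.coe_mul])

/-- **no section of degree thirteen** -/
theorem not_thirteen {F : Type u} [Field F] [Fintype F] (p : ℕ) [Fact p.Prime] [CharP F p] (h11 : p ≠ 11)
    (H : Subgroup ↥(chevE6.group F)) (φ : ↥H →* alternatingGroup (Fin 13)) (hφ : Function.Surjective φ) :
    False := by
  haveI : Fact (Nat.Prime 11) := ⟨by norm_num⟩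
  obtain ⟨L, _, _, _, hL, H', φ', h'⟩ := exists_small p 10 (by norm_num) H φ hφ
  refine not_thirteen_small ?_ H' φ' h'
  obtain ⟨n, hp, hn⟩ := FiniteField.card F p
  have hnd : ¬ 11 ∣ Fintype.card F := fun h =>
    h11 ((Nat.prime_dvd_prime_iff_eq (by norm_num) hp).1 ((by norm_num : Nat.Prime 11).dvd_of_dvd_pow (hn ▸ h))).symm
  rw [hL, Nat.pow_mod]
  rcases (show Fintype.card F % 11 = 1 ∨ Fintype.card F % 11 = 2 ∨ Fintype.card F % 11 = 3 ∨
      Fintype.card F % 11 = 4 ∨ Fintype.card F % 11 = 5 ∨ Fintype.card F % 11 = 6 ∨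
      Fintype.card F % 11 = 7 ∨ Fintype.card F % 11 = 8 ∨ Fintype.card F % 11 = 9 ∨
      Fintype.card F % 11 = 10 by omega) with e | e | e | e | e | e | e | e | e | e <;>
    rw [e] <;> norm_num

end CfsgLib.Chev.E6Alt
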