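/-
Alternating sections of the groups of type E6 and twisted E6.
-/
import Cfsg.Agent.Lib.Chev.E6Alt.Thirteen
import Cfsg.Agent.Lib.Chev.Twist.Gen
import Cfsg.Prelude.Def_LieTwisted

set_option autoImplicit false
set_option maxRecDepth 100000

namespace CfsgLib.Chev.E6Alt

open Cfsg.Lie CfsgLib.Chev CfsgLib.Chev.AltSect

universe u

variable {F : Type u} [Field F] [Fintype F]

/-- a section of larger degree gives one of smaller degree -/
theorem section_le {G : Type*} [Group G] {a r : ℕ} (h : a ≤ r) (H : Subgroup G) (φ : ↥H →* alternatingGroup (Fin r))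
    (hφ : Function.Surjective φ) :
    ∃ (H' : Subgroup G) (φ' : ↥H' →* alternatingGroup (Fin a)), Function.Surjective φ' := by
  set R := (altEmb h).range
  let φ₀ : ↥(R.comap φ) →* alternatingGroup (Fin a) :=
    (MonoidHom.ofInjective (altEmb_injective h)).symm.toMonoidHom.comp (φ.subgroupComap R)
  have hsur : Function.Surjective (φ.subgroupComap R) := fun ⟨x, hx⟩ => by
    obtain ⟨y, rfl⟩ := hφ x
    exact ⟨⟨y, hx⟩, rfl⟩
  exact section_map (H.subtype.comp (R.comap φ).subtype) (H.subtype_injective.comp (Subgroup.subtype_injective _)) φ₀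
    (((MonoidHom.ofInjective (altEmb_injective h)).symm.surjective).comp hsur)

/-- **alternating sections of type E6** -/
theorem sections_E6 (p : ℕ) [hp : Fact p.Prime] [CharP F p] {r : ℕ} (H : Subgroup ↥(chevE6.group F))
    (φ : ↥H →* alternatingGroup (Fin r)) (hφ : Function.Surjective φ) :
    r ≤ 11 + (if p = 2 ∨ p = 3 ∨ p = 5 then 1 else 0) := by
  by_contra hr
  split_ifs at hr with h
  · obtain ⟨H', φ', h'⟩ := section_le (show 13 ≤ r by omega) H φ hφ
    exact not_thirteen p (by omega) H' φ' h'
  · obtain ⟨H', φ', h'⟩ := section_le (show 12 ≤ r by omega) H φ hφ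
    refine not_twelve p ?_ H' φ' h'
    have := hp.out.two_le
    rcases (show p = 2 ∨ p = 3 ∨ p = 4 ∨ 5 ≤ p by omega) with e | e | e | e
    · exact absurd (Or.inl e) h
    · exact absurd (Or.inr (Or.inl e)) h
    · exact absurd hp.out (e ▸ by decide)
    · exact e

/-- the twisted group sits inside the untwisted one -/
theorem twisted_le_group (K : Type u) [Field K] (q : ℕ) : twistedE6 K q ≤ chevE6.group K := by
  rw [twistedE6, genSubgroup_eq stdE6.good, Subgroup.closure_le]
  rintro y ⟨w, -, rfl⟩
  exact Subgroup.list_prod_mem _ fun z hz => by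
    obtain ⟨c, -, rfl⟩ := List.mem_map.1 hz
    exact xG_mem_group stdE6.good _ _

/-- **alternating sections of twisted type E6** -/
theorem sections_2E6 (p q : ℕ) [Fact p.Prime] [CharP F p] {r : ℕ} (H : Subgroup ↥(twistedE6 F q))
    (φ : ↥H →* alternatingGroup (Fin r)) (hφ : Function.Surjective φ) :
    r ≤ 11 + (if p = 2 ∨ p = 3 ∨ p = 5 then 1 else 0) := by
  obtain ⟨H', φ', h'⟩ := section_map ((Subgroup.inclusion (twisted_le_group F q)).comp H.subtype)
    ((Subgroup.inclusion_injective (twisted_le_group F q)).comp H.subtype_injective) φ hφ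
  exact sections_E6 p H' φ' h'

end CfsgLib.Chev.E6Alt
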